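import Mathlib.RingTheory.MvPolynomial.Basic
import Mathlib.RingTheory.AdjoinRoot
import Mathlib.RingTheory.Finiteness.Basic
import Mathlib.LinearAlgebra.Dimension.Free
import Mathlib.RingTheory.TensorProduct.Basic

/-! # Systems of monic equations in separate variables -/

set_option autoImplicit false

universe u

open MvPolynomial

namespace Groth.Agent.H23Wild

variable {R : Type u} [CommRing R]

/-- The ideal generated by `f i (X i)`. -/
noncomputable abbrev sysI {ι : Type} (f : ι → Polynomial R) : Ideal (MvPolynomial ι R) :=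
  Ideal.span (Set.range fun i => Polynomial.aeval (X i) (f i))

/-- `R[u_i] / (f i (u_i))`. -/
abbrev Sys {ι : Type} (f : ι → Polynomial R) : Type u := MvPolynomial ι R ⧸ sysI f

/-- The generators. -/
noncomputable abbrev gen {ι : Type} (f : ι → Polynomial R) (i : ι) : Sys f := Ideal.Quotient.mk _ (X i)

theorem aeval_gen {ι : Type} (f : ι → Polynomial R) (i : ι) : Polynomial.aeval (gen f i) (f i) = 0 := by
  show Polynomial.aeval (Ideal.Quotient.mkₐ R (sysI f) (X i)) (f i) = 0
  rw [Polynomial.aeval_algHom_apply]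
  exact Ideal.Quotient.eq_zero_iff_mem.mpr (Ideal.subset_span ⟨i, rfl⟩)

theorem algHom_ext {ι : Type} (f : ι → Polynomial R) {S : Type*} [Semiring S] [Algebra R S]
    {φ ψ : Sys f →ₐ[R] S} (h : ∀ i, φ (gen f i) = ψ (gen f i)) : φ = ψ :=
  Ideal.Quotient.algHom_ext R (MvPolynomial.algHom_ext h)

theorem exists_lift {ι : Type} (f : ι → Polynomial R) {S : Type*} [CommRing S] [Algebra R S] (v : ι → S)
    (hv : ∀ i, Polynomial.aeval (v i) (f i) = 0) : ∃ φ : Sys f →ₐ[R] S, ∀ i, φ (gen f i) = v i := by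
  refine ⟨Ideal.Quotient.liftₐ (sysI f) (MvPolynomial.aeval v) fun a ha => ?_, fun i => ?_⟩
  · have hle : sysI f ≤ RingHom.ker (MvPolynomial.aeval v) := Ideal.span_le.mpr (by
      rintro _ ⟨i, rfl⟩
      rw [SetLike.mem_coe, RingHom.mem_ker, ← Polynomial.aeval_algHom_apply, MvPolynomial.aeval_X, hv])
    exact hle ha
  · exact MvPolynomial.aeval_X v i

/-- One variable at a time. -/
theorem exists_equiv_adjoinRoot {n : ℕ} (f : Fin (n + 1) → Polynomial R) :
    ∃ e : Sys f ≃ₐ[R] AdjoinRoot ((f 0).map (algebraMap R (Sys fun i : Fin n => f i.succ))),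
      e (gen f 0) = AdjoinRoot.root _ ∧
        ∀ i : Fin n, e (gen f i.succ) = algebraMap (Sys fun i : Fin n => f i.succ) _ (gen (fun i : Fin n => f i.succ) i) := by
  let S := Sys fun i : Fin n => f i.succ
  let g : Polynomial S := (f 0).map (algebraMap R S)
  let v : Fin (n + 1) → AdjoinRoot g :=
    Fin.cons (AdjoinRoot.root g) fun i => algebraMap S _ (gen (fun i : Fin n => f i.succ) i)
  obtain ⟨Φ, hΦ⟩ := exists_lift f v fun i => by
    refine Fin.cases ?_ (fun j => ?_) i
    · rw [show v 0 = AdjoinRoot.root g from Fin.cons_zero _ _, ← Polynomial.aeval_map_algebraMap S,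
        AdjoinRoot.aeval_eq, AdjoinRoot.mk_self]
    · rw [show v j.succ = _ from Fin.cons_succ _ _ j,
        show algebraMap S (AdjoinRoot g) (gen _ j) = IsScalarTower.toAlgHom R S (AdjoinRoot g) (gen _ j) from rfl,
        Polynomial.aeval_algHom_apply, aeval_gen (fun i : Fin n => f i.succ) j, map_zero]
  obtain ⟨ι, hι⟩ := exists_lift (fun i : Fin n => f i.succ) (fun i => gen f i.succ) fun i => aeval_gen f i.succ
  have h0 : Polynomial.eval₂ (ι : S →+* Sys f) (gen f 0) g = 0 := by
    rw [Polynomial.eval₂_map, AlgHom.comp_algebraMap, ← Polynomial.aeval_def, aeval_gen]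
  let Ψ : AdjoinRoot g →ₐ[R] Sys f := AdjoinRoot.liftAlgHom g ι (gen f 0) h0
  have hΨr : Ψ (AdjoinRoot.root g) = gen f 0 := AdjoinRoot.liftAlgHom_root g ι (gen f 0) h0
  have hΨof : ∀ s : S, Ψ (algebraMap S _ s) = ι s := fun s => AdjoinRoot.liftAlgHom_of g ι (gen f 0) h0 s
  have h1 : Ψ.comp Φ = AlgHom.id R _ := algHom_ext f fun i => by
    rw [AlgHom.comp_apply, hΦ, AlgHom.id_apply]
    refine Fin.cases ?_ (fun j => ?_) i
    · exact hΨr
    · rw [show v j.succ = _ from Fin.cons_succ _ _ j, hΨof, hι]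
  have hs : ∀ s : S, Φ (ι s) = algebraMap S _ s := fun s => by
    have : Φ.comp ι = IsScalarTower.toAlgHom R S (AdjoinRoot g) := algHom_ext _ fun i => by
      rw [AlgHom.comp_apply, hι, hΦ]; exact Fin.cons_succ _ _ i
    exact AlgHom.congr_fun this s
  have h2 : Φ.comp Ψ = AlgHom.id R _ := by
    refine AlgHom.ext fun z => ?_
    obtain ⟨P, rfl⟩ := AdjoinRoot.mk_surjective z
    rw [← AdjoinRoot.aeval_eq]
    induction P using Polynomial.induction_on with
    | C s => rw [Polynomial.aeval_C, AlgHom.comp_apply, hΨof, hs]; rfl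
    | add a b ha hb => rw [map_add, map_add, map_add, ha, hb]
    | monomial m s _ =>
      rw [map_mul, map_pow, Polynomial.aeval_C, Polynomial.aeval_X, AlgHom.comp_apply, map_mul, map_pow, hΨr, hΨof,
        map_mul, map_pow, hs, hΦ]
      exact congrArg (fun t => _ * t ^ _) (Fin.cons_zero _ _)
  refine ⟨AlgEquiv.ofAlgHom Φ Ψ h2 h1, (hΦ 0).trans (Fin.cons_zero _ _), fun i => (hΦ i.succ).trans (Fin.cons_succ _ _ i)⟩

theorem free_finite_finrank [Nontrivial R] : ∀ {n : ℕ} (f : Fin n → Polynomial R), (∀ i, (f i).Monic) →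
    (∀ i, 1 ≤ (f i).natDegree) →
    Module.Free R (Sys f) ∧ Module.Finite R (Sys f) ∧ Module.finrank R (Sys f) = ∏ i, (f i).natDegree := by
  intro n
  induction n with
  | zero =>
    intro f _ _
    have hI : sysI f = ⊥ := by rw [sysI, Set.range_eq_empty, Ideal.span_empty]
    let e : Sys f ≃ₐ[R] R := ((Ideal.quotientEquivAlgOfEq R hI).trans (AlgEquiv.quotientBot R _)).trans
      (MvPolynomial.isEmptyAlgEquiv R (Fin 0))
    refine ⟨Module.Free.of_equiv e.toLinearEquiv.symm, Module.Finite.equiv e.toLinearEquiv.symm, ?_⟩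
    rw [e.toLinearEquiv.finrank_eq, Module.finrank_self, Finset.univ_eq_empty, Finset.prod_empty]
  | succ n ih =>
    intro f hf hd
    obtain ⟨hfree, hfin, hrk⟩ := ih (fun i => f i.succ) (fun i => hf _) (fun i => hd _)
    obtain ⟨e, -, -⟩ := exists_equiv_adjoinRoot f
    let S := Sys fun i : Fin n => f i.succ
    have hg : ((f 0).map (algebraMap R S)).Monic := (hf 0).map _
    have hpos : 0 < Module.finrank R S := by
      rw [hrk]; exact Finset.prod_pos fun i _ => hd _
    haveI : Nontrivial S := Module.nontrivial_of_finrank_pos hpos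
    haveI := hg.free_adjoinRoot
    haveI := hg.finite_adjoinRoot
    let T := AdjoinRoot ((f 0).map (algebraMap R S))
    haveI : Module.Free R T := Module.Free.trans (R := R) (S := S) (M := T)
    haveI : Module.Finite R T := Module.Finite.trans S T
    refine ⟨Module.Free.of_equiv e.toLinearEquiv.symm, Module.Finite.equiv e.toLinearEquiv.symm, ?_⟩
    rw [e.toLinearEquiv.finrank_eq, ← Module.finrank_mul_finrank R S T, hrk, Fin.prod_univ_succ,
      PowerBasis.finrank (AdjoinRoot.powerBasis' hg), AdjoinRoot.powerBasis'_dim, (hf 0).natDegree_map, mul_comm]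

end Groth.Agent.H23Wild
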