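import Groth.Agent.H23Wild.MonicSystem
import Groth.Agent.H02CA.PowerSeries
import Groth.Agent.H4Depth.Regular
import Groth.Agent.H24Adic.Rig
import Groth.Agent.H29Curve.Trdeg
import Groth.Agent.H26Grass.DimLemma
import Mathlib.FieldTheory.Finite.Basic
import Mathlib.Algebra.Polynomial.Taylor

/-! # Artin–Schreier families -/

set_option autoImplicit false

universe u

open MvPolynomial

namespace Groth.Agent.H23Wild

variable {R : Type u} [CommRing R] {n : ℕ} (p : ℕ)

/-- `T ^ p - c T - x`. -/
noncomputable def asF (c x : Fin n → R) (i : Fin n) : Polynomial R :=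
  Polynomial.X ^ p - Polynomial.C (c i) * Polynomial.X - Polynomial.C (x i)

theorem aeval_asF (c x : Fin n → R) (i : Fin n) {S : Type*} [CommRing S] [Algebra R S] (z : S) :
    Polynomial.aeval z (asF p c x i) = z ^ p - algebraMap R S (c i) * z - algebraMap R S (x i) := by
  simp [asF]

theorem sysI_asF (c x : Fin n → R) :
    sysI (asF p c x) = Ideal.span (Set.range fun i : Fin n => X i ^ p - C (c i) * X i - C (x i)) := by
  rw [sysI]
  congr 2
  funext i
  rw [aeval_asF]
  rfl

theorem monic_asF [hp : Fact p.Prime] [Nontrivial R] (c x : Fin n → R) (i : Fin n) :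
    (asF p c x i).Monic ∧ (asF p c x i).natDegree = p := by
  have h : (Polynomial.C (c i) * Polynomial.X + Polynomial.C (x i)).degree < (p : WithBot ℕ) :=
    (Polynomial.degree_linear_le).trans_lt (by exact_mod_cast hp.out.one_lt)
  rw [asF, sub_sub]
  exact ⟨Polynomial.monic_X_pow_sub h, by
    rw [Polynomial.natDegree_eq_of_degree_eq_some]
    rw [Polynomial.degree_sub_eq_left_of_degree_lt (by rwa [Polynomial.degree_X_pow]), Polynomial.degree_X_pow]⟩

theorem free_as [Fact p.Prime] [Nontrivial R] (c x : Fin n → R) :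
    Module.Free R (Sys (asF p c x)) ∧ Module.Finite R (Sys (asF p c x)) ∧
      Module.finrank R (Sys (asF p c x)) = p ^ n := by
  obtain ⟨h1, h2, h3⟩ := free_finite_finrank (asF p c x) (fun i => (monic_asF p c x i).1)
    (fun i => by rw [(monic_asF p c x i).2]; exact Nat.Prime.one_le Fact.out)
  refine ⟨h1, h2, h3.trans ?_⟩
  simp [(monic_asF p c x _).2]

theorem algebraMap_injective_as [Fact p.Prime] [Nontrivial R] (c x : Fin n → R) :
    Function.Injective (algebraMap R (Sys (asF p c x))) := by
  obtain ⟨h1, h2, h3⟩ := free_as p c x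
  haveI : Nontrivial (Sys (asF p c x)) :=
    Module.nontrivial_of_finrank_pos (R := R) (by rw [h3]; exact pow_pos (Nat.Prime.pos Fact.out) n)
  exact FaithfulSMul.algebraMap_injective R _

theorem map_x_le [hp : Fact p.Prime] (c x : Fin n → R) : (Ideal.span (Set.range x)).map (algebraMap R (Sys (asF p c x))) ≤
    Ideal.span (Set.range (gen (asF p c x))) := by
  rw [Ideal.map_span, Ideal.span_le]
  rintro _ ⟨_, ⟨i, rfl⟩, rfl⟩
  have h := aeval_gen (asF p c x) i
  rw [aeval_asF, sub_eq_zero] at h
  rw [SetLike.mem_coe, ← h]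
  have hm : gen (asF p c x) i ∈ Ideal.span (Set.range (gen (asF p c x))) := Ideal.subset_span ⟨i, rfl⟩
  exact sub_mem (Ideal.pow_mem_of_mem _ hm p hp.out.pos) (Ideal.mul_mem_left _ _ hm)

section Local

variable [hp : Fact p.Prime] [IsLocalRing R] (c x : Fin n → R)
  (hc : ∀ i, c i ∈ IsLocalRing.maximalIdeal R) (hx : Ideal.span (Set.range x) = IsLocalRing.maximalIdeal R)

include hc hx in
theorem gen_pow_mem (i : Fin n) :
    gen (asF p c x) i ^ p ∈ (IsLocalRing.maximalIdeal R).map (algebraMap R (Sys (asF p c x))) := by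
  have h := aeval_gen (asF p c x) i
  rw [aeval_asF, sub_eq_zero, sub_eq_iff_eq_add] at h
  rw [h]
  exact add_mem (Ideal.mem_map_of_mem _ (hx ▸ Ideal.subset_span ⟨i, rfl⟩))
    (Ideal.mul_mem_right _ _ (Ideal.mem_map_of_mem _ (hc i)))

include hc hx in
theorem exists_pow_gen_le : ∃ N : ℕ, Ideal.span (Set.range (gen (asF p c x))) ^ N ≤
    (IsLocalRing.maximalIdeal R).map (algebraMap R (Sys (asF p c x))) := by
  refine Ideal.exists_pow_le_of_le_radical_of_fg (Ideal.span_le.mpr ?_)
    (Submodule.fg_span (Set.finite_range _))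
  rintro _ ⟨i, rfl⟩
  exact ⟨p, gen_pow_mem p c x hc hx i⟩

include hp in
theorem exists_sub_mem (z : Sys (asF p c x)) :
    ∃ r : R, z - algebraMap R _ r ∈ Ideal.span (Set.range (gen (asF p c x))) := by
  obtain ⟨P, rfl⟩ := Ideal.Quotient.mk_surjective z
  induction P using MvPolynomial.induction_on with
  | C r =>
    refine ⟨r, ?_⟩
    rw [show Ideal.Quotient.mk _ (C r) = algebraMap R (Sys (asF p c x)) r from rfl, sub_self]
    exact zero_mem _
  | add a b ha hb =>
    obtain ⟨r, hr⟩ := ha; obtain ⟨s, hs⟩ := hb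
    exact ⟨r + s, by rw [map_add, map_add, add_sub_add_comm]; exact add_mem hr hs⟩
  | mul_X a i _ =>
    refine ⟨0, ?_⟩
    rw [map_zero, sub_zero, map_mul]
    exact Ideal.mul_mem_left _ _ (Ideal.subset_span ⟨i, rfl⟩)

include hc hx in
theorem isLocal_as : IsLocalRing (Sys (asF p c x)) ∧
    (Ideal.span (Set.range (gen (asF p c x)))).IsMaximal := by
  have hinj := algebraMap_injective_as p c x
  haveI := hinj.nontrivial
  haveI := (free_as p c x).2.1
  set U := Ideal.span (Set.range (gen (asF p c x))) with hU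
  have key : ∀ M : Ideal (Sys (asF p c x)), M.IsMaximal → M = U := fun M hM => by
    have hcomap : M.comap (algebraMap R (Sys (asF p c x))) = IsLocalRing.maximalIdeal R :=
      IsLocalRing.eq_maximalIdeal (Ideal.isMaximal_comap_of_isIntegral_of_isMaximal M)
    have hmap : (IsLocalRing.maximalIdeal R).map (algebraMap R (Sys (asF p c x))) ≤ M :=
      Ideal.map_le_iff_le_comap.mpr hcomap.ge
    refine le_antisymm (fun z hz => ?_) (Ideal.span_le.mpr ?_)
    · obtain ⟨r, hr⟩ := exists_sub_mem p c x z
      by_cases hrm : r ∈ IsLocalRing.maximalIdeal R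
      · have := add_mem hr (map_x_le p c x (Ideal.mem_map_of_mem _ (hx.ge hrm)))
        rwa [sub_add_cancel] at this
      · exfalso
        have hUM : U ≤ M := Ideal.span_le.mpr (by
          rintro _ ⟨i, rfl⟩
          exact hM.isPrime.mem_of_pow_mem p (hmap (gen_pow_mem p c x hc hx i)))
        have h := sub_mem hz (hUM hr)
        rw [sub_sub_cancel] at h
        exact hrm (hcomap ▸ h)
    · rintro _ ⟨i, rfl⟩
      exact hM.isPrime.mem_of_pow_mem p (hmap (gen_pow_mem p c x hc hx i))
  obtain ⟨M, hM⟩ := Ideal.exists_maximal (Sys (asF p c x))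
  exact ⟨IsLocalRing.of_unique_max_ideal ⟨M, hM, fun M' hM' => (key M' hM').trans (key M hM).symm⟩, key M hM ▸ hM⟩

end Local

section PowerSeries

variable {k : Type u} [Field k] [hp : Fact p.Prime] (c : Fin n → MvPowerSeries (Fin n) k)
  (hc : ∀ i, MvPowerSeries.constantCoeff (c i) = 0)

include hp hc in
theorem isRegularLocalRing_as :
    IsRegularLocalRing (Sys (asF p c MvPowerSeries.X)) ∧
      (Ideal.span (Set.range (gen (asF p c MvPowerSeries.X)))).IsMaximal := by
  have hx := (H02CA.PS.maximalIdeal_eq_vars (σ := Fin n) (k := k)).symm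
  have hc' : ∀ i, c i ∈ IsLocalRing.maximalIdeal (MvPowerSeries (Fin n) k) := fun i => by
    rw [H02CA.PS.maximalIdeal_eq_vars, H02CA.PS.mem_vars_iff]; exact hc i
  obtain ⟨hloc, hmax⟩ := isLocal_as p c MvPowerSeries.X hc' hx
  refine ⟨?_, hmax⟩
  haveI := (free_as p c MvPowerSeries.X).2.1
  haveI := H02CA.PS.isRegularLocalRing_fin (k := k) n
  haveI : IsNoetherianRing (Sys (asF p c MvPowerSeries.X)) := IsNoetherianRing.of_finite (MvPowerSeries (Fin n) k) _
  refine IsRegularLocalRing.of_spanFinrank_maximalIdeal_le _ ?_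
  rw [← IsLocalRing.eq_maximalIdeal hmax]
  have h1 := Submodule.spanFinrank_span_le_ncard_of_finite (R := Sys (asF p c MvPowerSeries.X))
    (Set.finite_range (gen (asF p c MvPowerSeries.X)))
  have h2 : (Set.range (gen (asF p c MvPowerSeries.X))).ncard ≤ n := by
    rw [← Set.image_univ]
    exact (Set.ncard_image_le Set.finite_univ).trans (by simp [Set.ncard_univ])
  refine (WithBot.coe_le_coe.mpr (Nat.cast_le.mpr (h1.trans h2))).trans ?_
  refine (H02CA.PS.le_ringKrullDim (k := k) n).trans ?_
  exact H29Curve.ringKrullDim_le_of_isIntegral (algebraMap (MvPowerSeries (Fin n) k) _)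
    Algebra.IsIntegral.isIntegral (algebraMap_injective_as p c MvPowerSeries.X)

include hp hc in
theorem isDomain_as : IsDomain (Sys (asF p c MvPowerSeries.X)) :=
  haveI := (isRegularLocalRing_as p c hc).1
  H4Depth.isDomain_of_isRegularLocalRing _

include hp hc in
theorem isAdicComplete_as : IsAdicComplete (Ideal.span (Set.range (gen (asF p c MvPowerSeries.X))))
    (Sys (asF p c MvPowerSeries.X)) := by
  have hx := (H02CA.PS.maximalIdeal_eq_vars (σ := Fin n) (k := k)).symm
  have hc' : ∀ i, c i ∈ IsLocalRing.maximalIdeal (MvPowerSeries (Fin n) k) := fun i => by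
    rw [H02CA.PS.maximalIdeal_eq_vars, H02CA.PS.mem_vars_iff]; exact hc i
  haveI := (free_as p c MvPowerSeries.X).2.1
  haveI := H02CA.PS.isRegularLocalRing_fin (k := k) n
  haveI : IsAdicComplete (IsLocalRing.maximalIdeal (MvPowerSeries (Fin n) k)) (MvPowerSeries (Fin n) k) := by
    rw [H02CA.PS.maximalIdeal_eq_vars]; infer_instance
  haveI : IsAdicComplete (IsLocalRing.maximalIdeal (MvPowerSeries (Fin n) k)) (Sys (asF p c MvPowerSeries.X)) :=
    H24Adic.isAdicComplete_of_finite _
  haveI : IsAdicComplete ((IsLocalRing.maximalIdeal (MvPowerSeries (Fin n) k)).map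
      (algebraMap _ (Sys (asF p c MvPowerSeries.X)))) (Sys (asF p c MvPowerSeries.X)) :=
    (IsAdicComplete.map_algebraMap_iff _ _).mpr inferInstance
  obtain ⟨N, hN⟩ := exists_pow_gen_le p c MvPowerSeries.X hc' hx
  refine H24Adic.isAdicComplete_of_pow_le (a := N) (b := 1) (I := (IsLocalRing.maximalIdeal (MvPowerSeries (Fin n) k)).map
      (algebraMap _ (Sys (asF p c MvPowerSeries.X)))) hN ?_ _
  rw [pow_one, ← hx]
  exact map_x_le p c MvPowerSeries.X

end PowerSeries

end Groth.Agent.H23Wild
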