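import Groth.Agent.H23Wild.FrobClosure
import Mathlib.RingTheory.Henselian
import Mathlib.FieldTheory.Galois.Basic

/-! # Artin–Schreier equations over complete regular rings with closed residue field -/

set_option autoImplicit false

universe u v

open IsLocalRing Polynomial

namespace Groth.Agent.H23Wild.ASRoot

theorem exists_root_of_no_galois (p : ℕ) [Fact p.Prime] {k : Type v} [Field k] [CharP k p]
    (hkp : ∀ (L : Type v) [Field L] [Algebra k L], IsGalois k L → Module.finrank k L ≠ p) (c : k) :
    ∃ l : k, l ^ p - l = c := by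
  classical
  by_contra hno
  have hp := (Fact.out : p.Prime)
  let f : k[X] := X ^ p - (X + C c)
  have hdegXC : (X + C c).degree < (p : WithBot ℕ) := by rw [degree_X_add_C]; exact_mod_cast hp.one_lt
  have hf : f.Monic := monic_X_pow_sub hdegXC
  have hfd : f.natDegree = p := by
    rw [natDegree_eq_of_degree_eq_some]
    rw [degree_sub_eq_left_of_degree_lt (by rwa [degree_X_pow]), degree_X_pow]
  have hsep : f.Separable := by
    refine ⟨0, -1, ?_⟩
    simp [f, derivative_X_pow, CharP.cast_eq_zero]
  let L := f.SplittingField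
  haveI : IsGalois k L := IsGalois.of_separable_splitting_field hsep
  haveI : CharP L p := charP_of_injective_algebraMap (algebraMap k L).injective p
  haveI : Algebra (ZMod p) L := ZMod.algebra L p
  have hs := SplittingField.splits f
  obtain ⟨α, hα⟩ := hs.exists_eval_eq_zero (by
    rw [degree_map, degree_eq_natDegree hf.ne_zero, hfd]; exact_mod_cast hp.ne_zero)
  have hαeq : α ^ p - α = algebraMap k L c := by
    simp only [f, eval_map, eval₂_sub, eval₂_add, eval₂_X_pow, eval₂_X, eval₂_C] at hα
    linear_combination hα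
  have hroots : ∀ β : L, aeval β f = 0 → ∃ i : ZMod p, β = α + algebraMap (ZMod p) L i := by
    intro β hβ
    have hβeq : β ^ p - β = algebraMap k L c := by
      simp only [f, map_sub, map_add, map_pow, aeval_X, aeval_C] at hβ
      linear_combination hβ
    have hd : (β - α) ^ p = β - α := by rw [sub_pow_char]; linear_combination hβeq - hαeq
    rw [← Subfield.mem_bot_iff_pow_eq_self, ← ZMod.fieldRange_castHom_eq_bot (K := L) p] at hd
    obtain ⟨i, hi⟩ := hd
    refine ⟨i, ?_⟩
    rw [show algebraMap (ZMod p) L i = ZMod.castHom (dvd_refl p) L i from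
      RingHom.congr_fun (Subsingleton.elim _ _) i, hi, add_sub_cancel]
  have hint : IsIntegral k α := Algebra.IsIntegral.isIntegral α
  have hroot : aeval α f = 0 := by
    simp only [f, map_sub, map_add, map_pow, aeval_X, aeval_C]; linear_combination hαeq
  set g := minpoly k α
  have hgf : g ∣ f := minpoly.dvd k α hroot
  have hgs : (g.map (algebraMap k L)).Splits := hs.of_dvd (map_ne_zero hf.ne_zero) (Polynomial.map_dvd _ hgf)
  have hsum := hgs.nextCoeff_eq_neg_sum_roots_of_monic ((minpoly.monic hint).map _)
  have hr : ∀ β ∈ (g.map (algebraMap k L)).roots, ∃ i : ZMod p, β = α + algebraMap (ZMod p) L i := fun β hβ => by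
    refine hroots β ?_
    obtain ⟨q, hq⟩ := hgf
    have : aeval β g = 0 := by
      rw [aeval_def, ← eval_map]
      exact (mem_roots'.mp hβ).2
    exact (congrArg (aeval β) hq).trans (by rw [map_mul, this, zero_mul])
  choose i hi using hr
  have hcard : (g.map (algebraMap k L)).roots.card = g.natDegree := by
    rw [← hgs.natDegree_eq_card_roots, natDegree_map]
  have hle : g.natDegree ≤ p := hfd ▸ natDegree_le_of_dvd hgf hf.ne_zero
  have hpos : 0 < g.natDegree := minpoly.natDegree_pos hint
  have hgd : g.natDegree = p := by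
    by_contra hne
    have hd : (g.natDegree : k) ≠ 0 := by
      rw [Ne, CharP.cast_eq_zero_iff k p]
      exact fun h => absurd (Nat.le_of_dvd hpos h) (by omega)
    have hsum' : (g.map (algebraMap k L)).roots.sum = g.natDegree • α +
        algebraMap (ZMod p) L (((g.map (algebraMap k L)).roots.attach.map fun b => i b.1 b.2).sum) := by
      conv_lhs => rw [← (g.map (algebraMap k L)).roots.attach_map_val]
      rw [Multiset.map_congr rfl (fun b _ => hi b.1 b.2), Multiset.sum_map_add, Multiset.map_const', Multiset.sum_replicate,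
        Multiset.card_attach, hcard, map_multiset_sum, Multiset.map_map]
      rfl
    refine hno ⟨(-g.nextCoeff - (ZMod.castHom (dvd_refl p) k
      ((g.map (algebraMap k L)).roots.attach.map fun b => i b.1 b.2).sum)) / g.natDegree, ?_⟩
    have hαk : algebraMap k L ((-g.nextCoeff - (ZMod.castHom (dvd_refl p) k
        ((g.map (algebraMap k L)).roots.attach.map fun b => i b.1 b.2).sum)) / g.natDegree) = α := by
      rw [map_div₀, map_sub, map_neg, map_natCast, div_eq_iff (by
        rw [← map_natCast (algebraMap k L)]; exact fun h => hd ((algebraMap k L).injective (h.trans (map_zero _).symm))),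
        ← RingHom.comp_apply, show (algebraMap k L).comp (ZMod.castHom (dvd_refl p) k) = algebraMap (ZMod p) L from
          Subsingleton.elim _ _, ← nextCoeff_map (algebraMap k L).injective, hsum, hsum', nsmul_eq_mul]
      ring
    refine (algebraMap k L).injective ?_
    rw [map_sub, map_pow, hαk, hαeq]
  refine hkp L inferInstance ?_
  have htop : IntermediateField.adjoin k {α} = ⊤ := by
    refine eq_top_iff.mpr fun z _ => ?_
    have hz : z ∈ Algebra.adjoin k (f.rootSet L) := by rw [SplittingField.adjoin_rootSet]; trivial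
    refine Algebra.adjoin_le (S := (IntermediateField.adjoin k {α}).toSubalgebra) ?_ hz
    intro β hβ
    obtain ⟨j, rfl⟩ := hroots β (mem_rootSet.mp hβ).2
    refine add_mem (IntermediateField.mem_adjoin_simple_self k α) ?_
    rw [show algebraMap (ZMod p) L j = algebraMap k L (ZMod.castHom (dvd_refl p) k j) from
      RingHom.congr_fun (Subsingleton.elim _ ((algebraMap k L).comp (ZMod.castHom (dvd_refl p) k))) j]
    exact (IntermediateField.adjoin k {α}).algebraMap_mem _
  rw [← IntermediateField.finrank_top', ← htop, IntermediateField.adjoin.finrank hint, hgd]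

variable {A : Type u} [CommRing A] [IsRegularLocalRing A] [IsAdicComplete (maximalIdeal A) A]

theorem exists_equiv {k : Type u} [Field k] [Algebra k A] (hk : Function.Surjective (residue A ∘ algebraMap k A)) :
    ∃ (n : ℕ), Nonempty (MvPowerSeries (Fin n) k ≃+* A) := by
  obtain ⟨n, x, hn, hx⟩ := H4Depth.exists_regular_system_of_parameters A
  obtain ⟨φ, hφ⟩ := H02CA.PS.exists_algHom (R := k) (σ := Fin n) (maximalIdeal A) x
    fun i => hx ▸ Ideal.subset_span ⟨i, rfl⟩
  obtain ⟨d, b, hd, hb⟩ := S15801.result A n hn k hk x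
    (by rw [hx]; exact (maximalIdeal.isMaximal A).isPrime.radical) φ hφ
  haveI : IsSimpleModule A (A ⧸ maximalIdeal A) :=
    isSimpleModule_iff_quot_maximal.mpr ⟨_, inferInstance, ⟨LinearEquiv.refl _ _⟩⟩
  rw [hx, Module.length_eq_one A (A ⧸ maximalIdeal A)] at hd
  obtain rfl : d = 1 := by exact_mod_cast hd
  obtain ⟨r, hr⟩ := hb.2 1
  simp only [Fin.sum_univ_one] at hr
  refine ⟨n, ⟨RingEquiv.ofBijective φ.toRingHom ⟨fun s t h => ?_, fun a => ?_⟩⟩⟩
  · exact congrFun (hb.1 (a₁ := fun _ => s) (a₂ := fun _ => t) (by
      simp only [Fin.sum_univ_one]; exact congrArg (· * b 0) h)) 0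
  · obtain ⟨s, hs⟩ := hb.2 (a * b 0)
    simp only [Fin.sum_univ_one] at hs
    refine ⟨s 0, ?_⟩
    show φ (s 0) = a
    linear_combination (φ (r 0)) * hs - (φ (s 0) - a) * hr

variable (p : ℕ) [Fact p.Prime] [CharP A p]

theorem frobenius_closed {k : Type v} [Field k] [Algebra k A] (hk : Function.Surjective (residue A ∘ algebraMap k A))
    {a b y : A} (ha : a ≠ 0) (h : y ^ p - (a * b) ^ (p - 1) * y ∈ Ideal.span {a ^ p, b ^ p}) :
    y ∈ Ideal.span {a, b} := by
  let k₀ := (algebraMap k A).range
  have hinj : Function.Injective (algebraMap k A) := (algebraMap k A).injective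
  let e : k ≃+* k₀ := RingEquiv.ofBijective (algebraMap k A).rangeRestrict
    ⟨fun a b h => hinj (congrArg Subtype.val h), (algebraMap k A).rangeRestrict_surjective⟩
  letI : Field k₀ := (MulEquiv.isField (Field.toIsField k) e.symm.toMulEquiv).toField
  haveI : CharP k₀ p := RingHom.charP (algebraMap k₀ A) Subtype.val_injective p
  obtain ⟨n, ⟨E⟩⟩ := exists_equiv (A := A) (k := k₀) fun z => by
    obtain ⟨c, hc⟩ := hk z
    exact ⟨e c, hc⟩
  exact Closure.mem_span_pair_of_frobenius p E ha h

theorem exists_as_root {k : Type v} [Field k] [Algebra k A] (hk : Function.Surjective (residue A ∘ algebraMap k A))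
    (hkp : ∀ (L : Type v) [Field L] [Algebra k L], IsGalois k L → Module.finrank k L ≠ p) (a : A) :
    ∃ w : A, w ^ p - w = a := by
  have hp := (Fact.out : p.Prime)
  haveI : CharP k p := RingHom.charP (algebraMap k A) (algebraMap k A).injective p
  obtain ⟨c, hc⟩ := hk (residue A a)
  obtain ⟨l, hl⟩ := exists_root_of_no_galois p hkp c
  let f : A[X] := X ^ p - (X + C a)
  have hdeg : (X + C a).degree < (p : WithBot ℕ) := by rw [degree_X_add_C]; exact_mod_cast hp.one_lt
  obtain ⟨w, hw, -⟩ := HenselianRing.is_henselian (I := maximalIdeal A) f (monic_X_pow_sub hdeg) (algebraMap k A l)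
    (by
      have hm : algebraMap k A c - a ∈ maximalIdeal A := Ideal.Quotient.eq.mp hc
      simp only [f, eval_sub, eval_add, eval_pow, eval_X, eval_C]
      convert hm using 1
      rw [← hl, map_sub, map_pow]; ring)
    (by simp [f, derivative_X_pow, CharP.cast_eq_zero])
  refine ⟨w, ?_⟩
  simp only [f, IsRoot, eval_sub, eval_add, eval_pow, eval_X, eval_C] at hw
  linear_combination hw

end Groth.Agent.H23Wild.ASRoot
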