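import Mathlib.AlgebraicGeometry.Morphisms.Finite
import Mathlib.AlgebraicGeometry.Morphisms.Flat
import Mathlib.AlgebraicGeometry.Noetherian
import Mathlib.RingTheory.Ideal.AssociatedPrime.Localization
import Mathlib.RingTheory.Flat.EquationalCriterion
import Mathlib.Algebra.Module.FinitePresentation
import Mathlib.Algebra.Module.Projective
import Mathlib.RingTheory.Finiteness.Projective

/-! # Maps out of finite flat schemes are detected at the associated points of the base -/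

set_option autoImplicit false

universe u

open AlgebraicGeometry CategoryTheory

namespace Groth.Agent.H23Wild

theorem mem_associatedPrimes_of_projective {A : Type*} [CommRing A] [IsNoetherianRing A] {M : Type*} [AddCommGroup M]
    [Module A M] [Module.Finite A M] [Module.Projective A M] {P : Ideal A} (hP : P ∈ associatedPrimes A M) :
    P ∈ associatedPrimes A A := by
  obtain ⟨n, f, g, hf, hg, hfg⟩ := Module.Finite.exists_comp_eq_id_of_projective A M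
  obtain ⟨hprime, v, hv⟩ := isAssociatedPrime_iff.mp (associatedPrimes.subset_of_injective hg hP)
  have hle : Finset.univ.inf (fun i => (⊥ : Submodule A A).colon {v i}) ≤ P := fun r hr => by
    rw [Finset.inf_eq_iInf, Ideal.mem_iInf] at hr
    rw [hv, Submodule.mem_colon_singleton, Submodule.mem_bot]
    funext i
    have := Ideal.mem_iInf.mp (hr i) (Finset.mem_univ i)
    rwa [Submodule.mem_colon_singleton, Submodule.mem_bot] at this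
  obtain ⟨i, -, hi⟩ := (Ideal.IsPrime.inf_le' hprime).mp hle
  refine isAssociatedPrime_iff.mpr ⟨hprime, v i, le_antisymm (fun r hr => ?_) hi⟩
  rw [hv, Submodule.mem_colon_singleton, Submodule.mem_bot] at hr
  rw [Submodule.mem_colon_singleton, Submodule.mem_bot]
  exact congrFun hr i

theorem mem_of_associatedPrime {S : Scheme.{u}} {V U : S.Opens} (hV : IsAffineOpen V)
    (hU : ∀ s : S, IsLocalRing.maximalIdeal (S.presheaf.stalk s) ∈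
        associatedPrimes (S.presheaf.stalk s) (S.presheaf.stalk s) → s ∈ U)
    (P : Ideal Γ(S, V)) [hP : P.IsPrime] (h : P ∈ associatedPrimes Γ(S, V) Γ(S, V)) :
    ∃ a, S.basicOpen a ≤ U ∧ a ∉ P := by
  let y : PrimeSpectrum Γ(S, V) := ⟨P, hP⟩
  have hy : hV.fromSpec y ∈ V := hV.range_fromSpec.le ⟨y, rfl⟩
  letI := TopCat.Presheaf.algebra_section_stalk S.presheaf (⟨hV.fromSpec y, hy⟩ : V)
  have hloc : IsLocalization.AtPrime (S.presheaf.stalk (hV.fromSpec y)) P := hV.isLocalization_stalk' y hy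
  haveI : IsLocalization P.primeCompl (S.presheaf.stalk (hV.fromSpec y)) := hloc
  have hm : (IsLocalRing.maximalIdeal (S.presheaf.stalk (hV.fromSpec y))).comap (algebraMap Γ(S, V) _) = P :=
    IsLocalization.AtPrime.comap_maximalIdeal (S.presheaf.stalk (hV.fromSpec y)) P
  have hmem : hV.fromSpec y ∈ U := hU _
    (Module.associatedPrimes.mem_associatedPrimes_of_comap_mem_associatedPrimes_of_isLocalizedModule
      P.primeCompl (Algebra.linearMap Γ(S, V) (S.presheaf.stalk (hV.fromSpec y))) _ (hm.symm ▸ h))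
  obtain ⟨a, ha, hya⟩ := hV.exists_basicOpen_le ⟨hV.fromSpec y, hmem⟩ hy
  refine ⟨a, ha, ?_⟩
  have h2 : y ∈ hV.fromSpec ⁻¹ᵁ S.basicOpen a := hya
  rw [hV.fromSpec_preimage_basicOpen] at h2
  exact h2

theorem hom_eq_of_ass (S G₁ G₂ : Scheme.{u}) [AlgebraicGeometry.IsNoetherian S] (f₁ : G₁ ⟶ S) (f₂ : G₂ ⟶ S)
    [AlgebraicGeometry.IsFinite f₁] [AlgebraicGeometry.Flat f₁] [AlgebraicGeometry.IsFinite f₂]
    (U : S.Opens)
    (hU : ∀ s : S, IsLocalRing.maximalIdeal (S.presheaf.stalk s) ∈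
        associatedPrimes (S.presheaf.stalk s) (S.presheaf.stalk s) → s ∈ U)
    (φ ψ : G₁ ⟶ G₂) (hφ : φ ≫ f₂ = f₁) (hψ : ψ ≫ f₂ = f₁)
    (h : (f₁ ⁻¹ᵁ U).ι ≫ φ = (f₁ ⁻¹ᵁ U).ι ≫ ψ) : φ = ψ := by
  refine Scheme.hom_ext_of_forall _ _ fun x => ?_
  obtain ⟨V, hV, hxV, -⟩ := exists_isAffineOpen_mem_and_subset (TopologicalSpace.Opens.mem_top (f₁ x))
  refine ⟨f₁ ⁻¹ᵁ V, hxV, ?_⟩
  have hW₂ : IsAffineOpen (f₂ ⁻¹ᵁ V) := hV.preimage f₂
  have hW₁ : IsAffineOpen (f₁ ⁻¹ᵁ V) := hV.preimage f₁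
  have e : ∀ χ : G₁ ⟶ G₂, χ ≫ f₂ = f₁ → f₁ ⁻¹ᵁ V ≤ χ ⁻¹ᵁ (f₂ ⁻¹ᵁ V) := fun χ hχ => by
    rw [← Scheme.Hom.comp_preimage, hχ]
  rw [← Scheme.Hom.resLE_comp_ι φ (e φ hφ), ← Scheme.Hom.resLE_comp_ι ψ (e ψ hψ)]
  congr 1
  haveI : IsAffine (f₂ ⁻¹ᵁ V : G₂.Opens).toScheme := hW₂
  refine ext_of_isAffine ?_
  simp only [Scheme.Hom.appTop, Scheme.Hom.resLE_app_top]
  congr 2
  refine CommRingCat.hom_ext (RingHom.ext fun c => sub_eq_zero.mp ?_)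
  haveI : IsNoetherianRing Γ(S, V) := IsLocallyNoetherian.component_noetherian ⟨V, hV⟩
  letI : Algebra Γ(S, V) Γ(G₁, f₁ ⁻¹ᵁ V) := (f₁.app V).hom.toAlgebra
  haveI : Module.Finite Γ(S, V) Γ(G₁, f₁ ⁻¹ᵁ V) := f₁.finite_app V hV
  haveI : Module.Flat Γ(S, V) Γ(G₁, f₁ ⁻¹ᵁ V) := by
    have hfl := HasRingHomProperty.appLE @Flat f₁ inferInstance ⟨V, hV⟩ ⟨f₁ ⁻¹ᵁ V, hW₁⟩ le_rfl
    rwa [← Scheme.Hom.app_eq_appLE] at hfl
  haveI : Module.FinitePresentation Γ(S, V) Γ(G₁, f₁ ⁻¹ᵁ V) := Module.finitePresentation_of_finite _ _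
  haveI : Module.Projective Γ(S, V) Γ(G₁, f₁ ⁻¹ᵁ V) := Module.Flat.projective_of_finitePresentation
  by_contra hd
  obtain ⟨P, hP, hle⟩ := exists_le_isAssociatedPrime_of_isNoetherianRing Γ(S, V) _ hd
  haveI := hP.isPrime
  obtain ⟨a, ha, haP⟩ := mem_of_associatedPrime hV hU P (mem_associatedPrimes_of_projective hP)
  -- the difference vanishes on the preimage of `D(a)`
  let D := G₁.basicOpen ((f₁.app V).hom a)
  have hD : D = f₁ ⁻¹ᵁ S.basicOpen a := (Scheme.preimage_basicOpen f₁ a).symm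
  have hDV : D ≤ f₁ ⁻¹ᵁ V := G₁.basicOpen_le _
  have hDU : D ≤ f₁ ⁻¹ᵁ U := hD.le.trans (Scheme.Hom.preimage_mono f₁ ha)
  have hι : D.ι ≫ φ = D.ι ≫ ψ := by
    rw [← G₁.homOfLE_ι hDU, Category.assoc, h, Category.assoc]
  have happ : φ.appLE (f₂ ⁻¹ᵁ V) D (hDV.trans (e φ hφ)) = ψ.appLE (f₂ ⁻¹ᵁ V) D (hDV.trans (e ψ hψ)) := by
    have hT : ∀ χ : G₁ ⟶ G₂, (hχ : D ≤ χ ⁻¹ᵁ (f₂ ⁻¹ᵁ V)) → (⊤ : D.toScheme.Opens) ≤ (D.ι ≫ χ) ⁻¹ᵁ (f₂ ⁻¹ᵁ V) :=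
      fun χ hχ z _ => hχ z.2
    have key : ∀ χ : G₁ ⟶ G₂, ∀ hχ : D ≤ χ ⁻¹ᵁ (f₂ ⁻¹ᵁ V),
        χ.appLE (f₂ ⁻¹ᵁ V) D hχ ≫ D.ι.appLE D ⊤ (fun z _ => z.2) = (D.ι ≫ χ).appLE (f₂ ⁻¹ᵁ V) ⊤ (hT χ hχ) :=
      fun χ hχ => Scheme.Hom.appLE_comp_appLE _ _ _ _ _ _ _
    haveI : Mono (D.ι.appLE D ⊤ (fun z _ => z.2)) := by
      rw [Scheme.Opens.ι_appLE]
      have he : D.ι ''ᵁ ⊤ = D := D.ι_image_top
      exact (inferInstance : Mono (G₁.presheaf.map (eqToHom he).op))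
    rw [← cancel_mono (D.ι.appLE D ⊤ (fun z _ => z.2)), key, key]
    simp only [hι]
  have hres : ∀ χ : G₁ ⟶ G₂, ∀ hχ : f₁ ⁻¹ᵁ V ≤ χ ⁻¹ᵁ (f₂ ⁻¹ᵁ V),
      G₁.presheaf.map (homOfLE hDV).op ((χ.appLE (f₂ ⁻¹ᵁ V) (f₁ ⁻¹ᵁ V) hχ).hom c) =
        (χ.appLE (f₂ ⁻¹ᵁ V) D (hDV.trans hχ)).hom c := fun χ hχ => by
    rw [← Scheme.Hom.appLE_map χ hχ (homOfLE hDV).op]
    rfl
  haveI := hW₁.isLocalization_basicOpen ((f₁.app V).hom a)
  obtain ⟨⟨_, m, rfl⟩, hm⟩ := (IsLocalization.map_eq_zero_iff (Submonoid.powers ((f₁.app V).hom a)) Γ(G₁, D) _).mp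
    (show algebraMap Γ(G₁, f₁ ⁻¹ᵁ V) Γ(G₁, D)
      ((φ.appLE (f₂ ⁻¹ᵁ V) (f₁ ⁻¹ᵁ V) (e φ hφ)).hom c - (ψ.appLE (f₂ ⁻¹ᵁ V) (f₁ ⁻¹ᵁ V) (e ψ hψ)).hom c) = 0 by
      rw [map_sub]
      show G₁.presheaf.map (homOfLE hDV).op _ - G₁.presheaf.map (homOfLE hDV).op _ = 0
      rw [hres, hres, happ, sub_self])
  refine haP (hP.isPrime.mem_of_pow_mem m (hle ?_))
  rw [Submodule.mem_colon_singleton, Submodule.mem_bot, Algebra.smul_def, map_pow]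
  exact hm

end Groth.Agent.H23Wild
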