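import Groth.Agent.H23Wild.AS

/-! # Automorphisms of Artin–Schreier families -/

set_option autoImplicit false

universe u

open MvPolynomial

namespace Groth.Agent.H23Wild

variable {R : Type u} [CommRing R] (p : ℕ) [hp : Fact p.Prime] [CharP R p]

/-- The Artin–Schreier family. -/
abbrev asA {n : ℕ} (a x : Fin n → R) : Type u := Sys (asF p (fun i => a i ^ (p - 1)) x)

/-- Its generators. -/
noncomputable abbrev au {n : ℕ} (a x : Fin n → R) (i : Fin n) : asA p a x := gen (asF p (fun i => a i ^ (p - 1)) x) i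

theorem charP_asA [Nontrivial R] {n : ℕ} (a x : Fin n → R) : CharP (asA p a x) p :=
  charP_of_injective_algebraMap (algebraMap_injective_as p _ x) p

theorem cast_pow (j : ZMod p) : (ZMod.castHom (dvd_refl p) R j) ^ p = ZMod.castHom (dvd_refl p) R j := by
  rw [← map_pow, ZMod.pow_card]

theorem valid_cast {n : ℕ} (a : Fin n → R) (j : Fin n → ZMod p) (i : Fin n) :
    (ZMod.castHom (dvd_refl p) R (j i) * a i) ^ p = a i ^ (p - 1) * (ZMod.castHom (dvd_refl p) R (j i) * a i) := by
  rw [mul_pow, cast_pow]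
  generalize ZMod.castHom (dvd_refl p) R (j i) = y
  obtain ⟨q, hq⟩ := Nat.exists_eq_add_of_le hp.out.one_le
  rw [show p - 1 = q by omega, hq, pow_add, pow_one]
  ring

theorem aeval_add_eq_zero {n : ℕ} (a x : Fin n → R) (i : Fin n) {S : Type*} [CommRing S] [Algebra R S] [Nontrivial S]
    [CharP S p] (z : S) (hz : Polynomial.aeval z (asF p (fun i => a i ^ (p - 1)) x i) = 0) {v : S}
    (hv : v ^ p = algebraMap R S (a i ^ (p - 1)) * v) :
    Polynomial.aeval (z + v) (asF p (fun i => a i ^ (p - 1)) x i) = 0 := by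
  rw [aeval_asF] at hz ⊢
  rw [add_pow_char, hv]
  linear_combination hz

theorem exists_translate [Nontrivial R] {n : ℕ} (a x v : Fin n → R) (hv : ∀ i, v i ^ p = a i ^ (p - 1) * v i) :
    ∃ σ : asA p a x ≃ₐ[R] asA p a x, ∀ i, σ (au p a x i) = au p a x i + algebraMap R _ (v i) := by
  haveI := charP_asA p a x
  haveI := (algebraMap_injective_as p (fun i => a i ^ (p - 1)) x).nontrivial
  obtain ⟨φ, hφ⟩ := exists_lift (asF p (fun i => a i ^ (p - 1)) x) (fun i => au p a x i + algebraMap R _ (v i))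
    fun i => aeval_add_eq_zero p a x i _ (aeval_gen _ i) (by rw [← map_pow, hv, map_mul])
  obtain ⟨ψ, hψ⟩ := exists_lift (asF p (fun i => a i ^ (p - 1)) x) (fun i => au p a x i + -algebraMap R _ (v i))
    fun i => aeval_add_eq_zero p a x i _ (aeval_gen _ i) (by
      rw [← map_neg (algebraMap R _), ← map_pow, ← map_mul, neg_pow (v i), neg_one_pow_char R p, hv]; congr 1; ring)
  refine ⟨AlgEquiv.ofAlgHom φ ψ (algHom_ext _ fun i => ?_) (algHom_ext _ fun i => ?_), hφ⟩
  · rw [AlgHom.comp_apply, hψ, map_add, map_neg, hφ, AlgHom.commutes, AlgHom.id_apply, add_neg_cancel_right]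
  · rw [AlgHom.comp_apply, hφ, map_add, hψ, AlgHom.commutes, AlgHom.id_apply, neg_add_cancel_right]

theorem exists_cast_of_root {S : Type*} [CommRing S] [IsDomain S] [CharP S p] {v a : S} (ha : a ≠ 0)
    (hv : v ^ p = a ^ (p - 1) * v) : ∃ j : ZMod p, v = ZMod.castHom (dvd_refl p) S j * a := by
  haveI : CharP (FractionRing S) p := charP_of_injective_algebraMap (IsFractionRing.injective S (FractionRing S)) p
  set i := algebraMap S (FractionRing S) with hi
  have ha' : i a ≠ 0 := fun h => ha (IsFractionRing.injective S (FractionRing S) (h.trans (map_zero _).symm))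
  have hw : (i v / i a) ^ p = i v / i a := by
    rw [div_pow, ← map_pow, hv, map_mul, map_pow, div_eq_div_iff (pow_ne_zero _ ha') ha']
    conv_rhs => rw [← Nat.sub_add_cancel hp.out.one_le, pow_succ]
    ring
  rw [← Subfield.mem_bot_iff_pow_eq_self, ← ZMod.fieldRange_castHom_eq_bot (K := FractionRing S) p] at hw
  obtain ⟨j, hj⟩ := hw
  refine ⟨j, IsFractionRing.injective S (FractionRing S) ?_⟩
  rw [map_mul, ← RingHom.comp_apply, show (algebraMap S (FractionRing S)).comp (ZMod.castHom (dvd_refl p) S) =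
    ZMod.castHom (dvd_refl p) (FractionRing S) from Subsingleton.elim _ _, ← hi, hj, div_mul_cancel₀ _ ha']

theorem poly_invariant {S : Type*} [CommRing S] {a : S} (ha : ∀ s : S, a * s = 0 → s = 0)
    (hd : ∀ d : ℕ, 0 < d → d < p → IsUnit (d : S)) {P : Polynomial S} (hP : P.natDegree < p)
    (h : P.comp (Polynomial.X + Polynomial.C a) = P) : P.natDegree = 0 := by
  by_contra hne
  obtain ⟨d, hd'⟩ := Nat.exists_eq_succ_of_ne_zero hne
  have h1 : (Polynomial.taylor a P).coeff d = P.coeff d := by rw [Polynomial.taylor_apply, h]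
  rw [Polynomial.taylor_coeff, Polynomial.eval_eq_sum_range' (n := 2)
    (lt_of_le_of_lt (Polynomial.natDegree_hasseDeriv_le P d) (by omega)), Finset.sum_range_succ,
    Finset.sum_range_one] at h1
  simp only [Polynomial.hasseDeriv_coeff, zero_add, pow_zero, pow_one, mul_one, Nat.choose_self, Nat.cast_one,
    one_mul, add_eq_left] at h1
  rw [show (1 + d).choose d = d + 1 by rw [add_comm]; exact Nat.choose_succ_self_right d] at h1
  have h2 : P.coeff (d + 1) = 0 := (hd (d + 1) d.succ_pos (by omega)).mul_right_eq_zero.mp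
    (ha _ (by rw [add_comm d 1] at h1 ⊢; rw [mul_comm]; exact h1))
  have hP0 : P ≠ 0 := fun h0 => hne (by rw [h0, Polynomial.natDegree_zero])
  exact Polynomial.leadingCoeff_ne_zero.mpr hP0 (by rw [Polynomial.leadingCoeff, hd', h2])

theorem mem_range_of_fixed [IsDomain R] : ∀ {n : ℕ} (a x : Fin n → R), (∀ i, a i ≠ 0) → ∀ b : asA p a x,
    (∀ σ : asA p a x ≃ₐ[R] asA p a x, σ b = b) → b ∈ Set.range (algebraMap R (asA p a x)) := by
  intro n
  induction n with
  | zero =>
    intro a x _ b _
    obtain ⟨P, rfl⟩ := Ideal.Quotient.mk_surjective b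
    obtain ⟨r, rfl⟩ := MvPolynomial.C_surjective (Fin 0) P
    exact ⟨r, rfl⟩
  | succ n ih =>
    intro a x ha b hb
    let f := asF p (fun i => a i ^ (p - 1)) x
    let a' : Fin n → R := fun i => a i.succ
    let x' : Fin n → R := fun i => x i.succ
    let S := Sys fun i : Fin n => f i.succ
    obtain ⟨e, he0, hes⟩ := exists_equiv_adjoinRoot f
    let g : Polynomial S := (f 0).map (algebraMap R S)
    have hgm : g.Monic := (monic_asF p (fun i => a i ^ (p - 1)) x 0).1.map _
    haveI : Nontrivial S := (algebraMap_injective_as p (fun i => a' i ^ (p - 1)) x').nontrivial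
    have hgd : g.natDegree = p :=
      ((monic_asF p (fun i => a i ^ (p - 1)) x 0).1.natDegree_map _).trans (monic_asF p _ x 0).2
    obtain ⟨τ, hτ⟩ := exists_translate p a x (fun i => if i = 0 then a i else 0) fun i => by
      by_cases hi : i = 0
      · rw [if_pos hi, ← pow_succ, Nat.sub_add_cancel hp.out.one_le]
      · rw [if_neg hi, zero_pow hp.out.ne_zero, mul_zero]
    have h0 : Polynomial.eval₂ ((IsScalarTower.toAlgHom R S (AdjoinRoot g)) : S →+* AdjoinRoot g)
        (AdjoinRoot.root g + algebraMap R _ (a 0)) g = 0 := by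
      have h1 : e (τ (gen f 0)) = AdjoinRoot.root g + algebraMap R _ (a 0) := by
        rw [show τ (gen f 0) = _ from hτ 0, if_pos rfl, map_add, AlgEquiv.commutes]
        exact congrArg (· + _) he0
      rw [Polynomial.eval₂_map, AlgHom.comp_algebraMap, ← Polynomial.aeval_def, ← h1, Polynomial.aeval_algHom_apply,
        Polynomial.aeval_algHom_apply, aeval_gen, map_zero, map_zero]
    let ρ : AdjoinRoot g →ₐ[R] AdjoinRoot g := AdjoinRoot.liftAlgHom g (IsScalarTower.toAlgHom R S _) _ h0
    have hρ : ρ.comp e.toAlgHom = e.toAlgHom.comp τ.toAlgHom := algHom_ext f fun i => by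
      show ρ (e (gen f i)) = e (τ (gen f i))
      rw [hτ, map_add, AlgEquiv.commutes]
      refine Fin.cases ?_ (fun j => ?_) i
      · rw [if_pos rfl, he0]; exact AdjoinRoot.liftAlgHom_root g _ _ h0
      · rw [if_neg (Fin.succ_ne_zero j), map_zero, add_zero, hes]; exact AdjoinRoot.liftAlgHom_of g _ _ h0 _
    obtain ⟨Q, hQ⟩ := AdjoinRoot.mk_surjective (e b)
    let P := Q %ₘ g
    have hPd : P.natDegree < p := hgd ▸ Polynomial.natDegree_modByMonic_lt Q hgm (fun h1 => by
      have := congrArg Polynomial.natDegree h1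
      rw [hgd, Polynomial.natDegree_one] at this
      exact hp.out.ne_zero this)
    have hP : AdjoinRoot.mk g P = e b := by
      rw [← hQ, AdjoinRoot.mk_eq_mk]
      exact ⟨-(Q /ₘ g), by linear_combination (Polynomial.modByMonic_add_div Q g)⟩
    have hfix : AdjoinRoot.mk g (P.comp (Polynomial.X + Polynomial.C (algebraMap R S (a 0)))) = AdjoinRoot.mk g P := by
      have h : ρ (e b) = e b := by
        have := AlgHom.congr_fun hρ b
        change ρ (e b) = e (τ b) at this
        rwa [hb] at this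
      rw [hP, ← AdjoinRoot.aeval_eq, Polynomial.aeval_comp, map_add, Polynomial.aeval_X, Polynomial.aeval_C]
      conv_rhs => rw [← h, ← hP]
      rw [← IsScalarTower.algebraMap_apply R S (AdjoinRoot g)]
      exact (AdjoinRoot.liftAlgHom_mk g _ _ h0 P).symm
    have hfix' : P.comp (Polynomial.X + Polynomial.C (algebraMap R S (a 0))) = P := by
      rw [AdjoinRoot.mk_eq_mk] at hfix
      refine sub_eq_zero.mp (by_contra fun hne => hgm.not_dvd_of_natDegree_lt hne ?_ hfix)
      refine lt_of_le_of_lt (Polynomial.natDegree_sub_le _ _) (max_lt ?_ (hgd.symm ▸ hPd))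
      rw [hgd]
      refine lt_of_le_of_lt Polynomial.natDegree_comp_le ?_
      rwa [Polynomial.natDegree_X_add_C, mul_one]
    obtain ⟨hfree, -, -⟩ := free_as p (fun i => a' i ^ (p - 1)) x'
    haveI : CharP S p := charP_asA p a' x'
    have hP0 := poly_invariant p (a := algebraMap R S (a 0))
      (fun s hs => by
        haveI : Module.Free R S := hfree
        rw [← Algebra.smul_def] at hs
        exact (smul_eq_zero.mp hs).resolve_left (ha 0))
      (fun d h1 h2 => by
        have hu : IsUnit (d : ZMod p) := isUnit_iff_ne_zero.mpr fun hd => by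
          rw [ZMod.natCast_eq_zero_iff] at hd
          exact absurd (Nat.le_of_dvd h1 hd) (by omega)
        simpa using hu.map (ZMod.castHom (dvd_refl p) S)) hPd hfix'
    obtain ⟨s, hs⟩ := Polynomial.natDegree_eq_zero.mp hP0
    have heb : e b = algebraMap S _ s := by rw [← hP, ← hs]; rfl
    have hsfix : ∀ σ : S ≃ₐ[R] S, σ s = s := by
      intro σ
      obtain ⟨ι, hι⟩ := exists_lift (fun i : Fin n => f i.succ) (fun i => gen f i.succ) fun i => aeval_gen f i.succ
      have hlift : ∀ σ : S →ₐ[R] S, ∃ E : Sys f →ₐ[R] Sys f, E (gen f 0) = gen f 0 ∧ E.comp ι = ι.comp σ := by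
        intro σ
        obtain ⟨E, hE⟩ := exists_lift f (Fin.cons (gen f 0) fun i => ι (σ (gen (fun i : Fin n => f i.succ) i))) fun i => by
          refine Fin.cases ?_ (fun j => ?_) i
          · rw [Fin.cons_zero]; exact aeval_gen f 0
          · rw [Fin.cons_succ, Polynomial.aeval_algHom_apply, Polynomial.aeval_algHom_apply,
              aeval_gen (fun i : Fin n => f i.succ) j, map_zero, map_zero]
        exact ⟨E, (hE 0).trans (Fin.cons_zero _ _), algHom_ext _ fun i => by
          rw [AlgHom.comp_apply, hι, hE, Fin.cons_succ]; rfl⟩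
      obtain ⟨E, hE0, hE⟩ := hlift σ.toAlgHom
      obtain ⟨E', hE'0, hE'⟩ := hlift σ.symm.toAlgHom
      have hinv : ∀ (E E' : Sys f →ₐ[R] Sys f) (σ σ' : S →ₐ[R] S), E (gen f 0) = gen f 0 → E' (gen f 0) = gen f 0 →
          E.comp ι = ι.comp σ → E'.comp ι = ι.comp σ' → (∀ z, σ (σ' z) = z) → E.comp E' = AlgHom.id R _ :=
        fun E E' σ σ' h0 h0' h h' hσ => algHom_ext f fun i => by
          refine Fin.cases ?_ (fun j => ?_) i
          · rw [AlgHom.comp_apply, h0', h0]; rfl
          · rw [AlgHom.comp_apply, AlgHom.id_apply, ← hι j,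
              show E' (ι _) = ι (σ' _) from AlgHom.congr_fun h' _, show E (ι _) = ι (σ _) from AlgHom.congr_fun h _, hσ]
      let Ψe : Sys f ≃ₐ[R] Sys f := AlgEquiv.ofAlgHom E E'
        (hinv E E' σ.toAlgHom σ.symm.toAlgHom hE0 hE'0 hE hE' σ.apply_symm_apply)
        (hinv E' E σ.symm.toAlgHom σ.toAlgHom hE'0 hE0 hE' hE σ.symm_apply_apply)
      have hei : e.toAlgHom.comp ι = IsScalarTower.toAlgHom R S (AdjoinRoot g) := algHom_ext _ fun i => by
        show e (ι _) = _
        rw [hι, hes]; rfl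
      have hei' : ∀ z : S, e (ι z) = algebraMap S _ z := fun z => AlgHom.congr_fun hei z
      have hbs : b = ι s := e.injective (heb.trans (hei' s).symm)
      have h := hb Ψe
      rw [hbs, show Ψe (ι s) = ι (σ s) from AlgHom.congr_fun hE s] at h
      have h' := congrArg e h
      rw [hei', hei'] at h'
      rw [show algebraMap S (AdjoinRoot g) = (AdjoinRoot.mk g).comp Polynomial.C from rfl, RingHom.comp_apply,
        RingHom.comp_apply, AdjoinRoot.mk_eq_mk, ← map_sub] at h'
      refine sub_eq_zero.mp (Polynomial.C_eq_zero.mp (by_contra fun hne => hgm.not_dvd_of_natDegree_lt hne ?_ h'))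
      rw [Polynomial.natDegree_C, hgd]; exact hp.out.pos
    obtain ⟨r, hr⟩ := ih a' x' (fun i => ha _) s hsfix
    refine ⟨r, e.injective ?_⟩
    rw [heb, ← hr, AlgEquiv.commutes]
    exact IsScalarTower.algebraMap_apply R S _ r

theorem exists_param [IsDomain R] {n : ℕ} (a x : Fin n → R) (ha : ∀ i, a i ≠ 0) [IsDomain (asA p a x)] :
    ∃ T : (Fin n → ZMod p) → (asA p a x ≃ₐ[R] asA p a x), Function.Bijective T ∧
      (∀ j i, T j (au p a x i) = au p a x i + algebraMap R _ (ZMod.castHom (dvd_refl p) R (j i) * a i)) ∧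
      T 0 = 1 ∧ ∀ j j', T (j + j') = T j * T j' := by
  haveI := charP_asA p a x
  have hinj := algebraMap_injective_as p (fun i => a i ^ (p - 1)) x
  choose T hT using fun j : Fin n → ZMod p =>
    exists_translate p a x (fun i => ZMod.castHom (dvd_refl p) R (j i) * a i) (valid_cast p a j)
  have ext' : ∀ σ τ : asA p a x ≃ₐ[R] asA p a x, (∀ i, σ (au p a x i) = τ (au p a x i)) → σ = τ := fun σ τ h =>
    AlgEquiv.coe_toAlgHom_injective (algHom_ext _ h)
  refine ⟨T, ⟨fun j j' h => funext fun i => ?_, fun σ => ?_⟩, hT, ext' _ _ fun i => ?_, fun j j' => ext' _ _ fun i => ?_⟩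
  · have h1 := (hT j i).symm.trans ((DFunLike.congr_fun h _).trans (hT j' i))
    exact (ZMod.castHom (dvd_refl p) R).injective (mul_right_cancel₀ (ha i) (hinj (add_left_cancel h1)))
  · have hroot : ∀ i, ∃ j : ZMod p, σ (au p a x i) - au p a x i =
        ZMod.castHom (dvd_refl p) (asA p a x) j * algebraMap R _ (a i) := fun i => by
      refine exists_cast_of_root p (fun h => ha i (hinj (h.trans (map_zero _).symm))) ?_
      have h1 : Polynomial.aeval (σ (au p a x i)) (asF p (fun i => a i ^ (p - 1)) x i) = 0 := by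
        rw [Polynomial.aeval_algHom_apply, aeval_gen, map_zero]
      have h2 := aeval_gen (asF p (fun i => a i ^ (p - 1)) x) i
      rw [aeval_asF] at h1 h2
      change au p a x i ^ p - algebraMap R (asA p a x) (a i ^ (p - 1)) * au p a x i - algebraMap R (asA p a x) (x i) = 0 at h2
      simp only [map_pow] at h1 h2 ⊢
      rw [sub_pow_char]
      linear_combination h1 - h2
    choose j hj using hroot
    refine ⟨j, ext' _ _ fun i => ?_⟩
    rw [hT, map_mul, ← RingHom.comp_apply, show (algebraMap R (asA p a x)).comp (ZMod.castHom (dvd_refl p) R) =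
      ZMod.castHom (dvd_refl p) (asA p a x) from Subsingleton.elim _ _, ← hj, add_sub_cancel]
  · rw [hT, Pi.zero_apply, map_zero, zero_mul, map_zero, add_zero]; rfl
  · rw [hT, AlgEquiv.mul_apply, hT, map_add, hT, AlgEquiv.commutes, Pi.add_apply, map_add, add_mul, map_add]
    ring

end Groth.Agent.H23Wild

namespace Groth.Agent.H23Wild

variable {R : Type u} [CommRing R] (p : ℕ) [hp : Fact p.Prime]

omit hp in
theorem span_sub_eq {n : ℕ} (c x a : Fin n → R) (σ : Sys (asF p c x) ≃ₐ[R] Sys (asF p c x))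
    (hσ : ∀ i, σ (gen (asF p c x) i) = gen (asF p c x) i + algebraMap R _ (a i)) :
    Ideal.span (Set.range fun t => σ t - t) = (Ideal.span (Set.range a)).map (algebraMap R (Sys (asF p c x))) := by
  set aA := (Ideal.span (Set.range a)).map (algebraMap R (Sys (asF p c x))) with haA
  refine le_antisymm (Ideal.span_le.mpr ?_) ?_
  · rintro _ ⟨t, rfl⟩
    have h : (Ideal.Quotient.mkₐ R aA).comp σ.toAlgHom = Ideal.Quotient.mkₐ R aA := algHom_ext _ fun i => by
      show Ideal.Quotient.mk aA (σ (gen (asF p c x) i)) = Ideal.Quotient.mk aA (gen (asF p c x) i)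
      rw [hσ, Ideal.Quotient.eq, add_sub_cancel_left]
      exact Ideal.mem_map_of_mem _ (Ideal.subset_span ⟨i, rfl⟩)
    exact Ideal.Quotient.eq.mp (AlgHom.congr_fun h t)
  · rw [haA, Ideal.map_span, Ideal.span_le]
    rintro _ ⟨_, ⟨i, rfl⟩, rfl⟩
    exact Ideal.subset_span ⟨gen (asF p c x) i, by simp only [hσ, add_sub_cancel_left]⟩

omit hp in
theorem sub_pow_mul_mem {S : Type*} [CommRing S] {U : Ideal S} (hp1 : 1 ≤ p) {u c : S} (hu : u ∈ U) (hc : c ∈ U) :
    u ^ p - c ^ (p - 1) * u ∈ U ^ p := by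
  refine sub_mem (Ideal.pow_mem_pow hu p) ?_
  obtain ⟨q, rfl⟩ := Nat.exists_eq_add_of_le hp1
  rw [Nat.add_sub_cancel_left, add_comm, pow_succ]
  exact Ideal.mul_mem_mul (Ideal.pow_mem_pow hc q) hu

theorem map_le_pow {n : ℕ} (a x : Fin n → R) (ha : ∀ i, a i ∈ Ideal.span (Set.range x)) :
    (Ideal.span (Set.range a)).map (algebraMap R (asA p a x)) ≤ Ideal.span (Set.range (au p a x)) ^ p := by
  refine le_trans (Ideal.map_mono (Ideal.span_le.mpr (by rintro _ ⟨i, rfl⟩; exact ha i))) ?_
  rw [Ideal.map_span, Ideal.span_le]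
  rintro _ ⟨_, ⟨i, rfl⟩, rfl⟩
  have h := aeval_gen (asF p (fun i => a i ^ (p - 1)) x) i
  rw [aeval_asF, sub_eq_zero] at h
  rw [SetLike.mem_coe, ← h, map_pow]
  exact sub_pow_mul_mem p hp.out.one_le (Ideal.subset_span ⟨i, rfl⟩)
    (map_x_le p (fun i => a i ^ (p - 1)) x (Ideal.mem_map_of_mem (algebraMap R (asA p a x)) (ha i)))

end Groth.Agent.H23Wild
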