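import Mathlib.FieldTheory.Fixed
import Mathlib.LinearAlgebra.Dimension.Constructions
import Mathlib.LinearAlgebra.Dimension.Finite

/-! # Counting automorphisms of a finite extension of domains -/

set_option autoImplicit false

universe u v

namespace Groth.Agent.H23Wild

theorem card_algEquiv_le_finrank (R : Type v) [CommRing R] [IsDomain R] (A : Type u) [CommRing A] [IsDomain A]
    [Algebra R A] [Module.Finite R A] (hinj : Function.Injective (algebraMap R A)) :
    Finite (A ≃ₐ[R] A) ∧ Nat.card (A ≃ₐ[R] A) ≤ Module.finrank R A := by
  classical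
  set d := Module.finrank R A with hd
  obtain ⟨b, hb⟩ := exists_linearIndependent_of_le_finrank (R := R) (M := A) (n := d) le_rfl
  let ev : (A →ₗ[R] A) →ₗ[A] (Fin d → A) :=
    { toFun := fun f i => f (b i), map_add' := fun f g => rfl, map_smul' := fun c f => rfl }
  have hev : Function.Injective ev := by
    refine (injective_iff_map_eq_zero ev).mpr fun f hf => LinearMap.ext fun a => ?_
    have hdep : ¬ LinearIndependent R (Fin.cons a b : Fin (d + 1) → A) := fun h => by
      have := h.fintype_card_le_finrank
      rw [Fintype.card_fin, ← hd] at this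
      omega
    obtain ⟨c, hc, i, hi⟩ := Fintype.not_linearIndependent_iff.mp hdep
    rw [Fin.sum_univ_succ] at hc
    simp only [Fin.cons_zero, Fin.cons_succ] at hc
    have hc0 : c 0 ≠ 0 := by
      intro h0
      rw [h0, zero_smul, zero_add] at hc
      have := Fintype.linearIndependent_iff.mp hb (fun j => c j.succ) hc
      exact hi (Fin.cases (motive := fun i => c i = 0) h0 this i)
    have h1 := congrArg f hc
    rw [map_add, map_smul, map_sum, map_zero] at h1
    simp only [map_smul, show ∀ j, f (b j) = 0 from fun j => congrFun hf j, smul_zero, Finset.sum_const_zero,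
      add_zero] at h1
    rw [Algebra.smul_def, mul_eq_zero] at h1
    exact h1.resolve_left fun h => hc0 (hinj (h.trans (map_zero _).symm))
  have hli : LinearIndependent A (fun σ : A ≃ₐ[R] A => σ.toAlgHom.toLinearMap) :=
    (linearIndependent_toLinearMap R A A).comp _ fun σ τ h => AlgEquiv.coe_toAlgHom_injective h
  have hli' := hli.map' ev (LinearMap.ker_eq_bot.mpr hev)
  haveI := hli'.finite
  haveI := Fintype.ofFinite (A ≃ₐ[R] A)
  refine ⟨inferInstance, ?_⟩
  rw [Nat.card_eq_fintype_card]
  exact hli'.fintype_card_le_finrank.trans (Module.finrank_fin_fun A).le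

end Groth.Agent.H23Wild
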