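import Mathlib.RingTheory.PowerSeries.Trunc
import Mathlib.RingTheory.PowerSeries.Inverse
import Mathlib.RingTheory.PowerSeries.Order
import Mathlib.Algebra.CharP.Frobenius
import Mathlib.Algebra.CharP.Algebra
import Mathlib.LinearAlgebra.LinearIndependent.Basic
import Mathlib.Algebra.Ring.GeomSum
import Mathlib.Tactic.LinearCombination
import Mathlib.GroupTheory.OrderOfElement

/-! # Ramification breaks of automorphisms of `k⟦X⟧` -/

set_option autoImplicit false

universe u

open PowerSeries

namespace Groth.Agent.H23Wild.Break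

variable {k : Type u} [Field k]

theorem order_X_pow_mul {u : PowerSeries k} (hu : constantCoeff u ≠ 0) (n : ℕ) : (X ^ n * u).order = (n : ℕ∞) := by
  rw [order_mul, order_X_pow, order_zero_of_unit (isUnit_iff_constantCoeff.mpr (isUnit_iff_ne_zero.mpr hu)), add_zero]

theorem exists_eq_X_pow_mul {f : PowerSeries k} {e : ℕ} (he : f.order = e) :
    ∃ g, constantCoeff g ≠ 0 ∧ f = X ^ e * g := by
  refine ⟨divXPowOrder f, fun h => ?_, ?_⟩
  · rw [constantCoeff_divXPowOrder_eq_zero_iff] at h
    rw [h, order_zero] at he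
    exact ENat.top_ne_coe e he
  · have := X_pow_order_mul_divXPowOrder (f := f)
    rw [he, ENat.toNat_natCast] at this
    exact this.symm

variable (σ : PowerSeries k ≃ₐ[k] PowerSeries k)

theorem X_dvd_sigma_X : (X : PowerSeries k) ∣ σ X := by
  rw [X_dvd_iff]
  by_contra h
  have hu : IsUnit (σ X) := isUnit_iff_constantCoeff.mpr (isUnit_iff_ne_zero.mpr h)
  have := hu.map σ.symm
  rw [σ.symm_apply_apply, isUnit_iff_constantCoeff, constantCoeff_X] at this
  exact not_isUnit_zero this

theorem dvd_sigma_sub {n : ℕ} (h : (X : PowerSeries k) ^ n ∣ σ X - X) (g : PowerSeries k) :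
    X ^ n ∣ σ g - g := by
  obtain ⟨r, hr⟩ : (X : PowerSeries k) ^ n ∣ g - (trunc n g : Polynomial k) := by
    rw [X_pow_dvd_iff]
    intro m hm
    rw [map_sub, Polynomial.coeff_coe, coeff_trunc, if_pos hm, sub_self]
  have hP : ∀ P : Polynomial k, X ^ n ∣ σ (P : PowerSeries k) - (P : PowerSeries k) := fun P => by
    have hc : (P : PowerSeries k) = Polynomial.aeval (X : PowerSeries k) P := by
      induction P using Polynomial.induction_on with
      | C a => simp
      | add a b ha hb => rw [Polynomial.coe_add, map_add, ha, hb]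
      | monomial m a _ => simp
    rw [hc, ← Polynomial.aeval_algHom_apply, Polynomial.aeval_def, Polynomial.aeval_def, ← Polynomial.eval_map,
      ← Polynomial.eval_map]
    exact h.trans (Polynomial.sub_dvd_eval_sub _ _ _)
  have hg : g = ((trunc n g : Polynomial k) : PowerSeries k) + X ^ n * r := by rw [← hr]; ring
  rw [hg, map_add, map_mul, map_pow, add_sub_add_comm]
  exact dvd_add (hP _) (dvd_sub ((pow_dvd_pow_of_dvd (X_dvd_sigma_X σ) n).mul_right _) (dvd_mul_right _ _))

theorem constantCoeff_sigma (g : PowerSeries k) : constantCoeff (σ g) = constantCoeff g := by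
  have h : (X : PowerSeries k) ^ 1 ∣ σ X - X := by rw [pow_one]; exact dvd_sub (X_dvd_sigma_X σ) dvd_rfl
  have := dvd_sigma_sub σ h g
  rw [pow_one, X_dvd_iff, map_sub, sub_eq_zero] at this
  exact this

theorem coeff_one_sigma {g : PowerSeries k} (hg : constantCoeff g = 0) :
    coeff 1 (σ g) = coeff 1 (σ X) * coeff 1 g := by
  obtain ⟨h, rfl⟩ := X_dvd_iff.mpr hg
  obtain ⟨w, hw⟩ := X_dvd_sigma_X σ
  rw [map_mul σ, hw, mul_assoc, coeff_succ_X_mul, coeff_succ_X_mul, coeff_succ_X_mul,
    coeff_zero_eq_constantCoeff_apply, coeff_zero_eq_constantCoeff_apply, coeff_zero_eq_constantCoeff_apply,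
    map_mul, constantCoeff_sigma]

variable (p : ℕ) [Fact p.Prime] [CharP k p] (hσp : σ ^ p = 1) {m : ℕ}
  (hm : (σ X - X).order = ((m + 1 : ℕ) : ℕ∞))

include hσp hm in
theorem one_le_break : 1 ≤ m := by
  by_contra h
  obtain rfl : m = 0 := by omega
  set c := coeff 1 (σ (X : PowerSeries k))
  have hi : ∀ i : ℕ, constantCoeff ((σ ^ i) (X : PowerSeries k)) = 0 ∧ coeff 1 ((σ ^ i) (X : PowerSeries k)) = c ^ i := by
    intro i
    induction i with
    | zero => simp
    | succ i ih =>
      rw [pow_succ', AlgEquiv.mul_apply, constantCoeff_sigma, coeff_one_sigma σ ih.1, ih.2, pow_succ']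
      exact ⟨ih.1, rfl⟩
  have h1 := (hi p).2
  rw [hσp, AlgEquiv.one_apply, coeff_one_X] at h1
  have hc : c = 1 := by
    have : (c - 1) ^ p = 0 := by rw [sub_pow_char, ← h1, one_pow, sub_self]
    exact sub_eq_zero.mp (eq_zero_of_pow_eq_zero this)
  have h2 := (order_eq_nat.mp hm).1
  rw [map_sub, coeff_one_X] at h2
  exact h2 (by rw [show coeff 1 (σ X) = c from rfl, hc, sub_self])

include hσp hm in
theorem exists_unit_mul : ∃ w : PowerSeries k, σ X = X * (1 + X ^ m * w) ∧ constantCoeff w ≠ 0 ∧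
    IsUnit (1 + X ^ m * w) := by
  obtain ⟨w, hw, h⟩ := exists_eq_X_pow_mul hm
  refine ⟨w, ?_, hw, ?_⟩
  · rw [sub_eq_iff_eq_add.mp h, pow_succ]; ring
  · rw [isUnit_iff_constantCoeff, map_add, map_one, map_mul, map_pow, constantCoeff_X,
      zero_pow (by have := one_le_break σ p hσp hm; omega), zero_mul, add_zero]
    exact isUnit_one

include hσp hm in
theorem order_sigma (f : PowerSeries k) : (σ f).order = f.order := by
  by_cases hf : f = 0
  · rw [hf, map_zero]
  obtain ⟨g, hg, hfg⟩ := exists_eq_X_pow_mul (coe_toNat_order hf).symm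
  obtain ⟨w, hw, -, hu⟩ := exists_unit_mul σ p hσp hm
  rw [← coe_toNat_order hf]
  conv_lhs => rw [hfg, map_mul, map_pow, hw, mul_pow, mul_assoc]
  exact order_X_pow_mul (by
    rw [map_mul, map_pow, constantCoeff_sigma]
    refine mul_ne_zero ?_ ?_ <;> first | exact hg | exact pow_ne_zero _ (isUnit_iff_constantCoeff.mp hu).ne_zero) _

include hσp hm in
theorem order_sigma_sub {f : PowerSeries k} {e : ℕ} (he : f.order = e) (hpe : ¬ p ∣ e) :
    (σ f - f).order = ((e + m : ℕ) : ℕ∞) := by
  obtain ⟨g, hg, rfl⟩ := exists_eq_X_pow_mul he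
  obtain ⟨w, hw, hw0, -⟩ := exists_unit_mul σ p hσp hm
  obtain ⟨h, hh⟩ := dvd_sigma_sub σ (n := m + 1) ⟨w, by rw [hw]; ring⟩ g
  let z : PowerSeries k := 1 + X ^ m * w
  have hgeom := geom_sum_mul z e
  have hkey : σ (X ^ e * g) - X ^ e * g =
      X ^ (e + m) * ((∑ i ∈ Finset.range e, z ^ i) * w * σ g + X * h) := by
    rw [map_mul, map_pow, hw, mul_pow]
    rw [show z - 1 = X ^ m * w by simp [z]] at hgeom
    linear_combination (norm := ring) (-(X ^ e * σ g)) * hgeom + X ^ e * hh
  rw [hkey]
  refine order_X_pow_mul ?_ _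
  rw [map_add, map_mul, map_mul, map_mul, constantCoeff_X, zero_mul, add_zero, constantCoeff_sigma, map_sum]
  have hz : ∀ i ∈ Finset.range e, constantCoeff (z ^ i) = (1 : k) := fun i _ => by
    simp [z, zero_pow (show m ≠ 0 by have := one_le_break σ p hσp hm; omega)]
  rw [Finset.sum_congr rfl hz, Finset.sum_const, Finset.card_range, nsmul_one]
  exact mul_ne_zero (mul_ne_zero (fun h0 => hpe ((CharP.cast_eq_zero_iff k p e).mp h0)) hw0) hg

include hσp hm in
theorem dvd_order_of_fixed {f : PowerSeries k} (hf : σ f = f) (hf0 : f ≠ 0) : p ∣ f.order.toNat := by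
  by_contra h
  have := order_sigma_sub σ p hσp hm (coe_toNat_order hf0).symm h
  rw [hf, sub_self, order_zero] at this
  exact ENat.top_ne_coe _ this

/-- The norm of the parameter. -/
noncomputable def normX : PowerSeries k := ∏ i ∈ Finset.range p, (σ ^ i) X

include hσp in
omit [CharP k p] in
theorem sigma_normX : σ (normX σ p) = normX σ p := by
  obtain ⟨q, rfl⟩ := Nat.exists_eq_succ_of_ne_zero (Fact.out : p.Prime).ne_zero
  rw [normX, map_prod, Finset.prod_congr rfl (fun i _ => show σ ((σ ^ i) X) = (σ ^ (i + 1)) X by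
    rw [pow_succ', AlgEquiv.mul_apply]), Finset.prod_range_succ, Finset.prod_range_succ' (fun i => (σ ^ i) X),
    hσp, pow_zero]

include hσp hm in
theorem order_normX : (normX σ p).order = p := by
  have hi : ∀ i : ℕ, ((σ ^ i) (X : PowerSeries k)).order = 1 := fun i => by
    induction i with
    | zero => simp [order_X]
    | succ i ih => rw [pow_succ', AlgEquiv.mul_apply, order_sigma σ p hσp hm, ih]
  rw [normX, order_prod, Finset.sum_congr rfl (fun i _ => hi i)]
  simp

theorem exists_translated {N T a : PowerSeries k} (hN : σ N - N = T) (hT : σ T = T) (ha : σ a = a)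
    {e f t : ℕ} (he : N.order = e) (hf : a.order = f) (ht : T.order = t) (h : e + f = t + 1) :
    ∃ s : PowerSeries k, s.order = 1 ∧ σ s = s + a := by
  obtain ⟨g, hg, rfl⟩ := exists_eq_X_pow_mul ht
  obtain ⟨n, hn, hN'⟩ := exists_eq_X_pow_mul he
  obtain ⟨y, hy, hy'⟩ := exists_eq_X_pow_mul hf
  have hu : IsUnit g := isUnit_iff_constantCoeff.mpr (isUnit_iff_ne_zero.mpr hg)
  obtain ⟨v, hv⟩ := hu.exists_left_inv
  refine ⟨X ^ 1 * (n * y * v), ?_, ?_⟩
  · rw [order_X_pow_mul (by
      rw [map_mul, map_mul]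
      refine mul_ne_zero (mul_ne_zero hn hy) fun h0 => ?_
      have := congrArg constantCoeff hv
      rw [map_mul, h0, zero_mul, map_one] at this
      exact zero_ne_one this), Nat.cast_one]
  · have hT0 : X ^ t * g ≠ 0 := fun h0 => ENat.top_ne_natCast t (by rw [← ht, h0, order_zero])
    have hsT : X ^ 1 * (n * y * v) * (X ^ t * g) = N * a :=
      calc X ^ 1 * (n * y * v) * (X ^ t * g) = X ^ (t + 1) * (n * y) * (v * g) := by ring
        _ = X ^ (e + f) * (n * y) := by rw [hv, mul_one, h]
        _ = N * a := by rw [hN', hy', pow_add]; ring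
    refine mul_right_cancel₀ hT0 ?_
    have h1 := congrArg σ hsT
    rw [map_mul σ _ (X ^ t * g), map_mul σ N a, hT, ha] at h1
    rw [h1, add_mul, hsT]
    calc σ N * a = N * a + a * (σ N - N) := by ring
      _ = N * a + a * (X ^ t * g) := by rw [hN]

end Groth.Agent.H23Wild.Break
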