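import Mathlib.AlgebraicGeometry.Morphisms.Finite
import Mathlib.AlgebraicGeometry.Morphisms.Flat
import Mathlib.AlgebraicGeometry.Morphisms.IsIso
import Mathlib.AlgebraicGeometry.ResidueField
import Mathlib.AlgebraicGeometry.Noetherian
import Mathlib.RingTheory.Ideal.KrullsHeightTheorem
import Mathlib.RingTheory.LocalProperties.Exactness
import Mathlib.RingTheory.Spectrum.Prime.FreeLocus
import Mathlib.LinearAlgebra.Charpoly.BaseChange
import Mathlib.RingTheory.LocalRing.Module

/-!
# Isomorphisms of finite flat schemes are detected on fibres in codimension at most one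
-/

set_option autoImplicit false
set_option linter.style.haveILetI false

noncomputable section

universe u

open CategoryTheory AlgebraicGeometry Limits TensorProduct

namespace Groth.Agent.H23Wild

section Algebra

variable {R : Type u} [CommRing R] {M N : Type u} [AddCommGroup M] [Module R M] [AddCommGroup N] [Module R N]

/-- A map of finite free modules over a noetherian local ring which is bijective at all residue
fields of height at most one is bijective. -/
theorem bijective_of_height_le_one_free [IsNoetherianRing R] [Nontrivial R]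
    [Module.Finite R M] [Module.Free R M] [Module.Finite R N] [Module.Free R N] (u : M →ₗ[R] N)
    (h : ∀ (p : Ideal R) [p.IsPrime], p.height ≤ 1 → Function.Bijective (u.baseChange p.ResidueField)) :
    Function.Bijective u := by
  obtain ⟨P₀, hP₀⟩ := (⊥ : Ideal R).nonempty_minimalPrimes bot_ne_top
  haveI := hP₀.isPrime
  have hr : Module.finrank R M = Module.finrank R N := by
    rw [← Module.finrank_baseChange (R := P₀.ResidueField) (S := R) (M' := M),
      ← Module.finrank_baseChange (R := P₀.ResidueField) (S := R) (M' := N)]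
    exact (LinearEquiv.ofBijective _ (h P₀ (Ideal.height_le_one_of_isPrincipal_of_mem_minimalPrimes ⊥ P₀ hP₀))).finrank_eq
  let e : N ≃ₗ[R] M := LinearEquiv.ofFinrankEq N M hr.symm
  let f : M →ₗ[R] M := e.toLinearMap ∘ₗ u
  have hd : IsUnit (LinearMap.det f) := by
    by_contra hd
    obtain ⟨P, hP⟩ := (Ideal.span {LinearMap.det f}).nonempty_minimalPrimes
      (fun H => hd (Ideal.span_singleton_eq_top.mp H))
    haveI := hP.isPrime
    have hb := h P (Ideal.height_le_one_of_isPrincipal_of_mem_minimalPrimes _ P hP)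
    have hf : Function.Bijective (f.baseChange P.ResidueField) := by
      rw [LinearMap.baseChange_comp]
      exact (e.baseChange R P.ResidueField N M).bijective.comp hb
    have h0 : algebraMap R P.ResidueField (LinearMap.det f) = 0 :=
      Ideal.algebraMap_residueField_eq_zero.mpr (hP.le (Ideal.mem_span_singleton_self _))
    have := LinearMap.isUnit_det (f.baseChange P.ResidueField) ((Module.End.isUnit_iff _).mpr hf)
    rw [LinearMap.det_baseChange, h0] at this
    exact not_isUnit_zero this
  have hfb : Function.Bijective f := (Module.End.isUnit_iff _).mp ((LinearMap.isUnit_iff_isUnit_det f).mpr hd)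
  have : (u : M → N) = e.symm ∘ f := by
    funext x
    simp [f]
  rw [this]
  exact e.symm.bijective.comp hfb

/-- A map of finite flat modules over a noetherian ring which is bijective at all residue fields
of height at most one is bijective. -/
theorem bijective_of_height_le_one [IsNoetherianRing R]
    [Module.Finite R M] [Module.Flat R M] [Module.Finite R N] [Module.Flat R N] (u : M →ₗ[R] N)
    (h : ∀ (p : Ideal R) [p.IsPrime], p.height ≤ 1 → Function.Bijective (u.baseChange p.ResidueField)) :
    Function.Bijective u := by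
  refine bijective_of_isLocalized_maximal
    (fun q _ => Localization.AtPrime q ⊗[R] M) (fun q _ => TensorProduct.mk R _ M 1)
    (fun q _ => Localization.AtPrime q ⊗[R] N) (fun q _ => TensorProduct.mk R _ N 1) u fun q _ => ?_
  have e : IsLocalizedModule.map q.primeCompl (TensorProduct.mk R (Localization.AtPrime q) M 1)
      (TensorProduct.mk R (Localization.AtPrime q) N 1) u = (u.baseChange (Localization.AtPrime q)).restrictScalars R := by
    refine IsLocalizedModule.linearMap_ext q.primeCompl (TensorProduct.mk R _ M 1) (TensorProduct.mk R _ N 1) ?_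
    ext m
    rw [LinearMap.comp_apply, LinearMap.comp_apply, IsLocalizedModule.map_apply]
    simp
  rw [e, LinearMap.coe_restrictScalars]
  haveI : Module.Free (Localization.AtPrime q) (Localization.AtPrime q ⊗[R] M) := Module.free_of_flat_of_isLocalRing
  haveI : Module.Free (Localization.AtPrime q) (Localization.AtPrime q ⊗[R] N) := Module.free_of_flat_of_isLocalRing
  haveI : IsNoetherianRing (Localization.AtPrime q) :=
    IsLocalization.isNoetherianRing q.primeCompl _ inferInstance
  refine bijective_of_height_le_one_free _ fun P _ hP => ?_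
  have hp : (P.under R).height ≤ 1 := (IsLocalization.height_under q.primeCompl P).trans_le hP
  have hb := h (P.under R) hp
  -- compare the residue fields
  let φ : (P.under R).ResidueField →ₐ[R] P.ResidueField :=
    Ideal.ResidueField.mapₐ (P.under R) P (Algebra.ofId R (Localization.AtPrime q)) rfl
  have hK : Function.Bijective (u.baseChange P.ResidueField) := by
    letI : Algebra (P.under R).ResidueField P.ResidueField := φ.toRingHom.toAlgebra
    haveI : IsScalarTower R (P.under R).ResidueField P.ResidueField :=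
      IsScalarTower.of_algebraMap_eq fun r => (φ.commutes r).symm
    let L := (P.under R).ResidueField
    let K := P.ResidueField
    let E := LinearEquiv.ofBijective _ hb
    have : (u.baseChange K : K ⊗[R] M → K ⊗[R] N) =
        (AlgebraTensorModule.cancelBaseChange R L K K N) ∘ (LinearEquiv.baseChange L K _ _ E) ∘
          (AlgebraTensorModule.cancelBaseChange R L K K M).symm := by
      funext x
      induction x with
      | zero => simp
      | add x y hx hy => simp_all
      | tmul a m => simp [E, L, K]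
    rw [this]
    exact (LinearEquiv.bijective _).comp ((LinearEquiv.bijective _).comp (LinearEquiv.bijective _))
  let K := P.ResidueField
  let Rq := Localization.AtPrime q
  let E := LinearEquiv.ofBijective _ hK
  have : ((u.baseChange Rq).baseChange K : K ⊗[Rq] (Rq ⊗[R] M) → K ⊗[Rq] (Rq ⊗[R] N)) =
      (AlgebraTensorModule.cancelBaseChange R Rq K K N).symm ∘ E ∘
        (AlgebraTensorModule.cancelBaseChange R Rq K K M) := by
    funext x
    rw [Function.comp_apply, Function.comp_apply, LinearEquiv.eq_symm_apply]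
    induction x with
    | zero => simp
    | add x y hx hy => simp only [map_add, hx, hy]
    | tmul a y =>
      induction y with
      | zero => simp
      | add x y hx hy => simp only [tmul_add, map_add, hx, hy]
      | tmul r m => simp [E, K, Rq]
  rw [this]
  exact (LinearEquiv.bijective _).comp ((LinearEquiv.bijective _).comp (LinearEquiv.bijective _))

end Algebra

/-- Transfer of an isomorphism of fibres to a finer point. -/
theorem isIso_of_fibre {S Z Z' T T₀ P P' : Scheme.{u}} {f : Z ⟶ S} {f' : Z' ⟶ S} (g : Z ⟶ Z')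
    (hg : g ≫ f' = f) (x₀ : T₀ ⟶ S) (t : T ⟶ T₀) {pZ : P ⟶ Z} {pT : P ⟶ T} {pZ' : P' ⟶ Z'} {pT' : P' ⟶ T}
    (h : IsPullback pZ pT f (t ≫ x₀)) (h' : IsPullback pZ' pT' f' (t ≫ x₀)) (w : P ⟶ P')
    (hw₁ : w ≫ pZ' = pZ ≫ g) (hw₂ : w ≫ pT' = pT)
    (hiso : IsIso (pullback.map f x₀ f' x₀ g (𝟙 _) (𝟙 S) (by simp [hg]) (by simp))) : IsIso w := by
  let ψ := pullback.map f x₀ f' x₀ g (𝟙 _) (𝟙 S) (by simp [hg]) (by simp)
  haveI : IsIso ψ := hiso
  have ψfst : ψ ≫ pullback.fst f' x₀ = pullback.fst f x₀ ≫ g := pullback.lift_fst _ _ _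
  have ψsnd : ψ ≫ pullback.snd f' x₀ = pullback.snd f x₀ := (pullback.lift_snd _ _ _).trans (Category.comp_id _)
  have hw' : pZ' ≫ f' = (pT' ≫ t) ≫ x₀ := by rw [Category.assoc]; exact h'.w
  have hw : pZ ≫ f = (pT ≫ t) ≫ x₀ := by rw [Category.assoc]; exact h.w
  let a : P' ⟶ pullback f' x₀ := pullback.lift pZ' (pT' ≫ t) hw'
  let b : P ⟶ pullback f x₀ := pullback.lift pZ (pT ≫ t) hw
  have afst : a ≫ pullback.fst f' x₀ = pZ' := pullback.lift_fst _ _ _
  have asnd : a ≫ pullback.snd f' x₀ = pT' ≫ t := pullback.lift_snd _ _ _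
  have bfst : b ≫ pullback.fst f x₀ = pZ := pullback.lift_fst _ _ _
  have bsnd : b ≫ pullback.snd f x₀ = pT ≫ t := pullback.lift_snd _ _ _
  have hsnd : inv ψ ≫ pullback.snd f x₀ = pullback.snd f' x₀ := by
    rw [IsIso.inv_comp_eq, ψsnd]
  have hfst : inv ψ ≫ pullback.fst f x₀ ≫ g = pullback.fst f' x₀ := by
    rw [IsIso.inv_comp_eq, ψfst]
  let v : P' ⟶ P := h.lift (a ≫ inv ψ ≫ pullback.fst f x₀) pT' (by
    rw [Category.assoc, Category.assoc, pullback.condition, reassoc_of% hsnd, reassoc_of% asnd])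
  have vfst : v ≫ pZ = a ≫ inv ψ ≫ pullback.fst f x₀ := h.lift_fst _ _ _
  have vsnd : v ≫ pT = pT' := h.lift_snd _ _ _
  have hwa : w ≫ a = b ≫ ψ := by
    apply pullback.hom_ext
    · rw [Category.assoc, Category.assoc, afst, ψfst, reassoc_of% bfst, hw₁]
    · rw [Category.assoc, Category.assoc, asnd, ψsnd, bsnd, reassoc_of% hw₂]
  refine ⟨v, h.hom_ext ?_ ?_, h'.hom_ext ?_ ?_⟩
  · rw [Category.assoc, vfst, reassoc_of% hwa, IsIso.hom_inv_id_assoc, bfst, Category.id_comp]
  · rw [Category.assoc, vsnd, hw₂, Category.id_comp]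
  · rw [Category.assoc, hw₁, reassoc_of% vfst, hfst, afst, Category.id_comp]
  · rw [Category.assoc, hw₂, vsnd, Category.id_comp]

variable {S Z Z' : Scheme.{u}} (f : Z ⟶ S) (f' : Z' ⟶ S) (g : Z ⟶ Z')

/-- A morphism of finite flat schemes over a noetherian scheme is an isomorphism if it is one on
the fibres over the points of codimension at most one. -/
theorem isIso_of_codimOne [IsNoetherian S] [IsFinite f] [Flat f] [IsFinite f'] [Flat f'] (hg : g ≫ f' = f)
    (hfib : ∀ s : S, ringKrullDim (S.presheaf.stalk s) ≤ 1 →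
      IsIso (pullback.map f (S.fromSpecResidueField s) f' (S.fromSpecResidueField s) g (𝟙 _) (𝟙 S)
        (by simp [hg]) (by simp))) : IsIso g := by
  refine (IsZariskiLocalAtTarget.iff_of_iSup_eq_top (P := MorphismProperty.isomorphisms Scheme)
    (fun V : S.affineOpens => f' ⁻¹ᵁ V.1) (TopologicalSpace.IsOpenCover.comap (iSup_affineOpens_eq_top S) f'.base.hom)).mpr fun W₀ => ?_
  obtain ⟨V, hV⟩ := W₀
  replace hV : IsAffineOpen V := hV
  show IsIso (g ∣_ (f' ⁻¹ᵁ V))
  have hW' : IsAffineOpen (f' ⁻¹ᵁ V) := hV.preimage f'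
  have hpre : g ⁻¹ᵁ (f' ⁻¹ᵁ V) = f ⁻¹ᵁ V := by rw [← Scheme.Hom.comp_preimage, hg]
  have hW : IsAffineOpen (g ⁻¹ᵁ (f' ⁻¹ᵁ V)) := hpre ▸ hV.preimage f
  haveI : IsAffine ((f' ⁻¹ᵁ V : Z'.Opens) : Scheme.{u}) := hW'
  haveI : IsAffine ((g ⁻¹ᵁ (f' ⁻¹ᵁ V) : Z.Opens) : Scheme.{u}) := hW
  let A := Γ(Z', f' ⁻¹ᵁ V)
  let B := Γ(Z, g ⁻¹ᵁ (f' ⁻¹ᵁ V))
  let R := Γ(S, V)
  let α : R ⟶ A := f'.app V
  let β : A ⟶ B := g.app (f' ⁻¹ᵁ V)
  suffices IsIso (Spec.map β) by
    have hsq : (hW.isoSpec.hom ≫ Spec.map β) ≫ hW'.isoSpec.inv = g ∣_ (f' ⁻¹ᵁ V) := by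
      rw [← cancel_mono (f' ⁻¹ᵁ V).ι, morphismRestrict_ι]
      simp only [Category.assoc, IsAffineOpen.isoSpec_inv_ι]
      rw [show β = g.appLE (f' ⁻¹ᵁ V) (g ⁻¹ᵁ (f' ⁻¹ᵁ V)) le_rfl from Scheme.Hom.app_eq_appLE _,
        IsAffineOpen.SpecMap_appLE_fromSpec g hW' hW, ← hW.isoSpec_inv_ι]
      simp
    rw [← hsq]
    infer_instance
  rw [isIso_SpecMap_iff]
  letI : Algebra R A := α.hom.toAlgebra
  letI : Algebra R B := (α ≫ β).hom.toAlgebra
  have hαβ : α ≫ β = f.appLE V (g ⁻¹ᵁ (f' ⁻¹ᵁ V)) hpre.le := by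
    subst hg
    show f'.app V ≫ g.app (f' ⁻¹ᵁ V) = _
    rw [← Scheme.Hom.comp_app, Scheme.Hom.app_eq_appLE]
    rfl
  haveI : Module.Finite R A := IsFinite.finite_app f' V hV
  haveI : Module.Flat R A := by
    have := f'.flat_appLE hV hW' le_rfl
    rwa [← Scheme.Hom.app_eq_appLE] at this
  haveI : Module.Flat R B := by
    have := f.flat_appLE hV hW hpre.le
    rwa [← hαβ] at this
  haveI : Module.Finite R B := by
    have h1 : (f.appLE V (f ⁻¹ᵁ V) le_rfl).hom.Finite := by
      rw [← Scheme.Hom.app_eq_appLE]; exact IsFinite.finite_app f V hV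
    have key : ∀ (W : Z.Opens) (_ : W = f ⁻¹ᵁ V) (e : W ≤ f ⁻¹ᵁ V), (f.appLE V W e).hom.Finite := by
      rintro W rfl e
      exact h1
    have := key _ hpre hpre.le
    rwa [← hαβ] at this
  let uA : A →ₐ[R] B := { β.hom with commutes' := fun r => rfl }
  haveI : IsNoetherianRing R := IsLocallyNoetherian.component_noetherian ⟨V, hV⟩
  refine bijective_of_height_le_one uA.toLinearMap fun p _ hp => ?_
  let K := p.ResidueField
  let y : PrimeSpectrum R := ⟨p, ‹_›⟩
  let x : Spec (.of K) ⟶ S := Spec.map (CommRingCat.ofHom (algebraMap R K)) ≫ hV.fromSpec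
  let s : S := x.base (IsLocalRing.closedPoint K)
  have hs : s = hV.fromSpec y := by
    have : (Spec.map (CommRingCat.ofHom (algebraMap R K))).base (IsLocalRing.closedPoint K) = y :=
      PrimeSpectrum.ext (by
        show Ideal.comap (algebraMap R K) (IsLocalRing.maximalIdeal K) = p
        rw [IsLocalRing.maximalIdeal_eq_bot, ← RingHom.ker_eq_comap_bot, Ideal.ker_algebraMap_residueField])
    show hV.fromSpec.base ((Spec.map (CommRingCat.ofHom (algebraMap R K))).base (IsLocalRing.closedPoint K)) = _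
    rw [this]
  have hdim : ringKrullDim (S.presheaf.stalk s) ≤ 1 := by
    rw [hs]
    have hy : hV.fromSpec y ∈ V := by
      have := hV.range_fromSpec
      exact this.le ⟨y, rfl⟩
    letI := S.presheaf.algebra_section_stalk (⟨hV.fromSpec y, hy⟩ : V)
    haveI : IsLocalization.AtPrime (S.presheaf.stalk (hV.fromSpec y)) p := hV.isLocalization_stalk' y hy
    rw [IsLocalization.AtPrime.ringKrullDim_eq_height p (S.presheaf.stalk (hV.fromSpec y))]
    exact_mod_cast hp
  let t : Spec (.of K) ⟶ Spec (S.residueField s) := Spec.map (S.descResidueField (Scheme.stalkClosedPointTo x))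
  have ht : t ≫ S.fromSpecResidueField s = x :=
    Scheme.descResidueField_stalkClosedPointTo_fromSpecResidueField K S x
  -- the cartesian squares
  have sqA : IsPullback (Spec.map (CommRingCat.ofHom (Algebra.TensorProduct.includeRight : A →ₐ[R] K ⊗[R] A).toRingHom) ≫ hW'.fromSpec)
      (Spec.map (CommRingCat.ofHom (Algebra.TensorProduct.includeLeftRingHom : K →+* K ⊗[R] A))) f' x :=
    (isPullback_SpecMap_of_isPushout _ _ _ _ (CommRingCat.isPushout_tensorProduct R K A).flip).paste_horiz
      (IsOpenImmersion.isPullback (Spec.map α) hW'.fromSpec hV.fromSpec f' (by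
        rw [show α = f'.appLE V (f' ⁻¹ᵁ V) le_rfl from Scheme.Hom.app_eq_appLE _,
          IsAffineOpen.SpecMap_appLE_fromSpec f' hV hW']) (by
        rw [hV.opensRange_fromSpec, hW'.opensRange_fromSpec])).flip
  have sqB : IsPullback (Spec.map (CommRingCat.ofHom (Algebra.TensorProduct.includeRight : B →ₐ[R] K ⊗[R] B).toRingHom) ≫ hW.fromSpec)
      (Spec.map (CommRingCat.ofHom (Algebra.TensorProduct.includeLeftRingHom : K →+* K ⊗[R] B))) f x :=
    (isPullback_SpecMap_of_isPushout _ _ _ _ (CommRingCat.isPushout_tensorProduct R K B).flip).paste_horiz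
      (IsOpenImmersion.isPullback (Spec.map (α ≫ β)) hW.fromSpec hV.fromSpec f (by
        rw [hαβ, IsAffineOpen.SpecMap_appLE_fromSpec f hV hW]) (by
        rw [hV.opensRange_fromSpec, hW.opensRange_fromSpec, hpre])).flip
  let m : K ⊗[R] A →ₐ[R] K ⊗[R] B := Algebra.TensorProduct.map (AlgHom.id R K) uA
  rw [← ht] at sqA sqB
  have hiso := isIso_of_fibre g hg (S.fromSpecResidueField s) t sqB sqA (Spec.map (CommRingCat.ofHom m.toRingHom)) ?_ ?_
    (hfib s hdim)
  · have := (isIso_SpecMap_iff.mp hiso)
    have e : (uA.toLinearMap.baseChange K : K ⊗[R] A → K ⊗[R] B) = m := by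
      funext z
      induction z with
      | zero => simp
      | add x y hx hy => simp only [map_add, hx, hy]
      | tmul a b => simp [m]
    rw [e]
    exact this
  · have hc : Spec.map β ≫ hW'.fromSpec = hW.fromSpec ≫ g := by
      rw [show β = g.appLE (f' ⁻¹ᵁ V) (g ⁻¹ᵁ (f' ⁻¹ᵁ V)) le_rfl from Scheme.Hom.app_eq_appLE _,
        IsAffineOpen.SpecMap_appLE_fromSpec g hW' hW]
    rw [Category.assoc, ← hc, ← Spec.map_comp_assoc, ← Spec.map_comp_assoc]
    congr 2
  · rw [← Spec.map_comp]
    congr 1
    refine CommRingCat.hom_ext (RingHom.ext fun z => ?_)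
    show m (z ⊗ₜ 1) = z ⊗ₜ 1
    simp [m]

/-- A closed subset containing the points of codimension at most one is everything. -/
theorem surjective_of_codimOne (h : Z ⟶ S) [IsFinite h]
    (hs : ∀ s : S, ringKrullDim (S.presheaf.stalk s) ≤ 1 → s ∈ Set.range h.base) :
    Function.Surjective h.base := by
  intro s
  obtain ⟨V, hV, hsV, -⟩ := exists_isAffineOpen_mem_and_subset (X := S) (x := s) (U := ⊤) trivial
  obtain ⟨p, hp, hle⟩ := Ideal.exists_minimalPrimes_le (I := ⊥) (bot_le : ⊥ ≤ (hV.primeIdealOf ⟨s, hsV⟩).asIdeal)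
  haveI := hp.isPrime
  let y : PrimeSpectrum Γ(S, V) := ⟨p, hp.isPrime⟩
  have hy : hV.fromSpec y ∈ V := hV.range_fromSpec.le ⟨y, rfl⟩
  have hdim : ringKrullDim (S.presheaf.stalk (hV.fromSpec y)) ≤ 1 := by
    letI := S.presheaf.algebra_section_stalk (⟨hV.fromSpec y, hy⟩ : V)
    haveI : IsLocalization.AtPrime (S.presheaf.stalk (hV.fromSpec y)) p := hV.isLocalization_stalk' y hy
    rw [IsLocalization.AtPrime.ringKrullDim_eq_height p (S.presheaf.stalk (hV.fromSpec y))]
    have : p.height = 0 := Ideal.height_eq_zero_iff.mpr hp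
    simp [this]
  have hspec : hV.fromSpec y ⤳ s := by
    show hV.fromSpec.base y ⤳ _
    conv_rhs => rw [show s = hV.fromSpec.base (hV.primeIdealOf ⟨s, hsV⟩) from (hV.fromSpec_primeIdealOf ⟨s, hsV⟩).symm]
    exact ((PrimeSpectrum.le_iff_specializes y _).mp hle).map hV.fromSpec.continuous
  exact hspec.mem_closed h.isClosedMap.isClosed_range (hs _ hdim)

end Groth.Agent.H23Wild
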