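import Groth.Agent.H8Props.MiracleFlat
import Groth.Agent.H05EGA4.Regular
import Groth.Agent.H29Curve.Trdeg
import Groth.Agent.H26Grass.DimLemma
import Groth.Agent.H4Depth.Regular
import Mathlib.RingTheory.LocalRing.Module
import Mathlib.RingTheory.TensorProduct.Maps

/-! # Coproduct decompositions of a finite free algebra -/

set_option autoImplicit false

universe u v w

open IsLocalRing TensorProduct

namespace Groth.Agent.H23Wild.Coprod

/-- A regular local ring, finite and injective over a regular local ring, is free over it. -/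
theorem free_of_regular_same {R A : Type u} [CommRing R] [IsRegularLocalRing R] [CommRing A]
    [IsRegularLocalRing A] [Algebra R A] [Module.Finite R A] (hinj : Function.Injective (algebraMap R A)) :
    Module.Free R A := by
  haveI : FaithfulSMul R A := (faithfulSMul_iff_algebraMap_injective R A).mpr hinj
  have hint : (algebraMap R A).IsIntegral := algebraMap_isIntegral_iff.mpr inferInstance
  haveI : IsLocalHom (algebraMap R A) := RingHom.IsIntegral.isLocalHom hint hinj
  haveI := H4Depth.isCohenMacaulayLocalRing_of_regular A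
  have hd : ringKrullDim R = ringKrullDim A :=
    le_antisymm (H29Curve.ringKrullDim_le_of_isIntegral (algebraMap R A) hint hinj)
      (H26Grass.ringKrullDim_le_of_integral (R := R) (S := A))
  haveI : Module.Flat R A := by
    refine H8Props.MiracleFlat.flat_of_regular_of_cohenMacaulay _ _ ?_
    set J := (maximalIdeal R).map (algebraMap R A) with hJ
    have h0 : ringKrullDim (A ⧸ J) ≤ 0 := by
      refine Ring.krullDimLE_iff.mp (Ring.krullDimLE_zero_iff.mpr fun I hI => ?_)
      have hQJ : J ≤ I.comap (Ideal.Quotient.mk J) := fun z hz => by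
        show Ideal.Quotient.mk J z ∈ I
        rw [Ideal.Quotient.eq_zero_iff_mem.mpr hz]; exact I.zero_mem
      haveI := Ideal.comap_isPrime (Ideal.Quotient.mk J) I
      have hM : (I.comap (Ideal.Quotient.mk J)).IsMaximal := by
        refine Ideal.isMaximal_of_isIntegral_of_isMaximal_comap (R := R) _ ?_
        rw [← (maximalIdeal.isMaximal _).eq_of_le (Ideal.comap_isPrime (algebraMap R A) _).ne_top
          (Ideal.map_le_iff_le_comap.mp hQJ)]
        exact maximalIdeal.isMaximal _
      rw [← Ideal.map_comap_of_surjective _ Ideal.Quotient.mk_surjective I]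
      exact Ideal.IsMaximal.map_of_surjective_of_ker_le Ideal.Quotient.mk_surjective (by rwa [Ideal.mk_ker])
    calc ringKrullDim R + ringKrullDim (A ⧸ J)
        ≤ ringKrullDim R + 0 := add_le_add le_rfl h0
      _ = ringKrullDim A := by rw [add_zero, hd]
  exact Module.free_of_flat_of_isLocalRing

theorem free_of_equiv {R R₁ A A₁ : Type*} [CommRing R] [CommRing R₁] [CommRing A] [CommRing A₁]
    [Algebra R A] [Algebra R₁ A₁] (eR : R₁ ≃+* R) (eA : A₁ ≃+* A)
    (h : ∀ r, algebraMap R A (eR r) = eA (algebraMap R₁ A₁ r)) [Module.Free R₁ A₁] : Module.Free R A := by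
  haveI := RingHomInvPair.of_ringEquiv eR
  haveI := RingHomInvPair.of_ringEquiv_symm eR
  exact Module.Free.of_equiv (σ := (eR : R₁ →+* R)) (σ' := (eR.symm : R →+* R₁))
    ({ eA.toAddEquiv with
        map_smul' := fun r a => by
          show eA (r • a) = eR r • eA a
          rw [Algebra.smul_def, Algebra.smul_def, map_mul, h] } : A₁ ≃ₛₗ[(eR : R₁ →+* R)] A)

theorem free_of_regular_aux {R : Type u} {A : Type v} [CommRing R] [IsRegularLocalRing R] [CommRing A]
    [IsRegularLocalRing A] [Algebra R A] [Module.Finite R A] (hinj : Function.Injective (algebraMap R A))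
    {R₁ A₁ : Type w} [CommRing R₁] [CommRing A₁] (eR : R₁ ≃+* R) (eA : A₁ ≃+* A) :
    Module.Free R A := by
  haveI : IsRegularLocalRing R₁ := IsRegularLocalRing.of_ringEquiv eR.symm
  haveI : IsRegularLocalRing A₁ := IsRegularLocalRing.of_ringEquiv eA.symm
  let g : R₁ →+* A₁ := eA.symm.toRingHom.comp ((algebraMap R A).comp eR.toRingHom)
  letI := g.toAlgebra
  have h : ∀ r, algebraMap R A (eR r) = eA (algebraMap R₁ A₁ r) := fun r => (eA.apply_symm_apply _).symm
  haveI : Module.Finite R₁ A₁ :=
    Module.Finite.of_equiv_equiv eR.symm eA.symm (RingHom.ext fun r => eA.injective (by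
      show eA (algebraMap R₁ A₁ (eR.symm r)) = eA (eA.symm (algebraMap R A r))
      rw [← h, RingEquiv.apply_symm_apply, RingEquiv.apply_symm_apply]))
  haveI := free_of_regular_same (R := R₁) (A := A₁)
    (fun a b hab => eR.injective (hinj (eA.symm.injective hab)))
  exact free_of_equiv eR eA h

theorem free_of_regular {R : Type u} {A : Type v} [CommRing R] [IsRegularLocalRing R] [CommRing A]
    [IsRegularLocalRing A] [Algebra R A] [Module.Finite R A] (hinj : Function.Injective (algebraMap R A)) :
    Module.Free R A :=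
  free_of_regular_aux hinj (R₁ := ULift.{v} R) (A₁ := ULift.{u} A) ULift.ringEquiv ULift.ringEquiv

variable {R : Type u} [CommRing R] [IsLocalRing R] {A : Type v} [CommRing A] [Nontrivial A] [Algebra R A]

/-- A linear retraction onto the base ring. -/
theorem exists_retraction [Module.Free R A] [Module.Finite R A] :
    ∃ ρ : A →ₗ[R] R, ρ 1 = 1 := by
  classical
  let b := Module.Free.chooseBasis R A
  by_cases h : ∀ k, b.repr 1 k ∈ maximalIdeal R
  · exfalso
    have h1 : (1 : A) ∈ (maximalIdeal R • ⊤ : Submodule R A) := by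
      rw [← b.linearCombination_repr 1, Finsupp.linearCombination_apply]
      exact Submodule.sum_mem _ fun k _ => Submodule.smul_mem_smul (h k) Submodule.mem_top
    have h2 : (⊤ : Submodule R A) ≤ maximalIdeal R • ⊤ := by
      intro a _
      rw [Ideal.smul_top_eq_map, Submodule.restrictScalars_mem] at h1 ⊢
      simpa using Ideal.mul_mem_left _ a h1
    exact top_ne_bot (α := Submodule R A) (Submodule.eq_bot_of_le_smul_of_le_jacobson_bot (maximalIdeal R) ⊤ Module.Finite.fg_top
      h2 (maximalIdeal_le_jacobson ⊥))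
  · push_neg at h
    obtain ⟨k, hk⟩ := h
    obtain ⟨c, hc⟩ : IsUnit (b.repr 1 k) := by simpa using hk
    exact ⟨(↑c⁻¹ : R) • b.coord k, by simp [Module.Basis.coord_apply, ← hc]⟩

theorem free_and_flat [IsNoetherianRing R] [Module.Free R A] [Module.Finite R A] {ι : Type} (B : ι → Subalgebra R A)
    (hcp : ∀ (C : Type v) [CommRing C] [Algebra R C] (φ : ∀ i, B i →ₐ[R] C),
      ∃! ψ : A →ₐ[R] C, ∀ i (x : B i), ψ x = φ i x) (i : ι) :
    Module.Free R (B i) ∧ Module.Flat (B i) A := by
  classical
  obtain ⟨ρ, hρ⟩ := exists_retraction (R := R) (A := A)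
  haveI : IsNoetherian R A := inferInstance
  haveI : Module.Finite R (B i) := Module.Finite.iff_fg.mpr (IsNoetherian.noetherian (Subalgebra.toSubmodule (B i)))
  let B' : Subalgebra R A := ⨆ j ∈ {j : ι | j ≠ i}, B j
  have hB' : ∀ j, j ≠ i → B j ≤ B' := fun j hj => le_biSup B (show j ∈ {j : ι | j ≠ i} from hj)
  let μ : (B i) ⊗[R] B' →ₐ[B i] A :=
    Algebra.TensorProduct.lift (Algebra.ofId (B i) A) B'.val fun _ _ => Commute.all _ _
  obtain ⟨ψ, hψ, -⟩ := hcp ((B i) ⊗[R] B') fun j => if h : j = i then h ▸ Algebra.TensorProduct.includeLeft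
    else Algebra.TensorProduct.includeRight.comp (Subalgebra.inclusion (hB' j h))
  have hψi : ∀ x : B i, ψ x = x ⊗ₜ[R] (1 : B') := fun x => by
    have := hψ i x
    rw [dif_pos rfl] at this
    exact this
  have hψj : ∀ j (h : j ≠ i) (x : B j), ψ x = (1 : B i) ⊗ₜ[R] Subalgebra.inclusion (hB' j h) x := fun j h x => by
    have := hψ j x
    rw [dif_neg h] at this
    exact this
  have hμψ : (μ.restrictScalars R).comp ψ = AlgHom.id R A := by
    refine (hcp A fun j => (B j).val).unique (fun j x => ?_) fun j x => rfl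
    by_cases h : j = i
    · subst h
      show μ (ψ x) = x
      rw [hψi]
      simp [μ, Algebra.ofId_apply]
    · show μ (ψ x) = x
      rw [hψj j h x]
      simp [μ]
  have hright : ∀ x : B', (1 : B i) ⊗ₜ[R] x ∈ ψ.range := by
    intro x
    let T : Subalgebra R B' := ψ.range.comap Algebra.TensorProduct.includeRight
    have hT : B' ≤ T.map B'.val := iSup₂_le fun j hj a ha =>
      ⟨Subalgebra.inclusion (hB' j hj) ⟨a, ha⟩, ⟨a, hψj j hj ⟨a, ha⟩⟩, rfl⟩
    obtain ⟨y, hy, hyx⟩ := hT x.2
    obtain rfl : y = x := Subtype.ext hyx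
    exact hy
  have hψsurj : Function.Surjective ψ := fun z => by
    show z ∈ ψ.range
    induction z using TensorProduct.induction_on with
    | zero => exact zero_mem _
    | tmul x y =>
      rw [show x ⊗ₜ[R] y = (x ⊗ₜ[R] (1 : B')) * ((1 : B i) ⊗ₜ[R] y) by simp]
      exact mul_mem ⟨x, hψi x⟩ (hright y)
    | add x y hx hy => exact add_mem hx hy
  have hid : ∀ a, μ (ψ a) = a := fun a => AlgHom.congr_fun hμψ a
  have hμbij : Function.Bijective μ := ⟨fun z z' h => by
    obtain ⟨a, rfl⟩ := hψsurj z
    obtain ⟨a', rfl⟩ := hψsurj z'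
    rw [hid, hid] at h
    rw [h], fun a => ⟨ψ a, hid a⟩⟩
  -- `B i` is a direct summand
  obtain ⟨ψ₁, hψ₁, -⟩ := hcp ((B i) ⊗[R] A) fun j => if h : j = i then h ▸ Algebra.TensorProduct.includeLeft
    else Algebra.TensorProduct.includeRight.comp (B j).val
  let π : A →ₗ[R] B i := (TensorProduct.rid R (B i)).toLinearMap ∘ₗ (ρ.lTensor (B i)) ∘ₗ ψ₁.toLinearMap
  have hπ : π ∘ₗ (B i).val.toLinearMap = LinearMap.id := LinearMap.ext fun x => by
    have := hψ₁ i x
    rw [dif_pos rfl] at this
    show TensorProduct.rid R (B i) (ρ.lTensor (B i) (ψ₁ x)) = x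
    rw [this]
    simp [hρ]
  haveI : Module.Projective R (B i) := Module.Projective.of_split _ π hπ
  haveI hfree : Module.Free R (B i) := Module.free_of_flat_of_isLocalRing
  -- `B'` is a direct summand
  let π' : A →ₗ[R] B' := (TensorProduct.lid R B').toLinearMap ∘ₗ
    ((ρ ∘ₗ (B i).val.toLinearMap).rTensor B') ∘ₗ ψ.toLinearMap
  have hπ' : π' ∘ₗ B'.val.toLinearMap = LinearMap.id := LinearMap.ext fun x => by
    show TensorProduct.lid R B' ((ρ ∘ₗ (B i).val.toLinearMap).rTensor B' (ψ x)) = x
    rw [show ψ (x : A) = (1 : B i) ⊗ₜ[R] x from hμbij.1 (by rw [hid]; simp [μ])]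
    simp [hρ]
  haveI : Module.Projective R B' := Module.Projective.of_split _ π' hπ'
  exact ⟨hfree, Module.Flat.of_linearEquiv (LinearEquiv.ofBijective μ.toLinearMap hμbij).symm⟩

/-- The members of a coproduct decomposition of a regular local ring over a regular local ring. -/
theorem free_and_regular {R : Type u} {A : Type v} [CommRing R] [IsRegularLocalRing R] [CommRing A]
    [IsRegularLocalRing A] [Algebra R A] [Module.Finite R A] (hinj : Function.Injective (algebraMap R A))
    {ι : Type} (B : ι → Subalgebra R A)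
    (hcp : ∀ (C : Type v) [CommRing C] [Algebra R C] (φ : ∀ i, B i →ₐ[R] C),
      ∃! ψ : A →ₐ[R] C, ∀ i (x : B i), ψ x = φ i x) (i : ι) :
    Module.Free R (B i) ∧ IsRegularLocalRing (B i) := by
  haveI := free_of_regular hinj
  obtain ⟨hf, hflat⟩ := free_and_flat B hcp i
  haveI := hflat
  refine ⟨hf, ?_⟩
  haveI : Module.Finite R (B i) := Module.Finite.iff_fg.mpr (IsNoetherian.noetherian (Subalgebra.toSubmodule (B i)))
  haveI : IsNoetherianRing (B i) := IsNoetherianRing.of_finite R _
  haveI : Module.Finite (B i) A := Module.Finite.of_restrictScalars_finite R _ A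
  haveI : IsLocalHom (algebraMap (B i) A) :=
    RingHom.IsIntegral.isLocalHom (algebraMap_isIntegral_iff.mpr inferInstance) Subtype.val_injective
  haveI : IsLocalRing (B i) := RingHom.domain_isLocalRing (algebraMap (B i) A)
  exact H05EGA4.isRegularLocalRing_of_flat (B := A)

end Groth.Agent.H23Wild.Coprod
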