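import Groth.Agent.H1CAlg.ReflexiveNormal
import Groth.Agent.H4Depth.Regular
import Groth.Agent.H26Grass.DimLemma
import Groth.Agent.H29Curve.Trdeg
import Mathlib.LinearAlgebra.Matrix.ToLinearEquiv
import Mathlib.LinearAlgebra.LinearIndependent.Basic
import Mathlib.FieldTheory.Galois.IsGaloisGroup
import Mathlib.RingTheory.Ideal.KrullsHeightTheorem
import Mathlib.RingTheory.Nakayama

/-! # Galois covers of two-dimensional regular local rings -/

set_option autoImplicit false

universe u v w

namespace Groth.Agent.H23Wild.DimTwo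

open IsLocalRing

theorem free_of_regular_pair (R : Type u) [CommRing R] [IsLocalRing R] [IsNoetherianRing R] (x y : R)
    (hm : maximalIdeal R = Ideal.span {x, y}) (A : Type v) [CommRing A] [Algebra R A] [Module.Finite R A]
    (hx : ∀ a : A, algebraMap R A x * a = 0 → a = 0)
    (hy : ∀ a c : A, algebraMap R A y * a = algebraMap R A x * c → ∃ d, a = algebraMap R A x * d) :
    Module.Free R A := by
  classical
  obtain ⟨s, hscard, hs⟩ := Submodule.FG.exists_span_finset_card_eq_spanFinrank (Module.Finite.fg_top (R := R) (M := A))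
  let b : s → A := fun i => i.1
  have hb : Submodule.span R (Set.range b) = ⊤ := by
    rw [show Set.range b = (s : Set A) from Subtype.range_coe]; exact hs
  let Φ : (s → R) →ₗ[R] A := Fintype.linearCombination R b
  have hΦ : Function.Surjective Φ := LinearMap.range_eq_top.mp (by rw [Fintype.range_linearCombination, hb])
  have hcoef : ∀ r ∈ LinearMap.ker Φ, ∀ i, r i ∈ maximalIdeal R := by
    intro r hr i
    by_contra hi
    obtain ⟨u, hu⟩ : IsUnit (r i) := by simpa using hi
    have hr' : ∑ j, r j • b j = 0 := (Fintype.linearCombination_apply R b r).symm.trans (LinearMap.mem_ker.mp hr)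
    rw [← Finset.add_sum_erase _ _ (Finset.mem_univ i), add_eq_zero_iff_eq_neg] at hr'
    have hmem : b i ∈ Submodule.span R (((s.erase i.1) : Finset A) : Set A) := by
      have : b i = (↑u⁻¹ : R) • (r i • b i) := by rw [smul_smul, ← hu, Units.inv_mul, one_smul]
      rw [this, hr']
      refine Submodule.smul_mem _ _ (Submodule.neg_mem _ (Submodule.sum_mem _ fun j hj => Submodule.smul_mem _ _
        (Submodule.subset_span (Finset.mem_coe.mpr (Finset.mem_erase.mpr
          ⟨fun h => (Finset.mem_erase.mp hj).1 (Subtype.ext h), j.2⟩)))))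
    have htop : Submodule.span R (((s.erase i.1) : Finset A) : Set A) = ⊤ := by
      rw [eq_top_iff, ← hs, Submodule.span_le]
      intro z hz
      by_cases hzi : z = i.1
      · subst hzi; exact hmem
      · exact Submodule.subset_span (Finset.mem_erase.mpr ⟨hzi, hz⟩)
    have h1 := Submodule.spanFinrank_span_le_ncard_of_finite (R := R) ((s.erase i.1).finite_toSet)
    rw [htop, Set.ncard_coe_finset, ← hscard, Finset.card_erase_of_mem i.2] at h1
    have : 0 < s.card := Finset.card_pos.mpr ⟨i.1, i.2⟩
    omega
  have hker : LinearMap.ker Φ = ⊥ := by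
    refine Submodule.eq_bot_of_le_smul_of_le_jacobson_bot (maximalIdeal R) _ (IsNoetherian.noetherian _) ?_
      (maximalIdeal_le_jacobson ⊥)
    intro r hr
    have hc : ∀ i, ∃ p q : R, p * x + q * y = r i := fun i => Ideal.mem_span_pair.mp (hm ▸ hcoef r hr i)
    choose p q hpq using hc
    have hr2 : r = x • p + y • q := funext fun i => by
      rw [Pi.add_apply, Pi.smul_apply, Pi.smul_apply, smul_eq_mul, smul_eq_mul, mul_comm x, mul_comm y, hpq]
    have h0 : algebraMap R A x * Φ p + algebraMap R A y * Φ q = 0 := by
      rw [← Algebra.smul_def, ← Algebra.smul_def, ← map_smul, ← map_smul, ← map_add, ← hr2, LinearMap.mem_ker.mp hr]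
    obtain ⟨d, hd⟩ := hy (Φ q) (-Φ p) (by rw [mul_neg]; exact eq_neg_of_add_eq_zero_right h0)
    obtain ⟨e, rfl⟩ := hΦ d
    have hq : q - x • e ∈ LinearMap.ker Φ := by
      rw [LinearMap.mem_ker, map_sub, map_smul, Algebra.smul_def, hd, sub_self]
    have hp : p + y • e ∈ LinearMap.ker Φ := by
      rw [LinearMap.mem_ker, map_add, map_smul, Algebra.smul_def]
      refine hx _ ?_
      rw [mul_add, mul_left_comm, ← hd]
      exact h0
    rw [hr2, show x • p + y • q = x • (p + y • e) + y • (q - x • e) by
      rw [smul_add, smul_sub, smul_comm y x e]; abel]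
    exact add_mem (Submodule.smul_mem_smul (hm ▸ Ideal.subset_span (by simp)) hp)
      (Submodule.smul_mem_smul (hm ▸ Ideal.subset_span (by simp)) hq)
  exact Module.Free.of_equiv (LinearEquiv.ofBijective Φ ⟨LinearMap.ker_eq_bot.mp hker, hΦ⟩)

variable (R : Type u) [CommRing R] [IsRegularLocalRing R] (A : Type v) [CommRing A] [IsDomain A]
  [IsLocalRing A] [Algebra R A] [Module.Finite R A]

theorem eq_maximalIdeal_of_comap_eq (P : Ideal A) [P.IsPrime]
    (h : maximalIdeal R ≤ P.comap (algebraMap R A)) : P = maximalIdeal A :=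
  IsLocalRing.eq_maximalIdeal (Ideal.isMaximal_of_isIntegral_of_isMaximal_comap P
    ((maximalIdeal.isMaximal R).eq_of_le (Ideal.comap_isPrime (algebraMap R A) P).ne_top h ▸ maximalIdeal.isMaximal R))

theorem free_of_dim_two {A : Type v} [CommRing A] [IsDomain A] [IsIntegrallyClosed A] [IsLocalRing A] [Algebra R A]
    [Module.Finite R A] (hinj : Function.Injective (algebraMap R A)) (hdim : ringKrullDim A = 2) :
    Module.Free R A := by
  haveI : IsNoetherianRing A := IsNoetherianRing.of_finite R A
  have hR : ringKrullDim R = ((2 : ℕ) : WithBot ℕ∞) :=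
    (le_antisymm ((H29Curve.ringKrullDim_le_of_isIntegral (algebraMap R A) Algebra.IsIntegral.isIntegral hinj).trans
      hdim.le) (hdim ▸ H26Grass.ringKrullDim_le_of_integral)).trans (by norm_num)
  obtain ⟨d, z, hd, hz⟩ := H4Depth.exists_regular_system_of_parameters R
  obtain rfl : d = 2 := by rw [hR] at hd; exact_mod_cast hd.symm
  have hm : maximalIdeal R = Ideal.span {z 0, z 1} := by
    rw [← hz]
    congr 1
    ext r
    simp [Fin.exists_fin_two, eq_comm]
  have hz0 : algebraMap R A (z 0) ≠ 0 := by
    intro h0
    have h1 : z 0 = 0 := hinj (h0.trans (map_zero _).symm)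
    have hle := ringKrullDim_le_spanFinrank_maximalIdeal R
    rw [hm, h1, Ideal.span_insert_zero, hR] at hle
    have h2 := Submodule.spanFinrank_span_le_ncard_of_finite (R := R) (Set.finite_singleton (z 1))
    rw [Set.ncard_singleton] at h2
    change (Ideal.span {z 1}).spanFinrank ≤ 1 at h2
    have : (2 : ℕ) ≤ (Ideal.span {z 1}).spanFinrank := by exact_mod_cast hle
    omega
  refine free_of_regular_pair R (z 0) (z 1) hm A (fun a ha => (mul_eq_zero.mp ha).resolve_left hz0) fun a c hac => ?_
  let K := FractionRing A
  have hz0K : algebraMap A K (algebraMap R A (z 0)) ≠ 0 := fun h => hz0 (IsFractionRing.injective A K (h.trans (map_zero _).symm))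
  obtain ⟨d, hd'⟩ := H1CAlg.mem_range_of_height_le_one (algebraMap A K a / algebraMap A K (algebraMap R A (z 0)))
    fun P _ hP => by
      by_cases h0 : algebraMap R A (z 0) ∈ P
      · refine ⟨algebraMap R A (z 1), fun h1 => ?_, c, ?_⟩
        · have hPm := eq_maximalIdeal_of_comap_eq R A P (by
            rw [hm, Ideal.span_le]
            rintro r (rfl | rfl)
            · exact h0
            · exact h1)
          have h3 := IsLocalRing.maximalIdeal_height_eq_ringKrullDim (R := A)
          rw [← hPm, hP, hdim] at h3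
          exact absurd h3 (by decide)
        · rw [mul_div_assoc', ← map_mul, hac, map_mul, mul_div_cancel_left₀ _ hz0K]
      · exact ⟨_, h0, a, by rw [mul_div_cancel₀ _ hz0K]⟩
  refine ⟨d, IsFractionRing.injective A K ?_⟩
  rw [map_mul, hd', mul_div_cancel₀ _ hz0K]

omit [IsRegularLocalRing R] in
/-- No nontrivial Galois group with trivial inertia in height one. -/
theorem eq_one_of_trivial_inertia [IsLocalRing R] [IsNoetherianRing R] [Module.Free R A] (hinj : Function.Injective (algebraMap R A))
    (hres : Function.Surjective (IsLocalRing.residue A ∘ algebraMap R A)) (hdim : 2 ≤ ringKrullDim A)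
    (H : Type w) [Group H] [Finite H] [MulSemiringAction H A] [SMulCommClass H R A] [FaithfulSMul H A]
    (hfix : ∀ a : A, (∀ h : H, h • a = a) → a ∈ Set.range (algebraMap R A))
    (hin : ∀ P : Ideal A, P.IsPrime → P.height = 1 → P.inertia H = ⊥) (h₀ : H) : h₀ = 1 := by
  classical
  haveI : IsNoetherianRing A := IsNoetherianRing.of_finite R A
  haveI : FaithfulSMul R A := (faithfulSMul_iff_algebraMap_injective R A).mpr hinj
  haveI : Algebra.IsInvariant R A H := ⟨fun a ha => hfix a ha⟩
  haveI : IsGaloisGroup H R A := { faithful := inferInstance, commutes := inferInstance, isInvariant := inferInstance }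
  haveI : Fintype H := Fintype.ofFinite H
  let bs := Module.Free.chooseBasis R A
  have hcard : Fintype.card H = Fintype.card (Module.Free.ChooseBasisIndex R A) := by
    rw [← Module.finrank_eq_card_chooseBasisIndex, ← IsGaloisGroup.card_eq_finrank' H R A, Nat.card_eq_fintype_card]
  let e := Fintype.equivOfCardEq hcard
  let Mx : Matrix H H A := fun h j => h • bs (e j)
  have hnot : ∀ P : Ideal A, P.IsPrime → P.height ≤ 1 → Mx.det ∉ P := by
    intro P hP hh hdet
    let ι : A →+* P.ResidueField := algebraMap A P.ResidueField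
    have htriv : ∀ h : H, (∀ a, h • a - a ∈ P) → h = 1 := by
      intro h hh'
      rcases hh.lt_or_eq with h0 | h1
      · have hPb : P = ⊥ := Ideal.height_eq_zero_iff_eq_bot.mp (ENat.lt_one_iff_eq_zero.mp h0)
        refine FaithfulSMul.eq_of_smul_eq_smul (α := A) fun a => ?_
        have := hh' a
        rw [hPb, Submodule.mem_bot, sub_eq_zero] at this
        rw [this, one_smul]
      · have : h ∈ P.inertia H := hh'
        rw [hin P hP h1, Subgroup.mem_bot] at this
        exact this
    let ψ : H → A →* P.ResidueField := fun h => (ι.comp (MulSemiringAction.toRingHom H A h) : A →* P.ResidueField)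
    have hψ : Function.Injective ψ := fun h g hhg => by
      have : h * g⁻¹ = 1 := htriv _ fun a => by
        have hst : ι (h • (g⁻¹ • a)) = ι (g • (g⁻¹ • a)) := DFunLike.congr_fun hhg (g⁻¹ • a)
        rw [smul_inv_smul, ← mul_smul, ← sub_eq_zero, ← map_sub] at hst
        exact Ideal.algebraMap_residueField_eq_zero.mp hst
      exact mul_inv_eq_one.mp this
    have h1 : (ι.mapMatrix Mx).det = 0 := by
      rw [← RingHom.map_det]
      exact Ideal.algebraMap_residueField_eq_zero.mpr hdet
    obtain ⟨c, hc0, hc⟩ := Matrix.exists_vecMul_eq_zero_iff.mpr h1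
    have hli := (linearIndependent_monoidHom A P.ResidueField).comp ψ hψ
    refine hc0 (funext (Fintype.linearIndependent_iff.mp hli c (funext fun a => ?_)))
    simp only [Function.comp_apply, Finset.sum_apply, Pi.smul_apply, smul_eq_mul, Pi.zero_apply]
    have hbasis : ∀ j, ∑ h, c h * ι (h • bs j) = 0 := fun j => by
      have := congrFun hc (e.symm j)
      change ∑ h, c h * ι (h • bs (e (e.symm j))) = 0 at this
      rwa [e.apply_symm_apply] at this
    show ∑ h, c h * ι (h • a) = 0
    conv_lhs => rw [← bs.sum_repr a]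
    have hstep : ∀ h : H, c h * ι (h • ∑ j, bs.repr a j • bs j) =
        ∑ j, ι (algebraMap R A (bs.repr a j)) * (c h * ι (h • bs j)) := fun h => by
      rw [Finset.smul_sum, map_sum, Finset.mul_sum]
      refine Finset.sum_congr rfl fun j _ => ?_
      rw [smul_comm, Algebra.smul_def, map_mul]; ring
    rw [Finset.sum_congr rfl (fun h _ => hstep h), Finset.sum_comm]
    exact Finset.sum_eq_zero fun j _ => by rw [← Finset.mul_sum, hbasis, mul_zero]
  have hunit : IsUnit Mx.det := by
    by_contra hu
    obtain ⟨P, hP, -⟩ := Ideal.exists_minimalPrimes_le (I := Ideal.span {Mx.det}) (J := maximalIdeal A)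
      (Ideal.span_le.mpr (Set.singleton_subset_iff.mpr hu))
    exact hnot P hP.1.1 (Ideal.height_le_one_of_isPrincipal_of_mem_minimalPrimes _ _ hP)
      (hP.1.2 (Ideal.mem_span_singleton_self _))
  by_contra hne
  have hrow : ((residue A).mapMatrix Mx) h₀ = ((residue A).mapMatrix Mx) 1 := by
    funext j
    show residue A (h₀ • bs (e j)) = residue A ((1 : H) • bs (e j))
    obtain ⟨r, hr⟩ := hres (residue A (bs (e j)))
    rw [one_smul]
    have hm : bs (e j) - algebraMap R A r ∈ maximalIdeal A := Ideal.Quotient.eq.mp hr.symm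
    refine (Ideal.Quotient.eq.mpr (?_ : h₀ • bs (e j) - bs (e j) ∈ maximalIdeal A))
    rw [show h₀ • bs (e j) - bs (e j) = h₀ • (bs (e j) - algebraMap R A r) - (bs (e j) - algebraMap R A r) by
      rw [smul_sub, smul_algebraMap]; ring]
    refine sub_mem ?_ hm
    intro hu
    exact hm (by simpa using hu.map (MulSemiringAction.toRingHom H A h₀⁻¹))
  have := Matrix.det_zero_of_row_eq hne hrow
  rw [← RingHom.map_det] at this
  exact (hunit.map (residue A)).ne_zero this

end Groth.Agent.H23Wild.DimTwo
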