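import Groth.Agent.H23Wild.Invariants
import Groth.Agent.H05EGA4.Rk

/-! # The invariant ring is regular where the action is free -/

set_option autoImplicit false

universe u w

open IsLocalRing

namespace Groth.Agent.H23Wild.Invariants

variable {A : Type u} [CommRing A] (G : Type w) [Group G] [MulSemiringAction G A] [Fintype G]

/-- The orbit of an element as a function on the group. -/
def orbitFun : A →* (G → A) where
  toFun a g := g • a
  map_one' := funext fun g => smul_one g
  map_mul' a b := funext fun g => smul_mul' g a b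

/-- The trace to the invariants. -/
noncomputable def tr : A →ₗ[FixedPoints.subring A G] FixedPoints.subring A G where
  toFun a := ⟨∑ g : G, g • a, fun h => by
    rw [Finset.smul_sum]
    exact Fintype.sum_equiv (Equiv.mulLeft h) _ _ fun g => (mul_smul h g a).symm⟩
  map_add' a b := Subtype.ext (by simp [smul_add, Finset.sum_add_distrib])
  map_smul' b a := Subtype.ext (by
    show ∑ g : G, g • ((b : A) * a) = (b : A) * ∑ g : G, g • a
    rw [Finset.mul_sum]
    exact Finset.sum_congr rfl fun g _ => by rw [smul_mul', b.2 g])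

open Classical in
theorem exists_coeff_frame (P : Ideal (FixedPoints.subring A G)) [P.IsPrime]
    [Algebra.IsIntegral (FixedPoints.subring A G) A]
    (h : ∀ Q : Ideal A, Q.IsPrime → Q.comap (algebraMap (FixedPoints.subring A G) A) = P → Q.inertia G = ⊥) :
    ∃ b : FixedPoints.subring A G, b ∉ P ∧ ∃ (s : Finset A) (x : A → A),
      ∀ t : G, ∑ y ∈ s, x y * (t • y) = if t = 1 then (b : A) else 0 := by
  classical
  let S : Subalgebra A (G → A) := Algebra.adjoin A (Set.range (orbitFun (A := A) G))
  let δ : A → (G → A) := fun s g => if g = 1 then s else 0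
  have hδ : ∀ f ∈ S, (∀ g, g ≠ 1 → f g = 0) → δ (f 1) ∈ S := fun f hf h0 => by
    have : δ (f 1) = f := funext fun g => by
      by_cases hg : g = 1
      · simp [δ, hg]
      · simp [δ, hg, h0 g hg]
    rwa [this]
  let J : Ideal A :=
    { carrier := {s | δ s ∈ S}
      add_mem' := fun {a b} ha hb => by
        have : δ (a + b) = δ a + δ b := funext fun g => by by_cases hg : g = 1 <;> simp [δ, hg]
        show δ (a + b) ∈ S
        rw [this]; exact add_mem ha hb
      zero_mem' := by
        have : δ (0 : A) = 0 := funext fun g => by simp [δ]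
        show δ (0 : A) ∈ S
        rw [this]; exact zero_mem S
      smul_mem' := fun c a ha => by
        have : δ (c • a) = c • δ a := funext fun g => by by_cases hg : g = 1 <;> simp [δ, hg]
        show δ (c • a) ∈ S
        rw [this]; exact S.smul_mem ha c }
  have hJ : ∀ Q : Ideal A, Q.IsPrime → Q.comap (algebraMap (FixedPoints.subring A G) A) = P → ¬ J ≤ Q := by
    intro Q hQ hQP hle
    have hI := h Q hQ hQP
    have hex : ∀ g : G, ∃ a : A, g ≠ 1 → a - g • a ∉ Q := fun g => by
      by_cases hg : g = 1
      · exact ⟨0, fun h => absurd hg h⟩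
      · by_contra hc
        push Not at hc
        have : g ∈ Q.inertia G := fun a => by
          have := neg_mem (hc a).2
          rwa [neg_sub] at this
        rw [hI, Subgroup.mem_bot] at this
        exact hg this
    choose a ha using hex
    let f : G → A := ∏ g ∈ Finset.univ.erase (1 : G), (orbitFun (A := A) G (a g) - (g • a g) • (1 : G → A))
    have hfS : f ∈ S := Subalgebra.prod_mem _ fun g _ =>
      sub_mem (Algebra.subset_adjoin ⟨a g, rfl⟩) (S.smul_mem (one_mem S) _)
    have hfv : ∀ t : G, f t = ∏ g ∈ Finset.univ.erase (1 : G), (t • a g - g • a g) := fun t => by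
      show (∏ g ∈ Finset.univ.erase (1 : G), (orbitFun (A := A) G (a g) - (g • a g) • (1 : G → A))) t = _
      rw [Finset.prod_apply]
      refine Finset.prod_congr rfl fun g _ => ?_
      simp [orbitFun]
    have hf0 : ∀ t, t ≠ 1 → f t = 0 := fun t ht => by
      rw [hfv]
      exact Finset.prod_eq_zero (Finset.mem_erase.mpr ⟨ht, Finset.mem_univ t⟩) (sub_self _)
    have h1 : f 1 ∈ Q := hle (hδ f hfS hf0)
    rw [hfv, hQ.prod_mem_iff] at h1
    obtain ⟨g, hg, hgQ⟩ := h1
    rw [one_smul] at hgQ
    exact ha g (Finset.ne_of_mem_erase hg) hgQ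
  have hnle : ¬ J.comap (algebraMap (FixedPoints.subring A G) A) ≤ P := fun hle => by
    obtain ⟨Q, hQJ, hQ, hQP⟩ := Ideal.exists_ideal_over_prime_of_isIntegral P J hle
    exact hJ Q hQ hQP hQJ
  obtain ⟨b, hb, hbP⟩ := SetLike.not_le_iff_exists.mp hnle
  have hb' : δ (b : A) ∈ S := hb
  have hspan : δ (b : A) ∈ Submodule.span A (Set.range (orbitFun (A := A) G)) := by
    have : δ (b : A) ∈ Subalgebra.toSubmodule S := hb'
    rw [Algebra.adjoin_eq_span, ← MonoidHom.coe_mrange, Submonoid.closure_eq] at this
    exact this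
  obtain ⟨c, hc⟩ := Finsupp.mem_span_range_iff_exists_finsupp.mp hspan
  refine ⟨b, hbP, c.support, c, fun t => ?_⟩
  show _ = δ (b : A) t
  rw [← hc, Finsupp.sum, Finset.sum_apply]
  rfl

theorem exists_trace_frame (P : Ideal (FixedPoints.subring A G)) [P.IsPrime]
    [Algebra.IsIntegral (FixedPoints.subring A G) A]
    (h : ∀ Q : Ideal A, Q.IsPrime → Q.comap (algebraMap (FixedPoints.subring A G) A) = P → Q.inertia G = ⊥) :
    ∃ b : FixedPoints.subring A G, b ∉ P ∧ ∃ (s : Finset A) (x : A → A),
      ∀ a : A, (b : A) * a = ∑ y ∈ s, x y * (tr G (y * a) : A) := by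
  classical
  obtain ⟨b, hbP, s, x, hsum⟩ := exists_coeff_frame G P h
  refine ⟨b, hbP, s, x, fun a => ?_⟩
  have key : ∑ t : G, (if t = 1 then (b : A) else 0) * (t • a) = (b : A) * a := by
    simp
  rw [← key]
  show _ = ∑ y ∈ s, x y * ∑ g : G, g • (y * a)
  simp only [← hsum, Finset.sum_mul, Finset.mul_sum]
  rw [Finset.sum_comm]
  exact Finset.sum_congr rfl fun y _ => Finset.sum_congr rfl fun g _ => by rw [smul_mul', mul_assoc]

theorem regular_invariants [IsNoetherianRing (FixedPoints.subring A G)] [Algebra.IsIntegral (FixedPoints.subring A G) A]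
    (P : Ideal (FixedPoints.subring A G)) [P.IsPrime]
    (hreg : ∀ (Q : Ideal A) [Q.IsPrime], IsRegularLocalRing (Localization.AtPrime Q))
    (h : ∀ Q : Ideal A, Q.IsPrime → Q.comap (algebraMap (FixedPoints.subring A G) A) = P → Q.inertia G = ⊥) :
    IsRegularLocalRing (Localization.AtPrime P) := by
  classical
  obtain ⟨b, hbP, s, x, hx⟩ := exists_trace_frame G P h
  let B := FixedPoints.subring A G
  haveI : FaithfulSMul B A := (faithfulSMul_iff_algebraMap_injective B A).mpr Subtype.val_injective
  let M : Submonoid A := Algebra.algebraMapSubmonoid A P.primeCompl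
  let B' := Localization.AtPrime P
  let A' := Localization M
  let j : A →ₗ[B] A' := (IsScalarTower.toAlgHom B A A').toLinearMap
  haveI : IsLocalizedModule P.primeCompl j :=
    (isLocalizedModule_iff_isLocalization (S := P.primeCompl) (A := A) (Aₛ := A')).mpr inferInstance
  obtain ⟨u, hu⟩ := IsLocalization.map_units B' (⟨b, hbP⟩ : P.primeCompl)
  let ψ : A → (A' →ₗ[B'] B') := fun y =>
    (IsLocalizedModule.map P.primeCompl j (Algebra.linearMap B B') ((tr G).comp (LinearMap.mulLeft B y))).extendScalarsOfIsLocalization P.primeCompl B'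
  have hψ : ∀ y a, ψ y (j a) = algebraMap B B' (tr G (y * a)) := fun y a => by
    show IsLocalizedModule.map P.primeCompl j (Algebra.linearMap B B') ((tr G).comp (LinearMap.mulLeft B y)) (j a) = _
    rw [IsLocalizedModule.map_apply]
    rfl
  let inj : A' →ₗ[B'] (s → B') := LinearMap.pi fun y => ψ y.1
  let proj : (s → B') →ₗ[B'] A' := Fintype.linearCombination B' fun y : s => (↑u⁻¹ : B') • j (x y.1)
  have hretr : proj.comp inj = LinearMap.id := by
    refine LinearMap.restrictScalars_injective B ?_
    refine IsLocalizedModule.linearMap_ext P.primeCompl j j (LinearMap.ext fun a => ?_)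
    show proj (inj (j a)) = j a
    simp only [proj, Fintype.linearCombination_apply]
    have h1 : ∀ y : s, inj (j a) y • ((↑u⁻¹ : B') • j (x y.1)) = (↑u⁻¹ : B') • j (x y.1 * (tr G (y.1 * a) : A)) := fun y => by
      rw [show inj (j a) y = algebraMap B B' (tr G (y.1 * a)) from hψ y.1 a, smul_comm, algebraMap_smul, ← map_smul]
      refine congrArg (fun z => (↑u⁻¹ : B') • j z) ?_
      exact mul_comm _ _
    rw [Finset.sum_congr rfl fun y _ => h1 y, ← Finset.smul_sum, ← map_sum,
      Finset.sum_coe_sort s (fun y => x y * (tr G (y * a) : A)), ← hx a,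
      show (b : A) * a = b • a from rfl, map_smul, ← algebraMap_smul B' b (j a), smul_smul, ← hu, Units.inv_mul,
      one_smul]
  haveI : Module.Projective B' A' := Module.Projective.of_split inj proj hretr
  haveI : Module.Flat B' A' := inferInstance
  haveI : IsNoetherianRing B' := IsLocalization.isNoetherianRing P.primeCompl B' inferInstance
  obtain ⟨Q, -, hQ, hQP⟩ := Ideal.exists_ideal_over_prime_of_isIntegral P (⊥ : Ideal A)
    (by rw [← RingHom.ker_eq_comap_bot, (RingHom.injective_iff_ker_eq_bot _).mp Subtype.val_injective]; exact bot_le)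
  have hdisj : Disjoint (M : Set A) (Q : Set A) := Set.disjoint_left.mpr fun z hz hzQ => by
    obtain ⟨r, hr, rfl⟩ := hz
    exact hr (hQP ▸ hzQ)
  let Q' := Q.map (algebraMap A A')
  haveI hQ' : Q'.IsPrime := IsLocalization.isPrime_of_isPrime_disjoint M A' Q hQ hdisj
  have hc : Q'.comap (algebraMap A A') = Q := IsLocalization.under_map_of_isPrime_disjoint M A' hQ hdisj
  haveI : IsRegularLocalRing (Localization.AtPrime Q') :=
    (H05EGA4.isRegularLocalRing_localization_iff M A' Q').mpr
      ((H05EGA4.isRegularLocalRing_localization_congr hc).mpr (hreg Q))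
  let p' := Q'.comap (algebraMap B' A')
  haveI : Q'.LiesOver p' := ⟨rfl⟩
  have hp' := H05EGA4.isRegularLocalRing_comap_of_flat (A := B') (B := A') p' Q'
  have hc' : p'.comap (algebraMap B B') = P := by
    rw [Ideal.comap_comap, ← IsScalarTower.algebraMap_eq B B' A', IsScalarTower.algebraMap_eq B A A', ← Ideal.comap_comap,
      hc, hQP]
  exact (H05EGA4.isRegularLocalRing_localization_congr hc').mp
    ((H05EGA4.isRegularLocalRing_localization_iff P.primeCompl B' p').mp hp')

end Groth.Agent.H23Wild.Invariants
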