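import Groth.Agent.H23Wild.ASRoot
import Groth.Agent.H28Alg.RegularUFD
import Groth.Agent.H05EGA4.CompleteNormalization

/-! # Extending automorphisms of the invariant ring -/

set_option autoImplicit false

universe u v w

open IsLocalRing Polynomial

namespace Groth.Agent.H23Wild.Extend

variable {A : Type u} [CommRing A] [IsDomain A] {G : Type w} [Group G] [Fintype G] [MulSemiringAction G A]

theorem eq_pow_of_prime_card (p : ℕ) [Fact p.Prime] (hcard : Fintype.card G = p) {σ : G} (hσ : σ ≠ 1) (g : G) :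
    ∃ m : ℕ, σ ^ m = g :=
  (mem_powers_iff_mem_zpowers.mpr (mem_zpowers_of_prime_card (p := p) (g' := g) (by rw [Nat.card_eq_fintype_card, hcard]) hσ))

theorem mem_fixed_of_smul_eq (p : ℕ) [Fact p.Prime] (hcard : Fintype.card G = p) {σ : G} (hσ : σ ≠ 1) {x : A}
    (hx : σ • x = x) (g : G) : g • x = x := by
  obtain ⟨m, rfl⟩ := eq_pow_of_prime_card p hcard hσ g
  induction m with
  | zero => rw [pow_zero, one_smul]
  | succ m ih => rw [pow_succ, mul_smul, hx, ih]

theorem pow_translate (σ : G) {a D : A} (hD : σ • D = D) (ha : σ • a = a + D) (m : ℕ) :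
    σ ^ m • a = a + m * D := by
  induction m with
  | zero => simp
  | succ m ih =>
    rw [pow_succ', mul_smul, ih, smul_add, smul_mul', hD, ha,
      show σ • (m : A) = (m : A) from map_natCast (MulSemiringAction.toRingHom G A σ) m, Nat.cast_succ]
    ring

theorem coords (p : ℕ) [Fact p.Prime] (hcard : Fintype.card G = p) {σ : G} (hσ : σ ≠ 1) {a D : A}
    (hD : σ • D = D) (hD0 : D ≠ 0) (ha : σ • a = a + D) :
    (∀ P : Polynomial (FixedPoints.subring A G), P.natDegree < p →
      eval₂ (FixedPoints.subring A G).subtype a P = 0 → P = 0) ∧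
      ∀ t : A, ∃ (δ : A) (P : Polynomial (FixedPoints.subring A G)), δ ≠ 0 ∧
        eval₂ (FixedPoints.subring A G).subtype a P = δ * t ∧ (∀ g : G, g • δ = δ) := by
  classical
  have hinj : Function.Injective fun g : G => g • a := by
    intro g h hgh
    by_contra hne
    have h1 : (h⁻¹ * g) • a = a := by
      rw [mul_smul, show g • a = h • a from hgh, inv_smul_smul]
    have h2 : σ • a = a := mem_fixed_of_smul_eq p hcard (σ := h⁻¹ * g)
      (fun h' => hne (inv_mul_eq_one.mp h').symm) h1 σ
    rw [ha, add_eq_left] at h2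
    exact hD0 h2
  constructor
  · intro P hP h
    have hP' : (P.map (FixedPoints.subring A G).subtype) = 0 := by
      refine eq_zero_of_natDegree_lt_card_of_eval_eq_zero _ hinj (fun g => ?_)
        (natDegree_map_le.trans_lt (hcard.symm ▸ hP))
      rw [eval_map]
      have := congrArg (MulSemiringAction.toRingHom G A g) h
      rw [hom_eval₂, map_zero] at this
      rwa [show (MulSemiringAction.toRingHom G A g).comp (FixedPoints.subring A G).subtype =
        (FixedPoints.subring A G).subtype from RingHom.ext fun b => b.2 g] at this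
    exact map_injective _ Subtype.val_injective (hP'.trans (Polynomial.map_zero _).symm)
  · intro t
    let Q : A[X] := ∑ g : G, C (g • t) * ∏ h ∈ Finset.univ.erase g, (X - C (h • a))
    let δ : A := ∏ h ∈ Finset.univ.erase (1 : G), (a - h • a)
    have hfix : ∀ g : G, g • δ = δ := by
      intro g
      obtain ⟨m, rfl⟩ := eq_pow_of_prime_card p hcard hσ g
      show σ ^ m • ∏ h ∈ Finset.univ.erase (1 : G), (a - h • a) = _
      rw [Finset.smul_prod']
      refine Finset.prod_congr rfl fun h _ => ?_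
      have hc : σ ^ m * h = h * σ ^ m := by
        obtain ⟨j, rfl⟩ := eq_pow_of_prime_card p hcard hσ h
        rw [← pow_add, add_comm, pow_add]
      rw [smul_sub, ← mul_smul, hc, mul_smul, pow_translate σ hD ha, smul_add, smul_mul',
        show h • (m : A) = (m : A) from map_natCast (MulSemiringAction.toRingHom G A h) m,
        mem_fixed_of_smul_eq p hcard hσ hD h]
      ring
    have hQfix : ∀ (g : G) (i : ℕ), g • Q.coeff i = Q.coeff i := by
      intro g i
      have hmap : Q.map (MulSemiringAction.toRingHom G A g) = Q := by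
        simp only [Q, Polynomial.map_sum, Polynomial.map_mul, Polynomial.map_prod, Polynomial.map_sub, map_C, map_X,
          MulSemiringAction.toRingHom_apply, ← mul_smul]
        refine Fintype.sum_equiv (Equiv.mulLeft g) _ _ fun s => ?_
        show C ((g * s) • t) * _ = C ((g * s) • t) * _
        congr 1
        refine Finset.prod_equiv (Equiv.mulLeft g) (fun h => ?_) (fun h _ => rfl)
        simp
      have := congrArg (fun P => coeff P i) hmap
      rwa [coeff_map] at this
    have hlift : Q ∈ lifts (FixedPoints.subring A G).subtype :=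
      (lifts_iff_coeff_lifts Q).mpr fun i => ⟨⟨Q.coeff i, fun g => hQfix g i⟩, rfl⟩
    obtain ⟨P, hP⟩ := hlift
    refine ⟨δ, P, Finset.prod_ne_zero_iff.mpr fun h hh => sub_ne_zero.mpr fun h1 =>
      Finset.ne_of_mem_erase hh (hinj (show h • a = (1 : G) • a by rw [one_smul, ← h1])), ?_, hfix⟩
    rw [← eval_map, show P.map (FixedPoints.subring A G).subtype = Q from hP]
    simp only [Q, eval_finsetSum, eval_mul, eval_C, eval_prod, eval_sub, eval_X]
    rw [Finset.sum_eq_single (1 : G)]
    · rw [one_smul, mul_comm]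
    · intro g _ hg
      rw [Finset.prod_eq_zero (Finset.mem_erase.mpr ⟨Ne.symm hg, Finset.mem_univ 1⟩) (by rw [one_smul, sub_self]),
        mul_zero]
    · exact fun h => absurd (Finset.mem_univ _) h

theorem mem_range_of_extends [IsIntegrallyClosed A] {L : Type u} [Field L] [Algebra A L] [IsFractionRing A L]
    (ψ : FixedPoints.subring A G →+* FixedPoints.subring A G) (Φ : L →+* L)
    (hΦ : ∀ b : FixedPoints.subring A G, Φ (algebraMap A L b) = algebraMap A L (ψ b)) (t : A) :
    ∃ s : A, algebraMap A L s = Φ (algebraMap A L t) := by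
  classical
  have hlift : MulSemiringAction.charpoly G t ∈ lifts (FixedPoints.subring A G).subtype :=
    (lifts_iff_coeff_lifts _).mpr fun i => ⟨⟨_, fun g => MulSemiringAction.smul_coeff_charpoly t i g⟩, rfl⟩
  obtain ⟨P, hP, -, hPm⟩ := lifts_and_degree_eq_and_monic hlift (MulSemiringAction.monic_charpoly G t)
  refine IsIntegrallyClosed.isIntegral_iff.mp ⟨(P.map ψ).map (FixedPoints.subring A G).subtype, (hPm.map _).map _, ?_⟩
  rw [eval₂_map, eval₂_map, show ((algebraMap A L).comp (FixedPoints.subring A G).subtype).comp ψ =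
    (Φ.comp (algebraMap A L)).comp (FixedPoints.subring A G).subtype from RingHom.ext fun b => (hΦ b).symm,
    ← eval₂_map, hP, ← hom_eval₂]
  rw [show eval₂ (algebraMap A L) (algebraMap A L t) (MulSemiringAction.charpoly G t) =
    algebraMap A L ((MulSemiringAction.charpoly G t).eval t) from (eval₂_at_apply _ t)]
  rw [MulSemiringAction.eval_charpoly, map_zero, map_zero]

theorem exists_field_auto {S L : Type*} [CommRing S] [IsDomain S] [Field L] (f f' : S →+* L)
    (hf : Function.Injective f) (hf' : Function.Injective f') (h : ∀ z : L, ∃ x y, z = f x / f y)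
    (h' : ∀ z : L, ∃ x y, z = f' x / f' y) : ∃ Φ : L ≃+* L, ∀ x, Φ (f x) = f' x := by
  letI : Algebra S L := f.toAlgebra
  haveI : FaithfulSMul S L := (faithfulSMul_iff_algebraMap_injective _ _).mpr hf
  haveI : IsFractionRing S L := IsFractionRing.of_field _ _ fun z => by
    obtain ⟨x, y, hxy⟩ := h z; exact ⟨x, y, hxy⟩
  let Φ : L →+* L := IsFractionRing.lift (A := S) (g := f') hf'
  have hΦ : ∀ x, Φ (f x) = f' x := fun x => IsFractionRing.lift_algebraMap hf' x
  have hs : Function.Surjective Φ := fun z => by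
    obtain ⟨x, y, hxy⟩ := h' z
    exact ⟨f x / f y, by rw [map_div₀, hΦ, hΦ, ← hxy]⟩
  exact ⟨RingEquiv.ofBijective Φ ⟨Φ.injective, hs⟩, hΦ⟩

theorem exists_div {S A' : Type*} [CommRing S] [CommRing A'] [IsDomain A'] (f : S →+* A') {Gr : Type*}
    [Group Gr] [MulSemiringAction Gr A'] (L : Type*) [Field L] [Algebra A' L] [IsFractionRing A' L]
    (hf : ∀ t : A', ∃ δ x, δ ≠ 0 ∧ f x = δ * t ∧ ∀ g : Gr, g • δ = δ)
    (hfB : ∀ δ : A', (∀ g : Gr, g • δ = δ) → ∃ x, f x = δ) (z : L) :
    ∃ x y, z = (algebraMap A' L).comp f x / (algebraMap A' L).comp f y := by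
  obtain ⟨t, s, hs, rfl⟩ := IsFractionRing.div_surjective A' z
  obtain ⟨δ, x, hδ, hx, hδf⟩ := hf t
  obtain ⟨δ', y, hδ', hy, hδf'⟩ := hf s
  obtain ⟨d, hd⟩ := hfB δ hδf
  obtain ⟨d', hd'⟩ := hfB δ' hδf'
  have h1 : algebraMap A' L δ ≠ 0 := fun h => hδ (IsFractionRing.injective A' L (h.trans (map_zero _).symm))
  have h2 : algebraMap A' L δ' ≠ 0 := fun h => hδ' (IsFractionRing.injective A' L (h.trans (map_zero _).symm))
  have hs0 : algebraMap A' L s ≠ 0 := IsFractionRing.to_map_ne_zero_of_mem_nonZeroDivisors hs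
  refine ⟨x * d', y * d, ?_⟩
  rw [RingHom.comp_apply, RingHom.comp_apply, map_mul f, map_mul f, hx, hy, hd, hd', map_mul, map_mul, map_mul,
    map_mul, div_eq_div_iff hs0 (mul_ne_zero (mul_ne_zero h2 hs0) h1)]
  ring

theorem exists_extension [IsIntegrallyClosed A] (p : ℕ) [Fact p.Prime] [CharP A p] (hcard : Fintype.card G = p)
    {σ : G} (hσ : σ ≠ 1) {a₀ X₀ a' : A} (hX : σ • X₀ = X₀) (hX0 : X₀ ≠ 0) (ha₀ : σ • a₀ = a₀ + X₀)
    (φ : FixedPoints.subring A G ≃+* FixedPoints.subring A G) (z X₀B : FixedPoints.subring A G)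
    (hXB : (X₀B : A) = X₀) (hz : (z : A) = a₀ ^ p - X₀ ^ (p - 1) * a₀)
    (ha' : a' ^ p - (φ X₀B : A) ^ (p - 1) * a' = (φ z : A)) :
    ∃ Ψ : A ≃+* A, ∀ b : FixedPoints.subring A G, Ψ b = (φ b : A) := by
  classical
  have hp := (Fact.out : p.Prime)
  set Y : A := (φ X₀B : A) with hY
  have hY0 : Y ≠ 0 := fun h => hX0 (by
    have : φ X₀B = 0 := Subtype.ext h
    rw [← hXB, φ.map_eq_zero_iff.mp this]; rfl)
  obtain ⟨j, hj⟩ := exists_cast_of_root p hY0 (v := σ • a' - a') (by
    have h := congrArg (σ • ·) ha'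
    simp only [smul_sub, smul_pow', smul_mul', (φ z).2 σ, show σ • Y = Y from (φ X₀B).2 σ] at h
    rw [sub_pow_char]
    linear_combination h - ha')
  let D : A := ZMod.castHom (dvd_refl p) A j * Y
  have hD : σ • D = D := by
    show σ • (ZMod.castHom (dvd_refl p) A j * Y) = _
    rw [smul_mul', show σ • Y = Y from (φ X₀B).2 σ]
    congr 1
    exact RingHom.congr_fun (Subsingleton.elim ((MulSemiringAction.toRingHom G A σ).comp (ZMod.castHom (dvd_refl p) A)) _) j
  have ha'σ : σ • a' = a' + D := sub_eq_iff_eq_add'.mp hj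
  have hD0 : D ≠ 0 := by
    intro h
    rw [h, add_zero] at ha'σ
    let a'B : FixedPoints.subring A G := ⟨a', mem_fixed_of_smul_eq p hcard hσ ha'σ⟩
    have hb : a'B ^ p - φ X₀B ^ (p - 1) * a'B = φ z := Subtype.ext ha'
    have hb' := congrArg φ.symm hb
    rw [map_sub, map_mul, map_pow, map_pow, φ.symm_apply_apply, φ.symm_apply_apply] at hb'
    have hb2 : (φ.symm a'B : A) ^ p - X₀ ^ (p - 1) * (φ.symm a'B : A) = (z : A) := by
      rw [← hXB]; exact congrArg Subtype.val hb'
    obtain ⟨i, hi⟩ := exists_cast_of_root p hX0 (v := a₀ - (φ.symm a'B : A)) (by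
      rw [sub_pow_char]; linear_combination -hb2 - hz)
    have : σ • (a₀ - (φ.symm a'B : A)) = a₀ - (φ.symm a'B : A) := by
      rw [hi, smul_mul', hX]
      congr 1
      exact RingHom.congr_fun (Subsingleton.elim ((MulSemiringAction.toRingHom G A σ).comp (ZMod.castHom (dvd_refl p) A)) _) i
    rw [smul_sub, ha₀, (φ.symm a'B).2 σ] at this
    exact hX0 (by linear_combination this)
  obtain ⟨hsmall, hco⟩ := coords p hcard hσ hX hX0 ha₀
  obtain ⟨hsmall', hco'⟩ := coords p hcard hσ hD hD0 ha'σ
  let B := FixedPoints.subring A G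
  let g : B[X] := X ^ p - (C (X₀B ^ (p - 1)) * X + C z)
  have hdeg : (C (X₀B ^ (p - 1)) * X + C z).degree < (p : WithBot ℕ) :=
    degree_linear_le.trans_lt (by exact_mod_cast hp.one_lt)
  have hg : g.Monic := monic_X_pow_sub hdeg
  have hgd : g.natDegree = p := by
    rw [natDegree_eq_of_degree_eq_some]
    rw [degree_sub_eq_left_of_degree_lt (by rwa [degree_X_pow]), degree_X_pow]
  have h0 : eval₂ B.subtype a₀ g = 0 := by
    simp only [g, eval₂_sub, eval₂_add, eval₂_mul, eval₂_pow, eval₂_X, eval₂_C, map_pow, Subring.subtype_apply, hXB, hz]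
    ring
  have h0' : eval₂ (B.subtype.comp φ.toRingHom) a' g = 0 := by
    simp only [g, eval₂_sub, eval₂_add, eval₂_mul, eval₂_pow, eval₂_X, eval₂_C, map_pow, RingHom.comp_apply]
    show a' ^ p - (Y ^ (p - 1) * a' + (φ z : A)) = 0
    linear_combination ha'
  let e : AdjoinRoot g →+* A := AdjoinRoot.lift B.subtype a₀ h0
  let e' : AdjoinRoot g →+* A := AdjoinRoot.lift (B.subtype.comp φ.toRingHom) a' h0'
  have hnd : ∀ Q : B[X], (Q %ₘ g).natDegree < p := fun Q =>
    (natDegree_modByMonic_lt Q hg fun h => by rw [h, natDegree_one] at hgd; exact hp.ne_zero hgd.symm).trans_eq hgd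
  have hmod : ∀ Q : B[X], AdjoinRoot.mk g Q = AdjoinRoot.mk g (Q %ₘ g) := fun Q =>
    AdjoinRoot.mk_eq_mk.mpr ⟨Q /ₘ g, by linear_combination (-1 : B[X]) * modByMonic_add_div Q g⟩
  have he : Function.Injective e := by
    refine (injective_iff_map_eq_zero e).mpr fun x hx => ?_
    obtain ⟨Q, rfl⟩ := AdjoinRoot.mk_surjective x
    rw [hmod] at hx ⊢
    rw [hsmall _ (hnd Q) (by rwa [AdjoinRoot.lift_mk] at hx), map_zero]
  have he' : Function.Injective e' := by
    refine (injective_iff_map_eq_zero e').mpr fun x hx => ?_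
    obtain ⟨Q, rfl⟩ := AdjoinRoot.mk_surjective x
    rw [hmod] at hx ⊢
    rw [AdjoinRoot.lift_mk, ← eval₂_map] at hx
    rw [map_injective φ.toRingHom φ.injective ((hsmall' _ (natDegree_map_le.trans_lt (hnd Q)) hx).trans
      (Polynomial.map_zero _).symm), map_zero]
  haveI : IsDomain (AdjoinRoot g) := he.isDomain e
  let L := FractionRing A
  let i := algebraMap A L
  have hiinj : Function.Injective i := IsFractionRing.injective A L
  have hdiv1 : ∀ z : L, ∃ x y, z = i.comp e x / i.comp e y := exists_div e L (Gr := G)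
    (fun t => by
      obtain ⟨δ, P, hδ, hP, hf⟩ := hco t
      exact ⟨δ, AdjoinRoot.mk g P, hδ, (AdjoinRoot.lift_mk h0 P).trans hP, hf⟩)
    (fun δ hδ => ⟨AdjoinRoot.of g ⟨δ, hδ⟩, AdjoinRoot.lift_of h0⟩)
  have hdiv2 : ∀ z : L, ∃ x y, z = i.comp e' x / i.comp e' y := exists_div e' L (Gr := G)
    (fun t => by
      obtain ⟨δ, P, hδ, hP, hf⟩ := hco' t
      refine ⟨δ, AdjoinRoot.mk g (P.map φ.symm.toRingHom), hδ, ?_, hf⟩
      rw [AdjoinRoot.lift_mk, eval₂_map, RingHom.comp_assoc,
        show φ.toRingHom.comp φ.symm.toRingHom = RingHom.id _ from RingHom.ext φ.apply_symm_apply, RingHom.comp_id]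
      exact hP)
    (fun δ hδ => ⟨AdjoinRoot.of g (φ.symm ⟨δ, hδ⟩), (AdjoinRoot.lift_of h0').trans (by simp [B])⟩)
  obtain ⟨Φe, hΦe⟩ := exists_field_auto (i.comp e) (i.comp e') (hiinj.comp he) (hiinj.comp he') hdiv1 hdiv2
  have hΦB : ∀ b : B, Φe.toRingHom (i b) = i (φ b : A) := fun b => by
    have h1 := hΦe (AdjoinRoot.of g b)
    simp only [e, e', RingHom.comp_apply, AdjoinRoot.lift_of] at h1
    exact h1
  have hΦsymm : ∀ b : B, Φe.symm.toRingHom (i b) = i (φ.symm b : A) := fun b => by
    show Φe.symm (i b) = _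
    rw [RingEquiv.symm_apply_eq]
    refine Eq.trans ?_ (hΦB _).symm
    rw [φ.apply_symm_apply]
  choose F hF using mem_range_of_extends φ.toRingHom Φe.toRingHom hΦB
  choose F' hF' using mem_range_of_extends φ.symm.toRingHom Φe.symm.toRingHom hΦsymm
  let Ψ : A ≃+* A :=
    { toFun := F
      invFun := F'
      left_inv := fun t => hiinj (by
        show i (F' (F t)) = i t
        rw [hF', hF]
        exact Φe.symm_apply_apply _)
      right_inv := fun t => hiinj (by
        show i (F (F' t)) = i t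
        rw [hF, hF']
        exact Φe.apply_symm_apply _)
      map_mul' := fun s t => hiinj (by rw [hF, map_mul, map_mul, map_mul, hF, hF])
      map_add' := fun s t => hiinj (by rw [hF, map_add, map_add, map_add, hF, hF]) }
  exact ⟨Ψ, fun b => hiinj ((hF b).trans (hΦB b))⟩

end Groth.Agent.H23Wild.Extend
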