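import Groth.Agent.H23Wild.Extend

/-! # Automorphisms of the invariant ring extend -/

set_option autoImplicit false

universe u v w

open IsLocalRing

namespace Groth.Agent.H23Wild.Extend

variable {A : Type u} [CommRing A] [IsRegularLocalRing A] {G : Type w} [Group G] [Fintype G] [MulSemiringAction G A]

theorem height_le_one_of_minimal (x : A) {Q : Ideal A} (hQ : Q ∈ (Ideal.span {x}).minimalPrimes) : Q.height ≤ 1 :=
  haveI := hQ.1.1
  Ideal.height_le_one_of_isPrincipal_of_mem_minimalPrimes _ _ hQ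

theorem exists_coprime [Algebra.IsIntegral (FixedPoints.subring A G) A] [IsLocalRing (FixedPoints.subring A G)]
    [IsDomain A] [UniqueFactorizationMonoid A] (hdim : 2 ≤ ringKrullDim A)
    (φ : FixedPoints.subring A G ≃+* FixedPoints.subring A G) (X₀ : FixedPoints.subring A G) :
    ∃ X₁ : FixedPoints.subring A G, (X₁ : A) ∈ maximalIdeal A ∧
      (∀ Q ∈ (Ideal.span {(X₀ : A)}).minimalPrimes, (X₁ : A) ∉ Q) ∧
      ∀ Q ∈ (Ideal.span {(φ X₀ : A)}).minimalPrimes, (φ X₁ : A) ∉ Q := by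
  classical
  let B := FixedPoints.subring A G
  let S1 : Set (Ideal B) := (fun Q => Q.comap B.subtype) '' (Ideal.span {(X₀ : A)}).minimalPrimes
  let S2 : Set (Ideal B) :=
    (fun Q => (Q.comap B.subtype).comap φ.toRingHom) '' (Ideal.span {(φ X₀ : A)}).minimalPrimes
  have hfin : (S1 ∪ S2).Finite :=
    ((Ideal.finite_minimalPrimes_of_isNoetherianRing A _).image _).union
      ((Ideal.finite_minimalPrimes_of_isNoetherianRing A _).image _)
  have hnot : ∀ (x : A) (Q : Ideal A), Q ∈ (Ideal.span {x}).minimalPrimes → ∀ (ψ : B ≃+* B),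
      ¬ maximalIdeal B ≤ (Q.comap B.subtype).comap ψ.toRingHom := by
    intro x Q hQ ψ hle
    haveI := hQ.1.1
    have hmax : (Q.comap B.subtype).IsMaximal := by
      haveI := Ideal.comap_isPrime B.subtype Q
      have heq : maximalIdeal B ≤ Q.comap B.subtype := fun b hb => by
        have h1 : ψ.symm b ∈ maximalIdeal B := fun hu => hb (by simpa using hu.map ψ.toRingHom)
        have := hle h1
        rw [Ideal.mem_comap, show ψ.toRingHom (ψ.symm b) = b from ψ.apply_symm_apply b] at this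
        exact this
      rw [← (maximalIdeal.isMaximal B).eq_of_le (Ideal.comap_isPrime B.subtype Q).ne_top heq]
      exact maximalIdeal.isMaximal B
    have hQm : Q = maximalIdeal A := IsLocalRing.eq_maximalIdeal (Ideal.isMaximal_of_isIntegral_of_isMaximal_comap Q hmax)
    have h3 := IsLocalRing.maximalIdeal_height_eq_ringKrullDim (R := A)
    rw [← hQm] at h3
    rw [← h3] at hdim
    exact absurd (hdim.trans (WithBot.coe_le_coe.mpr (height_le_one_of_minimal x hQ))) (by decide)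
  have hprime : ∀ i ∈ hfin.toFinset, i ≠ ⊥ → i ≠ ⊥ → i.IsPrime := fun i hi _ _ => by
    rw [Set.Finite.mem_toFinset] at hi
    rcases hi with ⟨Q, hQ, rfl⟩ | ⟨Q, hQ, rfl⟩
    · haveI := hQ.1.1; exact Ideal.comap_isPrime _ Q
    · haveI := hQ.1.1; exact Ideal.comap_isPrime _ _
  obtain ⟨X₁, hX₁m, hX₁⟩ : ∃ X₁ ∈ maximalIdeal B, ∀ i ∈ hfin.toFinset, X₁ ∉ i := by
    by_contra hc
    push Not at hc
    obtain ⟨i, hi, hle⟩ := (Ideal.subset_union_prime (R := B) (f := id) (s := hfin.toFinset) ⊥ ⊥ hprime).mp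
      (fun b hb => by
        obtain ⟨i, hi, hbi⟩ := hc b hb
        exact Set.mem_biUnion hi hbi)
    rw [Set.Finite.mem_toFinset] at hi
    rcases hi with ⟨Q, hQ, rfl⟩ | ⟨Q, hQ, rfl⟩
    · exact hnot _ Q hQ (RingEquiv.refl _) hle
    · exact hnot _ Q hQ φ hle
  refine ⟨X₁, fun hu => ?_, fun Q hQ h => ?_, fun Q hQ h => ?_⟩
  · haveI := Invariants.isLocalHom_subtype (A := A) G
    exact hX₁m (IsLocalHom.map_nonunit (f := B.subtype) X₁ hu)
  · exact hX₁ _ (hfin.mem_toFinset.mpr (Or.inl ⟨Q, hQ, rfl⟩)) h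
  · exact hX₁ _ (hfin.mem_toFinset.mpr (Or.inr ⟨Q, hQ, rfl⟩)) h

theorem isRelPrime_of_minimal [IsDomain A] [UniqueFactorizationMonoid A] {x y : A} (hx : x ≠ 0)
    (h : ∀ Q ∈ (Ideal.span {x}).minimalPrimes, y ∉ Q) : IsRelPrime x y := by
  refine WfDvdMonoid.isRelPrime_of_no_irreducible_factors (fun h => hx h.1) fun π hπ hπx hπy => ?_
  have hπp : Prime π := UniqueFactorizationMonoid.irreducible_iff_prime.mp hπ
  haveI : (Ideal.span {π}).IsPrime := (Ideal.span_singleton_prime hπp.ne_zero).mpr hπp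
  obtain ⟨Q, hQ, hQle⟩ := Ideal.exists_minimalPrimes_le (I := Ideal.span {x}) (J := Ideal.span {π})
    (Ideal.span_singleton_le_span_singleton.mpr hπx)
  haveI := hQ.1.1
  have hQ0 : Q ≠ ⊥ := fun h0 => hx (by
    have := hQ.1.2 (Ideal.mem_span_singleton_self x)
    rwa [h0, Ideal.mem_bot] at this)
  obtain ⟨π', hπ', hπ'p⟩ := Ideal.IsPrime.exists_mem_prime_of_ne_bot hQ.1.1 hQ0
  have hass : Associated π π' := hπp.associated_of_dvd hπ'p (Ideal.mem_span_singleton.mp (hQle hπ'))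
  exact h Q hQ (Ideal.mem_of_dvd _ hπy (Ideal.mem_of_dvd _ hass.symm.dvd hπ'))

theorem exists_lift_auto [IsAdicComplete (maximalIdeal A) A] (p : ℕ) [Fact p.Prime] [CharP A p]
    (hdim : 2 ≤ ringKrullDim A) {k : Type v} [Field k] [Algebra k A]
    (hk : Function.Surjective (residue A ∘ algebraMap k A))
    (hkp : ∀ (L : Type v) [Field L] [Algebra k L], IsGalois k L → Module.finrank k L ≠ p)
    (hcard : Fintype.card G = p) (hGk : ∀ (σ : G) (c : k), σ • algebraMap k A c = algebraMap k A c)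
    (hram : ∀ P : Ideal A, P.IsPrime → P ≠ maximalIdeal A → P.inertia G = ⊥)
    (φ : FixedPoints.subring A G ≃+* FixedPoints.subring A G) :
    ∃ Ψ : A ≃+* A, ∀ b : FixedPoints.subring A G, Ψ b = (φ b : A) := by
  classical
  have hp := (Fact.out : p.Prime)
  haveI : IsDomain A := H4Depth.isDomain_of_isRegularLocalRing _
  haveI : UniqueFactorizationMonoid A := H28Alg.ufd_of_regular A
  haveI := H05EGA4.isIntegrallyClosed_of_isRegularLocalRing A
  obtain ⟨hN, hF, -⟩ := Invariants.finite_invariants G k hk hGk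
  haveI := Invariants.isLocalRing_subring (A := A) G
  obtain ⟨σ, hσ⟩ : ∃ σ : G, σ ≠ 1 := by
    haveI : Nontrivial G := Fintype.one_lt_card_iff_nontrivial.mp (hcard ▸ hp.one_lt)
    exact exists_ne 1
  -- a nonzero invariant in the maximal ideal
  obtain ⟨u, hum, hu0⟩ : ∃ u ∈ maximalIdeal A, u ≠ 0 := by
    by_contra h
    push Not at h
    have hbot : maximalIdeal A = ⊥ := (Submodule.eq_bot_iff _).mpr h
    have h3 := IsLocalRing.maximalIdeal_height_eq_ringKrullDim (R := A)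
    rw [hbot, Ideal.height_bot] at h3
    rw [← h3] at hdim
    exact absurd hdim (by decide)
  let X0 : FixedPoints.subring A G := ⟨∏ g : G, g • u, fun h => by
    rw [Finset.smul_prod']
    exact Fintype.prod_equiv (Equiv.mulLeft h) _ _ fun g => (mul_smul h g u).symm⟩
  have hX0 : (X0 : A) ≠ 0 := Finset.prod_ne_zero_iff.mpr fun g _ => by rwa [ne_eq, smul_eq_zero_iff_eq]
  have hX0m : (X0 : A) ∈ maximalIdeal A :=
    Ideal.prod_mem _ (Finset.mem_univ 1) (by rw [one_smul]; exact hum)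
  obtain ⟨X1, hX1m, hX1, hX1'⟩ := exists_coprime hdim φ X0
  have hφX0 : (φ X0 : A) ≠ 0 := fun h => hX0 (by
    rw [φ.map_eq_zero_iff.mp (Subtype.ext h : φ X0 = 0)]; rfl)
  have hcop := isRelPrime_of_minimal hX0 hX1
  have hcop' := isRelPrime_of_minimal hφX0 hX1'
  obtain ⟨N₀, b₀, hb₀⟩ := Insep.exists_trace_eq_pow hk hGk hram (fun g => X0.2 g) hX0m
  obtain ⟨N₁, b₁, hb₁⟩ := Insep.exists_trace_eq_pow hk hGk hram (fun g => X1.2 g) hX1m
  obtain ⟨α₀, hα₀⟩ := Insep.exists_translate_of_trace p hcard hσ b₀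
  obtain ⟨α₁, hα₁⟩ := Insep.exists_translate_of_trace p hcard hσ b₁
  rw [hb₀] at hα₀
  rw [hb₁] at hα₁
  obtain ⟨a₀, ha₀⟩ : ∃ a₀, σ • a₀ = a₀ + (X0 : A) ^ N₀ := ⟨α₀, by linear_combination hα₀⟩
  obtain ⟨a₁, ha₁⟩ : ∃ a₁, σ • a₁ = a₁ + (X1 : A) ^ N₁ := ⟨α₁, by linear_combination hα₁⟩
  let P0 : FixedPoints.subring A G := X0 ^ N₀
  let P1 : FixedPoints.subring A G := X1 ^ N₁
  have hP0 : (P0 : A) = (X0 : A) ^ N₀ := by simp [P0]
  have hP1 : (P1 : A) = (X1 : A) ^ N₁ := by simp [P1]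
  rw [← hP0] at ha₀
  rw [← hP1] at ha₁
  have hfix : ∀ {x : A}, σ • x = x → ∃ b : FixedPoints.subring A G, (b : A) = x := fun {x} hx =>
    ⟨⟨x, fun g => mem_fixed_of_smul_eq p hcard hσ hx g⟩, rfl⟩
  have hAS : ∀ {a : A} {c : FixedPoints.subring A G}, σ • a = a + c →
      σ • (a ^ p - (c : A) ^ (p - 1) * a) = a ^ p - (c : A) ^ (p - 1) * a := by
    intro a c ha
    rw [smul_sub, smul_pow', smul_mul', smul_pow', ha, c.2 σ, add_pow_char]
    have : (c : A) ^ p = (c : A) ^ (p - 1) * c := by rw [← pow_succ, Nat.sub_add_cancel hp.one_le]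
    linear_combination this
  obtain ⟨y, hy⟩ := hfix (x := a₀ * P1 - a₁ * P0) (by
    rw [smul_sub, smul_mul', smul_mul', ha₀, ha₁, P1.2 σ, P0.2 σ]; ring)
  obtain ⟨z₀, hz₀⟩ := hfix (hAS ha₀)
  obtain ⟨z₁, hz₁⟩ := hfix (hAS ha₁)
  have hrel : y ^ p - (P0 * P1) ^ (p - 1) * y = z₀ * P1 ^ p - z₁ * P0 ^ p := Subtype.ext (by
    push_cast
    rw [hy, hz₀, hz₁, sub_pow_char, mul_pow, mul_pow, mul_pow]
    have h0 : (P0 : A) ^ p = (P0 : A) ^ (p - 1) * P0 := by rw [← pow_succ, Nat.sub_add_cancel hp.one_le]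
    have h1 : (P1 : A) ^ p = (P1 : A) ^ (p - 1) * P1 := by rw [← pow_succ, Nat.sub_add_cancel hp.one_le]
    rw [h0, h1]; ring)
  have hrel' := congrArg (fun b => (φ b : A)) hrel
  simp only [map_sub, map_mul, map_pow] at hrel'
  push_cast at hrel'
  have hY0 : (φ P0 : A) ≠ 0 := by
    simp only [P0, map_pow, Subring.coe_pow]; exact pow_ne_zero _ hφX0
  obtain ⟨v, w, hvw⟩ := Ideal.mem_span_pair.mp (ASRoot.frobenius_closed p hk (b := (φ P1 : A)) (y := (φ y : A)) hY0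
    (Ideal.mem_span_pair.mpr ⟨-(φ z₁ : A), (φ z₀ : A), by linear_combination -hrel'⟩))
  generalize hYa : (φ P0 : A) = Ya at hrel' hY0 hvw
  generalize hYb : (φ P1 : A) = Yb at hrel' hvw
  have hc : IsRelPrime (Ya ^ p) (Yb ^ p) := by
    rw [← hYa, ← hYb]
    simp only [P0, P1, map_pow, Subring.coe_pow]
    exact (hcop'.pow).pow
  have hh0 : Ya ^ p = Ya ^ (p - 1) * Ya := by rw [← pow_succ, Nat.sub_add_cancel hp.one_le]
  have hh1 : Yb ^ p = Yb ^ (p - 1) * Yb := by rw [← pow_succ, Nat.sub_add_cancel hp.one_le]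
  have hdvd : Ya ^ p ∣ ((φ z₀ : A) - (w ^ p - Ya ^ (p - 1) * w)) := by
    refine hc.dvd_of_dvd_mul_right ⟨(φ z₁ : A) + (v ^ p - Yb ^ (p - 1) * v), ?_⟩
    rw [← hvw, add_pow_char, mul_pow, mul_pow, mul_pow] at hrel'
    rw [hh0, hh1] at hrel' ⊢
    linear_combination -hrel'
  obtain ⟨a, ha⟩ := hdvd
  obtain ⟨w₁, hw₁⟩ := ASRoot.exists_as_root p hk hkp a
  refine exists_extension p hcard hσ (a₀ := a₀) (X₀ := (P0 : A)) (a' := w + Ya * w₁) (P0.2 σ)
    (by rw [hP0]; exact pow_ne_zero _ hX0) ha₀ φ z₀ P0 rfl hz₀ ?_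
  rw [hYa, add_pow_char, mul_pow]
  rw [hh0] at ha ⊢
  linear_combination (Ya ^ (p - 1) * Ya) * hw₁ - ha

end Groth.Agent.H23Wild.Extend
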