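import Groth.Agent.H23Wild.MonicSystem
import Mathlib.LinearAlgebra.Dual.Basis
import Mathlib.RingTheory.OrzechProperty
import Mathlib.Algebra.SkewMonoidAlgebra.Basic

/-! # The top coefficient form of a system of monic equations -/

set_option autoImplicit false

universe u

open MvPolynomial

namespace Groth.Agent.H23Wild

variable {R : Type u} [CommRing R]

section OneLevel

variable {g : Polynomial R} (hg : g.Monic)

/-- The top coefficient. -/
noncomputable def topC : AdjoinRoot g →ₗ[R] R :=
  (Polynomial.lcoeff R (g.natDegree - 1)).comp (AdjoinRoot.modByMonicHom hg)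

theorem topC_mk_of_small [Nontrivial R] {Q : Polynomial R} (hQ : ∀ i, g.natDegree ≤ i → Q.coeff i = 0) :
    topC hg (AdjoinRoot.mk g Q) = Q.coeff (g.natDegree - 1) := by
  rw [topC, LinearMap.comp_apply, AdjoinRoot.modByMonicHom_mk, (Polynomial.modByMonic_eq_self_iff hg).mpr]
  · rfl
  · rw [Polynomial.degree_eq_natDegree hg.ne_zero]
    exact Polynomial.degree_lt_iff_coeff_zero _ _ |>.mpr fun m hm => hQ m (by exact_mod_cast hm)

theorem topC_root_add_pow [Nontrivial R] (v : R) {k : ℕ} (hk : k < g.natDegree) :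
    topC hg ((AdjoinRoot.root g + algebraMap R _ v) ^ k) = if k = g.natDegree - 1 then 1 else 0 := by
  rw [show AdjoinRoot.root g + algebraMap R _ v = AdjoinRoot.mk g (Polynomial.X + Polynomial.C v) by
    rw [map_add]; rfl, ← map_pow, topC_mk_of_small hg (fun i hi => by
      rw [Polynomial.coeff_X_add_C_pow, Nat.choose_eq_zero_of_lt (by omega), Nat.cast_zero, mul_zero]),
    Polynomial.coeff_X_add_C_pow]
  split_ifs with h
  · rw [h, Nat.sub_self, pow_zero, one_mul, Nat.choose_self, Nat.cast_one]
  · rw [Nat.choose_eq_zero_of_lt (by omega), Nat.cast_zero, mul_zero]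

theorem exists_topC_dual [Nontrivial R] {k : ℕ} (hk : k < g.natDegree) :
    ∃ b : AdjoinRoot g, ∀ j < g.natDegree, topC hg (AdjoinRoot.root g ^ j * b) = if j = k then 1 else 0 := by
  classical
  let H : Polynomial R := ∑ l ∈ Finset.range (g.natDegree - k), Polynomial.monomial l (g.coeff (l + (k + 1)))
  let P : Polynomial R := ∑ l ∈ Finset.range (k + 1), Polynomial.monomial l (g.coeff l)
  have hH : ∀ i, H.coeff i = g.coeff (i + (k + 1)) := fun i => by
    simp only [H, Polynomial.finsetSum_coeff, Polynomial.coeff_monomial, Finset.sum_ite_eq', Finset.mem_range]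
    split_ifs with h
    · rfl
    · exact (Polynomial.coeff_eq_zero_of_natDegree_lt (by omega)).symm
  have hP : ∀ i, P.coeff i = if i < k + 1 then g.coeff i else 0 := fun i => by
    simp [P, Polynomial.finsetSum_coeff, Polynomial.coeff_monomial]
  have hdec : g = Polynomial.X ^ (k + 1) * H + P := Polynomial.ext fun i => by
    rw [Polynomial.coeff_add, Polynomial.coeff_X_pow_mul', hH, hP]
    by_cases hi : k + 1 ≤ i
    · rw [if_pos hi, if_neg (by omega), add_zero, Nat.sub_add_cancel hi]
    · rw [if_neg hi, if_pos (by omega), zero_add]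
  refine ⟨AdjoinRoot.mk g H, fun j hj => ?_⟩
  rw [show AdjoinRoot.root g = AdjoinRoot.mk g Polynomial.X from rfl, ← map_pow, ← map_mul]
  by_cases hjk : j ≤ k
  · rw [topC_mk_of_small hg fun i hi => by
      rw [Polynomial.coeff_X_pow_mul', if_pos (by omega), hH]
      exact Polynomial.coeff_eq_zero_of_natDegree_lt (by omega),
      Polynomial.coeff_X_pow_mul', if_pos (by omega), hH]
    split_ifs with h
    · rw [show g.natDegree - 1 - j + (k + 1) = g.natDegree by omega]; exact hg
    · exact Polynomial.coeff_eq_zero_of_natDegree_lt (by omega)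
  · obtain ⟨m, rfl⟩ := Nat.exists_eq_add_of_le (show k + 1 ≤ j by omega)
    rw [if_neg (by omega), show AdjoinRoot.mk g (Polynomial.X ^ (k + 1 + m) * H) =
      AdjoinRoot.mk g (-(Polynomial.X ^ m * P)) from AdjoinRoot.mk_eq_mk.mpr ⟨Polynomial.X ^ m, by
        rw [pow_add]; linear_combination (-(Polynomial.X ^ m : Polynomial R)) * hdec⟩,
      topC_mk_of_small hg fun i hi => by
        rw [Polynomial.coeff_neg, Polynomial.coeff_X_pow_mul', hP]; split_ifs <;> first | exact neg_zero | omega,
      Polynomial.coeff_neg, Polynomial.coeff_X_pow_mul', hP]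
    split_ifs <;> first | exact neg_zero | omega

include hg in
theorem adjoinRoot_eq_sum (z : AdjoinRoot g) :
    ∃ s : Fin g.natDegree → R, z = ∑ k, algebraMap R _ (s k) * AdjoinRoot.root g ^ (k : ℕ) := by
  refine ⟨fun k => (AdjoinRoot.powerBasis' hg).basis.repr z k, ?_⟩
  conv_lhs => rw [← (AdjoinRoot.powerBasis' hg).basis.sum_repr z]
  refine Finset.sum_congr rfl fun k _ => ?_
  rw [PowerBasis.coe_basis, Algebra.smul_def]
  rfl

end OneLevel

theorem injective_pairing {A : Type*} [CommRing A] [Algebra R A] [Module.Free R A] [Module.Finite R A]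
    (t : A →ₗ[R] R) (hs : ∀ ψ : A →ₗ[R] R, ∃ b, ∀ z, ψ z = t (z * b)) (b : A)
    (hb : ∀ z, t (z * b) = 0) : b = 0 := by
  classical
  let B := Module.Free.chooseBasis R A
  let Φ : A →ₗ[R] Module.Dual R A := LinearMap.compr₂ (LinearMap.mul R A).flip t
  have hΦ : ∀ b z, Φ b z = t (z * b) := fun _ _ => rfl
  have hsurj : Function.Surjective (B.toDualEquiv.symm.toLinearMap.comp Φ) :=
    B.toDualEquiv.symm.surjective.comp fun ψ => (hs ψ).imp fun b h => LinearMap.ext fun z => (hΦ b z).trans (h z).symm
  refine OrzechProperty.injective_of_surjective_endomorphism _ hsurj ?_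
  rw [map_zero, LinearMap.comp_apply, show Φ b = 0 from LinearMap.ext hb, map_zero]

theorem exists_top_form : ∀ {n : ℕ} (f : Fin n → Polynomial R), (∀ i, (f i).Monic) → (∀ i, 1 ≤ (f i).natDegree) →
    ∃ t : Sys f →ₗ[R] R, (∀ ψ : Sys f →ₗ[R] R, ∃ b, ∀ z, ψ z = t (z * b)) ∧
      ∀ (σ : Sys f →ₐ[R] Sys f) (v : Fin n → R), (∀ i, σ (gen f i) = gen f i + algebraMap R _ (v i)) →
        ∀ z, t (σ z) = t z := by
  intro n
  induction n with
  | zero =>
    intro f _ _
    have hI : sysI f = ⊥ := by rw [sysI, Set.range_eq_empty, Ideal.span_empty]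
    let e : Sys f ≃ₐ[R] R := ((Ideal.quotientEquivAlgOfEq R hI).trans (AlgEquiv.quotientBot R _)).trans
      (MvPolynomial.isEmptyAlgEquiv R (Fin 0))
    refine ⟨e.toLinearMap, fun ψ => ⟨algebraMap R _ (ψ 1), fun z => ?_⟩, fun σ v _ z => ?_⟩
    · obtain ⟨r, rfl⟩ := e.symm.surjective z
      rw [show e.symm r = algebraMap R _ r from e.symm.commutes r, ← map_mul, Algebra.algebraMap_eq_smul_one r,
        map_smul]
      exact (e.commutes (r * ψ 1)).symm
    · obtain ⟨r, rfl⟩ := e.symm.surjective z
      rw [show e.symm r = algebraMap R _ r from e.symm.commutes r, AlgHom.commutes]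
  | succ n ih =>
    intro f hf hd
    nontriviality R
    obtain ⟨t', hs', ht'⟩ := ih (fun i => f i.succ) (fun i => hf _) (fun i => hd _)
    obtain ⟨e, he0, hes⟩ := exists_equiv_adjoinRoot f
    let S := Sys fun i : Fin n => f i.succ
    let g : Polynomial S := (f 0).map (algebraMap R S)
    have hg : g.Monic := (hf 0).map _
    haveI : Nontrivial S := Module.nontrivial_of_finrank_pos (R := R) (by
      rw [(free_finite_finrank (fun i : Fin n => f i.succ) (fun i => hf _) (fun i => hd _)).2.2]
      exact Finset.prod_pos fun i _ => hd _)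
    have hgd : 1 ≤ g.natDegree := by rw [(hf 0).natDegree_map]; exact hd 0
    have hinj : Function.Injective (algebraMap S (AdjoinRoot g)) := fun s s' h => by
      have h1 := topC_root_add_pow hg 0 (show g.natDegree - 1 < g.natDegree by omega)
      rw [map_zero, add_zero, if_pos rfl] at h1
      have h2 := congrArg (fun z => topC hg (z * AdjoinRoot.root g ^ (g.natDegree - 1))) h
      simpa only [← Algebra.smul_def, map_smul, h1, smul_eq_mul, mul_one] using h2
    let t : Sys f →ₗ[R] R := t'.comp ((topC hg).restrictScalars R ∘ₗ e.toLinearMap)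
    have ht : ∀ z, t z = t' (topC hg (e z)) := fun _ => rfl
    refine ⟨t, fun ψ => ?_, fun σ v hσ z => ?_⟩
    · have h1 : ∀ k : Fin g.natDegree, ∃ β : S, ∀ s : S,
          ψ (e.symm (algebraMap S _ s * AdjoinRoot.root g ^ (k : ℕ))) = t' (s * β) := fun k =>
        hs' (ψ ∘ₗ e.symm.toLinearMap ∘ₗ LinearMap.mulRight R (AdjoinRoot.root g ^ (k : ℕ)) ∘ₗ
          (IsScalarTower.toAlgHom R S (AdjoinRoot g)).toLinearMap)
      choose β hβ using h1
      choose b hb using fun k : Fin g.natDegree => exists_topC_dual hg k.2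
      refine ⟨e.symm (∑ k, algebraMap S _ (β k) * b k), fun z => ?_⟩
      obtain ⟨s, hs⟩ := adjoinRoot_eq_sum hg (e z)
      rw [← e.symm_apply_apply z, hs, ← map_mul, ht, e.apply_symm_apply, map_sum, map_sum, Finset.sum_mul, map_sum,
        map_sum]
      refine Finset.sum_congr rfl fun j _ => ?_
      rw [hβ, Finset.mul_sum, map_sum, Finset.sum_eq_single j]
      · rw [mul_mul_mul_comm, ← map_mul, ← Algebra.smul_def, map_smul, hb _ _ j.2, if_pos rfl, smul_eq_mul, mul_one]
      · intro k _ hk
        rw [mul_mul_mul_comm, ← map_mul, ← Algebra.smul_def, map_smul, hb _ _ j.2,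
          if_neg fun h => hk (Fin.ext h).symm, smul_zero]
      · exact fun h => absurd (Finset.mem_univ j) h
    · obtain ⟨ι, hι⟩ := exists_lift (fun i : Fin n => f i.succ) (fun i => gen f i.succ) fun i => aeval_gen f i.succ
      have hei' : ∀ s : S, e (ι s) = algebraMap S _ s := fun s =>
        AlgHom.congr_fun (algHom_ext (φ := e.toAlgHom.comp ι) (ψ := IsScalarTower.toAlgHom R S (AdjoinRoot g)) _
          fun i => by show e (ι _) = _; rw [hι, hes]; rfl) s
      obtain ⟨σ', hσ'⟩ := exists_lift (fun i : Fin n => f i.succ)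
        (fun i => gen (fun i : Fin n => f i.succ) i + algebraMap R S (v i.succ)) fun i => by
          refine hinj ?_
          rw [← hei', ← Polynomial.aeval_algHom_apply, map_add, hι, AlgHom.commutes, ← hσ,
            Polynomial.aeval_algHom_apply, aeval_gen, map_zero, map_zero, map_zero]
      have hσι : ∀ s, σ (ι s) = ι (σ' s) := fun s =>
        AlgHom.congr_fun (algHom_ext (φ := σ.comp ι) (ψ := ι.comp σ') _ fun i => by
          rw [AlgHom.comp_apply, AlgHom.comp_apply, hι, hσ, hσ', map_add, hι, AlgHom.commutes]) s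
      obtain ⟨s, hs⟩ := adjoinRoot_eq_sum hg (e z)
      have hz : z = ∑ k, ι (s k) * gen f 0 ^ (k : ℕ) := e.injective (by
        rw [hs, map_sum]; exact Finset.sum_congr rfl fun k _ => by rw [map_mul, map_pow, hei', he0])
      rw [hz, map_sum, map_sum, map_sum]
      refine Finset.sum_congr rfl fun k _ => ?_
      have hk1 : e (ι (σ' (s k)) * (gen f 0 + algebraMap R _ (v 0)) ^ (k : ℕ)) =
          algebraMap S _ (σ' (s k)) * (AdjoinRoot.root g + algebraMap R _ (v 0)) ^ (k : ℕ) := by
        rw [map_mul, map_pow, hei', map_add, he0, AlgEquiv.commutes]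
      have hk2 : e (ι (s k) * gen f 0 ^ (k : ℕ)) = algebraMap S _ (s k) * AdjoinRoot.root g ^ (k : ℕ) := by
        rw [map_mul, map_pow, hei', he0]
      rw [map_mul, hσι, map_pow, hσ, ht, ht, hk1, hk2, ← Algebra.smul_def, ← Algebra.smul_def, (topC hg).map_smul, (topC hg).map_smul,
        IsScalarTower.algebraMap_apply R S (AdjoinRoot g), topC_root_add_pow hg _ k.2]
      have h0 := topC_root_add_pow hg 0 k.2
      rw [map_zero, add_zero] at h0
      rw [h0]
      split_ifs
      · rw [smul_eq_mul, smul_eq_mul, mul_one, mul_one]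
        exact ht' σ' (fun i => v i.succ) hσ' (s k)
      · rw [smul_zero, smul_zero]

theorem skew_symmetric {A G : Type*} [CommRing A] [Algebra R A] [Module.Free R A] [Module.Finite R A] [Group G]
    [Finite G] [MulSemiringAction G A] [SMulCommClass G R A] (t : A →ₗ[R] R)
    (hs : ∀ ψ : A →ₗ[R] R, ∃ b, ∀ z, ψ z = t (z * b)) (hinv : ∀ (h : G) (z : A), t (h • z) = t z) :
    ∃ φ : SkewMonoidAlgebra A G →ₗ[R] R,
      (∀ x y : SkewMonoidAlgebra A G, φ (x * y) = φ (y * x)) ∧
      Function.Injective (fun y : SkewMonoidAlgebra A G => fun x : SkewMonoidAlgebra A G => φ (x * y)) ∧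
      ∀ ψ : SkewMonoidAlgebra A G →ₗ[R] R, ∃ y : SkewMonoidAlgebra A G, ∀ x, ψ x = φ (x * y) := by
  have hinj := injective_pairing t hs
  let φ : SkewMonoidAlgebra A G →ₗ[R] R :=
    { toFun := fun x => t (x.coeff 1)
      map_add' := fun x y => by rw [SkewMonoidAlgebra.coeff_add, Finsupp.add_apply, map_add]
      map_smul' := fun r x => by rw [SkewMonoidAlgebra.coeff_smul, Finsupp.smul_apply, map_smul]; rfl }
  have hφ : ∀ x, φ x = t (x.coeff 1) := fun _ => rfl
  have hsingle : ∀ (h : G) (c : A) (y : SkewMonoidAlgebra A G),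
      φ (SkewMonoidAlgebra.single h c * y) = t (c * h • y.coeff h⁻¹) := by
    intro h c y
    classical
    induction y using SkewMonoidAlgebra.induction_on with
    | zero => simp
    | single h' c' =>
      rw [SkewMonoidAlgebra.single_mul_single, hφ, SkewMonoidAlgebra.coeff_single_apply,
        SkewMonoidAlgebra.coeff_single_apply]
      by_cases hh : h' = h⁻¹
      · subst hh; simp
      · rw [if_neg hh, if_neg fun h1 => hh (eq_inv_of_mul_eq_one_right h1), smul_zero, mul_zero]
    | add f f' hf hf' =>
      rw [mul_add, map_add, hf, hf', SkewMonoidAlgebra.coeff_add, Finsupp.add_apply, smul_add, mul_add, map_add]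
  refine ⟨φ, fun x y => ?_, fun y y' h => ?_, fun ψ => ?_⟩
  · classical
    induction x using SkewMonoidAlgebra.induction_on with
    | zero => simp
    | add f f' hf hf' => rw [add_mul, mul_add, map_add, map_add, hf, hf']
    | single h c =>
      induction y using SkewMonoidAlgebra.induction_on with
      | zero => simp
      | add f f' hf hf' => rw [add_mul, mul_add, map_add, map_add, hf, hf']
      | single h' c' =>
        rw [hsingle, hsingle, SkewMonoidAlgebra.coeff_single_apply, SkewMonoidAlgebra.coeff_single_apply]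
        by_cases hh : h' = h⁻¹
        · subst hh
          rw [if_pos rfl, if_pos (inv_inv h).symm, ← hinv h⁻¹ (c * h • c'), smul_mul', inv_smul_smul, mul_comm]
        · rw [if_neg hh, if_neg fun h1 => hh (by rw [h1, inv_inv]), smul_zero, mul_zero, smul_zero, mul_zero]
  · refine SkewMonoidAlgebra.ext fun h' => ?_
    have h1 : h'⁻¹ • (y.coeff h' - y'.coeff h') = 0 := hinj _ fun c => by
      have h2 := congrFun h (SkewMonoidAlgebra.single h'⁻¹ c)
      simp only [hsingle, inv_inv] at h2
      rw [smul_sub, mul_sub, map_sub, h2, sub_self]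
    exact sub_eq_zero.mp ((smul_eq_zero_iff_eq h'⁻¹).mp h1)
  · haveI := Fintype.ofFinite G
    have h1 : ∀ h : G, ∃ β : A, ∀ c : A, ψ (SkewMonoidAlgebra.single h c) = t (c * β) := fun h =>
      hs { toFun := fun c => ψ (SkewMonoidAlgebra.single h c)
           map_add' := fun c c' => by rw [SkewMonoidAlgebra.single_add, map_add]
           map_smul' := fun r c => by rw [← SkewMonoidAlgebra.smul_single, map_smul]; rfl }
    choose β hβ using h1
    refine ⟨⟨Finsupp.equivFunOnFinite.symm fun h => h • β h⁻¹⟩, fun x => ?_⟩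
    induction x using SkewMonoidAlgebra.induction_on with
    | zero => simp
    | add f f' hf hf' => rw [map_add, add_mul, map_add, hf, hf']
    | single h c => rw [hsingle, hβ]; simp [Finsupp.equivFunOnFinite]

end Groth.Agent.H23Wild
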