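import Groth.Agent.H23Wild.InsepObstruction
import Mathlib.LinearAlgebra.Dual.Lemmas

/-! # Frobenius closure of two-generated ideals in power series rings -/

set_option autoImplicit false

universe u v

open MvPowerSeries

namespace Groth.Agent.H23Wild.Closure

variable {n : ℕ} {k : Type v} [Field k] (p : ℕ) [Fact p.Prime] [CharP k p]

theorem exists_semilinear (e : ℕ) {c : k} (hc : c ≠ 0) :
    ∃ l : k →+ k, (∀ a b : k, l (a ^ p ^ e * b) = a * l b) ∧ l c = 1 := by
  let F := (iterateFrobenius k p e).fieldRange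
  let ε : k ≃+* F := RingEquiv.ofBijective (iterateFrobenius k p e).rangeRestrictField
    ⟨fun a b h => (iterateFrobenius k p e).injective (congrArg Subtype.val h), fun ⟨_, a, ha⟩ => ⟨a, Subtype.ext ha⟩⟩
  obtain ⟨f, hf⟩ := Module.Projective.exists_dual_ne_zero F hc
  refine ⟨ε.symm.toAddMonoidHom.comp ((f c)⁻¹ • f).toAddMonoidHom, fun a b => ?_, ?_⟩
  · show ε.symm ((f c)⁻¹ • f (a ^ p ^ e * b)) = a * ε.symm ((f c)⁻¹ • f b)
    rw [show a ^ p ^ e * b = (ε a) • b from by rw [← iterateFrobenius_def]; rfl, f.map_smul, smul_eq_mul, smul_eq_mul,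
      smul_eq_mul, mul_left_comm, map_mul, ε.symm_apply_apply]
  · show ε.symm ((f c)⁻¹ • f c) = 1
    rw [smul_eq_mul, inv_mul_cancel₀ hf, map_one]

theorem coeff_smul_pow_iterate (e : ℕ) (g : MvPowerSeries (Fin n) k) (m : Fin n →₀ ℕ) :
    coeff (p ^ e • m) (g ^ p ^ e) = coeff m g ^ p ^ e := by
  induction e with
  | zero => simp
  | succ e ih => rw [pow_succ p e, mul_comm (p ^ e) p, mul_smul, mul_comm p (p ^ e), pow_mul, Insep.coeff_smul_pow, ih, ← pow_mul]

theorem coeff_pow_of_not_dvd (e : ℕ) (g : MvPowerSeries (Fin n) k) {m : Fin n →₀ ℕ} {i : Fin n}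
    (h : ¬ p ^ e ∣ m i) : coeff m (g ^ p ^ e) = 0 := by
  induction e generalizing m with
  | zero => exact absurd (by simp) h
  | succ e ih =>
    rw [pow_succ, pow_mul, ← map_frobenius_expand p (Fact.out : p.Prime).ne_zero, coeff_map]
    by_cases hd : ∀ l, p ∣ m l
    · let m' : Fin n →₀ ℕ := Finsupp.equivFunOnFinite.symm fun l => m l / p
      have hm : m = p • m' := Finsupp.ext fun l => (Nat.mul_div_cancel' (hd l)).symm
      rw [hm, coeff_expand_smul, ih (m := m'), map_zero]
      intro hdvd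
      refine h ?_
      rw [hm, Finsupp.smul_apply, smul_eq_mul, pow_succ, mul_comm]
      exact Nat.mul_dvd_mul_left _ hdvd
    · push Not at hd
      obtain ⟨l, hl⟩ := hd
      rw [coeff_expand_of_not_dvd _ _ _ hl, map_zero]

theorem exists_cartier (e : ℕ) (l : k →+ k) (hl : ∀ a b : k, l (a ^ p ^ e * b) = a * l b)
    (r : Fin n →₀ ℕ) (hr : ∀ i, r i < p ^ e) :
    ∃ π : MvPowerSeries (Fin n) k →+ MvPowerSeries (Fin n) k, (∀ g f, π (g ^ p ^ e * f) = g * π f) ∧
      ∀ f, constantCoeff (π f) = l (coeff r f) := by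
  classical
  let π : MvPowerSeries (Fin n) k →+ MvPowerSeries (Fin n) k :=
    { toFun := fun f m => l (coeff (p ^ e • m + r) f)
      map_zero' := funext fun m => by
        show l (coeff (p ^ e • m + r) 0) = 0
        rw [map_zero, map_zero]
      map_add' := fun f g => funext fun m => by
        show l (coeff (p ^ e • m + r) (f + g)) = l (coeff (p ^ e • m + r) f) + l (coeff (p ^ e • m + r) g)
        rw [map_add, map_add] }
  have hπ : ∀ f m, coeff m (π f) = l (coeff (p ^ e • m + r) f) := fun f m => rfl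
  refine ⟨π, fun g f => ?_, fun f => by rw [← coeff_zero_eq_constantCoeff_apply, hπ, smul_zero, zero_add]⟩
  ext m
  rw [hπ, coeff_mul, coeff_mul, map_sum]
  have hq : 0 < p ^ e := pow_pos (Fact.out : p.Prime).pos e
  refine Eq.trans ?_ (Finset.sum_congr rfl fun x _ => (show coeff x.1 g * coeff x.2 (π f) =
    l (coeff (p ^ e • x.1) (g ^ p ^ e) * coeff (p ^ e • x.2 + r) f) by rw [coeff_smul_pow_iterate, hl, hπ]).symm)
  symm
  refine Finset.sum_of_injOn (fun x => (p ^ e • x.1, p ^ e • x.2 + r)) ?_ ?_ ?_ (fun _ _ => rfl)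
  · intro x _ y _ hxy
    simp only [Prod.mk.injEq, add_left_inj] at hxy
    exact Prod.ext (Finsupp.ext fun i => Nat.eq_of_mul_eq_mul_left hq (DFunLike.congr_fun hxy.1 i))
      (Finsupp.ext fun i => Nat.eq_of_mul_eq_mul_left hq (DFunLike.congr_fun hxy.2 i))
  · intro x hx
    rw [Finset.mem_coe, Finset.HasAntidiagonal.mem_antidiagonal] at hx ⊢
    rw [← add_assoc, ← smul_add, hx]
  · intro y hy hny
    rw [Finset.HasAntidiagonal.mem_antidiagonal] at hy
    by_cases hd : ∀ i, p ^ e ∣ y.1 i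
    · exfalso
      let a : Fin n →₀ ℕ := Finsupp.equivFunOnFinite.symm fun i => y.1 i / p ^ e
      have ha : ∀ i, y.1 i = p ^ e * a i := fun i => (Nat.mul_div_cancel' (hd i)).symm
      have hle : ∀ i, a i ≤ m i := fun i => by
        have h1 := DFunLike.congr_fun hy i
        simp only [Finsupp.add_apply, Finsupp.smul_apply, smul_eq_mul, ha i] at h1
        have h2 : p ^ e * a i < p ^ e * (m i + 1) := by rw [mul_add, mul_one]; linarith [hr i]
        have := Nat.lt_of_mul_lt_mul_left h2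
        omega
      refine hny ⟨(a, m - a), ?_, Prod.ext (Finsupp.ext fun i => (ha i).symm) (Finsupp.ext fun i => ?_)⟩
      · rw [Finset.mem_coe, Finset.HasAntidiagonal.mem_antidiagonal]
        exact add_tsub_cancel_of_le hle
      · have h1 := DFunLike.congr_fun hy i
        simp only [Finsupp.add_apply, Finsupp.smul_apply, smul_eq_mul, ha i] at h1
        simp only [Finsupp.add_apply, Finsupp.smul_apply, smul_eq_mul, Finsupp.tsub_apply]
        have h2 : p ^ e * m i = p ^ e * a i + p ^ e * (m i - a i) := by rw [← mul_add, Nat.add_sub_cancel' (hle i)]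
        omega
    · push Not at hd
      obtain ⟨i, hi⟩ := hd
      rw [coeff_pow_of_not_dvd p e g hi, zero_mul, map_zero]

theorem iterate_mem {A : Type u} [CommRing A] [CharP A p] {a b y : A}
    (h : y ^ p - (a * b) ^ (p - 1) * y ∈ Ideal.span {a ^ p, b ^ p}) (e : ℕ) :
    y ^ p ^ e - (a * b) ^ (p ^ e - 1) * y ∈ Ideal.span {a ^ p ^ e, b ^ p ^ e} := by
  induction e with
  | zero => simp
  | succ e ih =>
    obtain ⟨c, d, hcd⟩ := Ideal.mem_span_pair.mp ih
    obtain ⟨c', d', hcd'⟩ := Ideal.mem_span_pair.mp h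
    have hp := (Fact.out : p.Prime)
    have hq : 1 ≤ p ^ e := Nat.one_le_pow _ _ hp.pos
    refine Ideal.mem_span_pair.mpr ⟨c ^ p + (a * b) ^ 0 * c' * b ^ (p * (p ^ e - 1)),
      d ^ p + d' * a ^ (p * (p ^ e - 1)), ?_⟩
    have h1 : (y ^ p ^ e) ^ p = ((a * b) ^ (p ^ e - 1) * y + (c * a ^ p ^ e + d * b ^ p ^ e)) ^ p := by
      rw [hcd, add_sub_cancel]
    simp only [add_pow_char, mul_pow, ← pow_mul] at h1
    obtain ⟨r, hr⟩ := Nat.exists_eq_add_of_le hq
    have e1 : p ^ e - 1 = r := by omega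
    have e2 : p ^ (e + 1) = p + p * r := by rw [pow_succ, hr]; ring
    have e3 : p ^ (e + 1) - 1 = (p - 1) + p * r := by rw [e2]; have := hp.one_le; omega
    have e4 : p ^ e * p = p + p * r := by rw [hr]; ring
    rw [e1, e4, mul_comm r p] at h1
    rw [e1, e3, e2, pow_zero, one_mul, h1]
    linear_combination (a ^ (p * r) * b ^ (p * r)) * hcd'

theorem mem_span_pair_of_frobenius {A : Type u} [CommRing A] (E : MvPowerSeries (Fin n) k ≃+* A) [CharP A p]
    {a b y : A} (ha : a ≠ 0) (h : y ^ p - (a * b) ^ (p - 1) * y ∈ Ideal.span {a ^ p, b ^ p}) :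
    y ∈ Ideal.span {a, b} := by
  classical
  obtain ⟨r, hr⟩ : ∃ r, coeff r (E.symm a) ≠ 0 := by
    by_contra hc
    push Not at hc
    exact ha (E.symm.injective ((MvPowerSeries.ext fun r => by rw [hc r, map_zero]).trans (map_zero E.symm).symm))
  obtain ⟨e, he⟩ : ∃ e, ∀ i, r i < p ^ e := ⟨Finset.univ.sup (fun i => r i) + 1, fun i =>
    (Nat.lt_succ_of_le (Finset.le_sup (f := fun i => r i) (Finset.mem_univ i))).trans
      (Nat.lt_pow_self (Fact.out : p.Prime).one_lt)⟩
  obtain ⟨l, hl, hlc⟩ := exists_semilinear p e hr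
  obtain ⟨π, hπ, hπ0⟩ := exists_cartier p e l hl r he
  have hunit : IsUnit (π (E.symm a)) := by
    rw [MvPowerSeries.isUnit_iff_constantCoeff, hπ0, hlc]; exact isUnit_one
  -- `a * y ^ q` lies in the bracket power
  obtain ⟨c, d, hcd⟩ := Ideal.mem_span_pair.mp (iterate_mem p h e)
  have hq : 1 ≤ p ^ e := Nat.one_le_pow _ _ (Fact.out : p.Prime).pos
  have hay : E.symm y ^ p ^ e * E.symm a =
      E.symm a ^ p ^ e * E.symm (a * c + b ^ (p ^ e - 1) * y) + E.symm b ^ p ^ e * E.symm (a * d) := by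
    rw [← map_pow, ← map_pow, ← map_pow, ← map_mul, ← map_mul, ← map_mul, ← map_add]
    congr 1
    have : a ^ (p ^ e - 1) * a = a ^ p ^ e := by rw [← pow_succ, Nat.sub_add_cancel hq]
    linear_combination -a * hcd + (b ^ (p ^ e - 1) * y) * this
  have h2 := congrArg π hay
  rw [map_add, hπ, hπ, hπ] at h2
  obtain ⟨w, hw⟩ := hunit.exists_left_inv
  refine Ideal.mem_span_pair.mpr ⟨E (π (E.symm (a * c + b ^ (p ^ e - 1) * y)) * w), E (π (E.symm (a * d)) * w), ?_⟩
  generalize π (E.symm (a * c + b ^ (p ^ e - 1) * y)) = P₁ at h2 ⊢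
  generalize π (E.symm (a * d)) = P₂ at h2 ⊢
  refine E.symm.injective ?_
  simp only [map_add, map_mul, E.symm_apply_apply]
  linear_combination -w * h2 + (E.symm y) * hw

end Groth.Agent.H23Wild.Closure
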