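import Groth.Agent.H23Wild.EtaleLocus
import Groth.Agent.H1CAlg.ReflexiveNormal
import Groth.Agent.S9829
import Mathlib.Algebra.Algebra.Subalgebra.Pointwise
import Mathlib.LinearAlgebra.LinearIndependent.Basic

/-! # Invariant rings of complementary subgroups generate the whole ring -/

set_option autoImplicit false

universe u v w

open IsLocalRing
open scoped Pointwise

namespace Groth.Agent.H23Wild.Generate

section general

variable {R : Type u} {A : Type v} [CommRing R] [CommRing A] [Algebra R A]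
variable {H : Type w} [Group H] [MulSemiringAction H A] [SMulCommClass H R A]

/-- An element of `K` fixing every `G`-invariant is trivial. -/
theorem eq_one_of_fix [IsDomain A] [FaithfulSMul H A] (K G : Subgroup H) [Finite G]
    (hKG : ∀ z ∈ K, z ∈ G → z = 1) (z : H) (hz : z ∈ K)
    (hfix : ∀ a : A, (∀ g ∈ G, g • a = a) → z • a = a) : z = 1 := by
  classical
  by_contra hz1
  haveI := Fintype.ofFinite G
  let m : H → (A →* A) := fun h => (MulSemiringAction.toRingHom H A h).toMonoidHom
  have hminj : Function.Injective m := fun x y h => FaithfulSMul.eq_of_smul_eq_smul fun a => congrArg (fun f : A →* A => f a) h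
  let e : G × Bool → H := fun gb => if gb.2 then z * gb.1 else gb.1
  have heinj : Function.Injective e := by
    rintro ⟨g, b⟩ ⟨g', b'⟩ h
    cases b <;> cases b' <;> simp only [e, if_true, Bool.false_eq_true, if_false] at h
    · rw [Subtype.ext h]
    · exact absurd (hKG z hz (by rw [eq_mul_inv_of_mul_eq h.symm]; exact mul_mem g.2 (inv_mem g'.2))) hz1
    · exact absurd (hKG z hz (by rw [eq_mul_inv_of_mul_eq h]; exact mul_mem g'.2 (inv_mem g.2))) hz1
    · rw [Subtype.ext (mul_left_cancel h)]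
  have hLI := (linearIndependent_monoidHom A A).comp (m ∘ e) (hminj.comp heinj)
  have h0 := Fintype.linearIndependent_iff.mp hLI (fun gb => if gb.2 then (1 : A) else -1) ?_ (1, true)
  · simp at h0
  · funext b
    have hT : z • (∑ g : G, (g : H) • b) = ∑ g : G, (g : H) • b := hfix _ fun g hg => by
      rw [Finset.smul_sum]
      exact Fintype.sum_equiv (Equiv.mulLeft (⟨g, hg⟩ : G)) _ _ fun x => (mul_smul g (x : H) b).symm
    rw [Finset.smul_sum] at hT
    simp [Fintype.sum_prod_type, Fintype.sum_bool, e, m, mul_smul, hT, Finset.sum_apply, Finset.sum_add_distrib]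

/-- A family of `K`-invariants independent over the base is independent over the `G`-invariants. -/
theorem indep_over_fixed [IsDomain A] [Finite H] [FaithfulSMul H A]
    (hfix : ∀ a : A, (∀ h : H, h • a = a) → a ∈ Set.range (algebraMap R A))
    (K G : Subgroup H) (hcomm : ∀ g h : H, g * h = h * g) (hKG : ∀ z ∈ K, z ∈ G → z = 1) (hgen : K ⊔ G = ⊤)
    {ι : Type v} [Fintype ι] (f : ι → A) (hf : LinearIndependent R f) (hfK : ∀ k ∈ K, ∀ t, k • f t = f t)
    (c : ι → A) (hc : ∀ g ∈ G, ∀ t, g • c t = c t) (h0 : ∑ t, c t * f t = 0) : ∀ t, c t = 0 := by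
  classical
  haveI := Fintype.ofFinite K
  have hτ : ∀ a : A, (∀ g ∈ G, g • a = a) → ∀ t, ∑ x : K, (x : H) • (a * c t) = 0 := by
    intro a ha
    have hr : ∀ t, ∃ r : R, algebraMap R A r = ∑ x : K, (x : H) • (a * c t) := fun t => by
      refine hfix _ fun h => ?_
      suffices hle : K ⊔ G ≤ MulAction.stabilizer H (∑ x : K, (x : H) • (a * c t)) from
        hle (hgen ▸ Subgroup.mem_top h)
      refine sup_le (fun k hk => ?_) fun g hg => ?_
      · show k • _ = _
        rw [Finset.smul_sum]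
        exact Fintype.sum_equiv (Equiv.mulLeft (⟨k, hk⟩ : K)) _ _ fun x => (mul_smul k (x : H) _).symm
      · show g • _ = _
        rw [Finset.smul_sum]
        refine Finset.sum_congr rfl fun x _ => ?_
        rw [smul_smul, hcomm, mul_smul, smul_mul', ha g hg, hc g hg]
    choose r hr using hr
    have : ∑ t, r t • f t = 0 := by
      have h1 : ∀ t, r t • f t = ∑ x : K, (x : H) • (a * (c t * f t)) := fun t => by
        rw [Algebra.smul_def, hr, Finset.sum_mul]
        refine Finset.sum_congr rfl fun x _ => ?_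
        rw [← mul_assoc, smul_mul' (x : H) (a * c t), hfK _ x.2]
      rw [Finset.sum_congr rfl fun t _ => h1 t, Finset.sum_comm]
      refine Finset.sum_eq_zero fun x _ => ?_
      rw [← Finset.smul_sum, ← Finset.mul_sum, h0, mul_zero, smul_zero]
    intro t
    rw [← hr, Fintype.linearIndependent_iff.mp hf r this t, map_zero]
  intro t
  let N : Submonoid A :=
    { carrier := {a | ∀ g ∈ G, g • a = a}
      one_mem' := fun g _ => smul_one g
      mul_mem' := fun {a b} ha hb g hg => by rw [smul_mul', ha g hg, hb g hg] }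
  let m : K → (N →* A) := fun x => ((MulSemiringAction.toRingHom H A (x : H)).toMonoidHom).comp N.subtype
  haveI : Finite G := inferInstance
  have hminj : Function.Injective m := fun x y h => by
    have h1 : (y : H)⁻¹ * x = 1 := eq_one_of_fix (A := A) K G hKG _ (mul_mem (inv_mem y.2) x.2) fun a ha => by
      rw [mul_smul, show (x : H) • a = (y : H) • a from congrArg (fun f : N →* A => f ⟨a, ha⟩) h, inv_smul_smul]
    exact Subtype.ext (inv_mul_eq_one.mp h1).symm
  have hLI := (linearIndependent_monoidHom N A).comp m hminj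
  have h1 := Fintype.linearIndependent_iff.mp hLI (fun x : K => (x : H) • c t) ?_ 1
  · simpa using h1
  · funext a
    rw [Finset.sum_apply]
    show ∑ x : K, ((x : H) • c t) * ((x : H) • (a : A)) = 0
    rw [← hτ a a.2 t]
    exact Finset.sum_congr rfl fun x _ => by rw [smul_mul', mul_comm]

/-- Correcting an automorphism trivial on the residue ring of the invariants. -/
theorem exists_trivial_mod {B A : Type*} [CommRing B] [CommRing A] [Algebra B A] (K : Type*) [Group K] [Finite K]
    [MulSemiringAction K A] [SMulCommClass K B A] [Algebra.IsInvariant B A K]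
    (Q : Ideal B) (Qt : Ideal A) [Qt.IsPrime] [Qt.LiesOver Q] (g : A ≃+* A)
    (hg : ∀ b, ∃ b', g (algebraMap B A b) = algebraMap B A b' ∧ b' - b ∈ Q)
    (hg' : ∀ b, ∃ b', g.symm (algebraMap B A b) = algebraMap B A b' ∧ b' - b ∈ Q) :
    ∃ k : K, ∀ a : A, k • g a - a ∈ Qt := by
  have hQ : ∀ b, b ∈ Q ↔ algebraMap B A b ∈ Qt := fun b => by rw [Ideal.LiesOver.over (P := Qt) (p := Q)]; rfl
  let gQ := Qt.comap g.symm.toRingHom
  haveI : gQ.IsPrime := Ideal.comap_isPrime _ _
  obtain ⟨k₁, hk₁⟩ := Algebra.IsInvariant.exists_smul_of_under_eq B A K gQ Qt (Ideal.ext fun b => by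
    obtain ⟨b', hb', hb'Q⟩ := hg' b
    show g.symm (algebraMap B A b) ∈ Qt ↔ algebraMap B A b ∈ Qt
    rw [hb', ← hQ, ← hQ]
    exact ⟨fun h => by simpa using sub_mem h hb'Q, fun h => by simpa using add_mem hb'Q h⟩)
  let φ : A ≃+* A := g.trans (MulSemiringAction.toRingEquiv K A k₁)
  have hmem : ∀ a, φ a ∈ Qt ↔ a ∈ Qt := fun a => by
    show k₁ • g a ∈ Qt ↔ _
    rw [hk₁, Ideal.mem_pointwise_smul_iff_inv_smul_mem, inv_smul_smul]
    show g.symm (g a) ∈ Qt ↔ _
    rw [g.symm_apply_apply, ← hk₁]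
  have hmap : Qt = Qt.map (φ : A →+* A) := by
    ext a
    rw [Ideal.map_comap_of_equiv φ]
    show a ∈ Qt ↔ φ.symm a ∈ Qt
    rw [← hmem (φ.symm a), φ.apply_symm_apply]
  let f : (A ⧸ Qt) ≃ₐ[B ⧸ Q] (A ⧸ Qt) := AlgEquiv.ofRingEquiv (f := Ideal.quotientEquiv Qt Qt φ hmap) fun x => by
    obtain ⟨b, rfl⟩ := Ideal.Quotient.mk_surjective x
    obtain ⟨b', hb', hb'Q⟩ := hg b
    show Ideal.Quotient.mk Qt (k₁ • g (algebraMap B A b)) = Ideal.Quotient.mk Qt (algebraMap B A b)
    rw [hb', smul_algebraMap, Ideal.Quotient.eq, ← map_sub, ← hQ]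
    exact hb'Q
  obtain ⟨k₂, hk₂⟩ := Ideal.Quotient.stabilizerHom_surjective K Q Qt f
  refine ⟨(k₂ : K)⁻¹ * k₁, fun a => ?_⟩
  have h1 : k₁ • g a - (k₂ : K) • a ∈ Qt :=
    Ideal.Quotient.eq.mp (congrArg (fun F : (A ⧸ Qt) ≃ₐ[B ⧸ Q] (A ⧸ Qt) => F (Ideal.Quotient.mk Qt a)) hk₂).symm
  have h2 : (k₂ : K)⁻¹ • (k₁ • g a - (k₂ : K) • a) ∈ Qt := by
    have h3 : ((k₂⁻¹ : MulAction.stabilizer K Qt) : K) • Qt = Qt := (k₂⁻¹).2
    have h4 := Ideal.smul_mem_pointwise_smul ((k₂⁻¹ : MulAction.stabilizer K Qt) : K) _ _ h1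
    rw [h3] at h4
    exact h4
  rwa [smul_sub, inv_smul_smul, ← mul_smul] at h2

open Classical in
/-- Trace coordinates over the base ring at a prime with trivial inertia. -/
theorem exists_frame_base {R : Type u} {B : Type v} [CommRing R] [CommRing B] [Algebra R B]
    (G : Type w) [Group G] [Fintype G] [MulSemiringAction G B] [SMulCommClass G R B]
    (hinj : Function.Injective (algebraMap R B))
    (hfix : ∀ b : B, (∀ g : G, g • b = b) → b ∈ Set.range (algebraMap R B)) (q : Ideal R) [q.IsPrime]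
    (h : ∀ Q : Ideal B, Q.IsPrime → Q.comap (algebraMap R B) = q → Q.inertia G = ⊥) :
    ∃ s ∉ q, ∃ (t : Finset B) (x : B → B),
      ∀ g : G, ∑ y ∈ t, x y * (g • y) = if g = 1 then algebraMap R B s else 0 := by
  let r : R →+* FixedPoints.subring B G :=
    (algebraMap R B).codRestrict _ fun c g => smul_algebraMap g c
  let e : R ≃+* FixedPoints.subring B G := RingEquiv.ofBijective r
    ⟨fun a b hab => hinj (congrArg Subtype.val hab), fun c => (hfix c.1 c.2).imp fun d hd => Subtype.ext hd⟩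
  haveI : SMulCommClass G (FixedPoints.subring B G) B := ⟨fun g b a => by
    show g • ((b : B) * a) = (b : B) * (g • a)
    rw [smul_mul', b.2 g]⟩
  haveI : Algebra.IsInvariant (FixedPoints.subring B G) B G := ⟨fun b hb => ⟨⟨b, hb⟩, rfl⟩⟩
  haveI : Algebra.IsIntegral (FixedPoints.subring B G) B := Algebra.IsInvariant.isIntegral _ B G
  let P := q.comap e.symm.toRingHom
  haveI : P.IsPrime := Ideal.comap_isPrime _ _
  obtain ⟨b, hb, t, x, hx⟩ := Invariants.exists_coeff_frame G P fun Q hQ hQP => h Q hQ (Ideal.ext fun c => by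
    show algebraMap R B c ∈ Q ↔ c ∈ q
    have : e c ∈ Q.comap (algebraMap (FixedPoints.subring B G) B) ↔ e c ∈ P := by rw [hQP]
    refine Iff.trans this ?_
    show e.symm (e c) ∈ q ↔ c ∈ q
    rw [e.symm_apply_apply])
  refine ⟨e.symm b, hb, t, x, fun g => ?_⟩
  rw [hx g, show algebraMap R B (e.symm b) = (b : B) from congrArg Subtype.val (e.apply_symm_apply b)]

/-- The action of a commuting subgroup on an invariant ring. -/
@[reducible]
def subAct (hcomm : ∀ g h : H, g * h = h * g) (K G : Subgroup H) :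
    MulSemiringAction G (FixedPoints.subalgebra R A K) where
  smul g b := ⟨(g : H) • (b : A), fun k => by
    show (k : H) • (g : H) • (b : A) = _
    rw [smul_smul, hcomm, mul_smul, show (k : H) • (b : A) = b from b.2 k]⟩
  one_smul b := Subtype.ext (one_smul H (b : A))
  mul_smul g g' b := Subtype.ext (mul_smul (g : H) g' (b : A))
  smul_zero g := Subtype.ext (smul_zero (g : H))
  smul_add g b c := Subtype.ext (smul_add (g : H) (b : A) c)
  smul_one g := Subtype.ext (smul_one (g : H))
  smul_mul g b c := Subtype.ext (smul_mul' (g : H) (b : A) c)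

end general

variable {R : Type u} {A : Type v} [CommRing R] [CommRing A] [IsDomain A] [Algebra R A] [Module.Finite R A]
variable {H : Type w} [Group H] [Finite H] [MulSemiringAction H A] [SMulCommClass H R A] [FaithfulSMul H A]
variable {ι : Type} [Fintype ι] [DecidableEq ι]

/-- The subgroup generated by the members other than `i`. -/
abbrev compl (Gi : ι → Subgroup H) (i : ι) : Subgroup H := ⨆ j ∈ (Finset.univ.erase i : Finset ι), Gi j

/-- The invariants of the complementary subgroup. -/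
abbrev fixB (R : Type u) (A : Type v) [CommRing R] [CommRing A] [Algebra R A] [MulSemiringAction H A]
    [SMulCommClass H R A] (Gi : ι → Subgroup H) (i : ι) : Subalgebra R A :=
  FixedPoints.subalgebra R A ↥(compl Gi i)

variable (Gi : ι → Subgroup H)

theorem le_compl {l i : ι} (h : l ≠ i) : Gi l ≤ compl Gi i :=
  le_biSup Gi (Finset.mem_erase.mpr ⟨h, Finset.mem_univ l⟩)

theorem mem_fixB {i : ι} {a : A} : a ∈ fixB R A Gi i ↔ ∀ l ≠ i, ∀ g ∈ Gi l, g • a = a := by
  constructor
  · intro ha l hl g hg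
    exact ha ⟨g, le_compl Gi hl hg⟩
  · intro ha k
    have : compl Gi i ≤ MulAction.stabilizer H a := iSup₂_le fun l hl g hg => ha l (Finset.ne_of_mem_erase hl) g hg
    exact this k.2

variable (hcomm : ∀ g h : H, g * h = h * g) (hfix : ∀ a : A, (∀ h : H, h • a = a) → a ∈ Set.range (algebraMap R A))
  (hsup : (⨆ i, Gi i) = ⊤) (hdisj : ∀ i, ∀ z ∈ compl Gi i, z ∈ Gi i → z = 1)
  (hinj : Function.Injective (algebraMap R A))
include hcomm hfix hsup hdisj hinj

omit hcomm hfix hdisj hinj in
theorem compl_sup (i : ι) : compl Gi i ⊔ Gi i = ⊤ := by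
  refine eq_top_iff.mpr (hsup ▸ iSup_le fun l => ?_)
  by_cases h : l = i
  · subst h; exact le_sup_right
  · exact (le_compl Gi h).trans le_sup_left

theorem exists_monomial_basis [∀ i, Module.Free R (fixB R A Gi i)] [IsNoetherianRing R] [Nontrivial R] (J : Finset ι) :
    ∃ (κ : Type v) (_ : Fintype κ) (e : κ → A), LinearIndependent R e ∧
      Submodule.span R (Set.range e) = Subalgebra.toSubmodule (⨆ j ∈ J, fixB R A Gi j) := by
  classical
  induction J using Finset.induction_on with
  | empty =>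
    refine ⟨PUnit, inferInstance, fun _ => 1, ?_, ?_⟩
    · refine Fintype.linearIndependent_iff.mpr fun c hc _ => hinj ?_
      simpa [Algebra.smul_def] using hc
    · simp [Algebra.toSubmodule_bot, Set.range_const, Submodule.one_eq_span]
  | @insert i J hiJ ih =>
    obtain ⟨κ, _, e, he, hes⟩ := ih
    haveI : Module.Finite R (fixB R A Gi i) :=
      Module.Finite.iff_fg.mpr (IsNoetherian.noetherian (Subalgebra.toSubmodule (fixB R A Gi i)))
    let b := Module.Free.chooseBasis R (fixB R A Gi i)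
    let f : Module.Free.ChooseBasisIndex R (fixB R A Gi i) → A := fun t => (b t : A)
    have hf : LinearIndependent R f :=
      b.linearIndependent.map' (fixB R A Gi i).val.toLinearMap (LinearMap.ker_eq_bot.mpr Subtype.val_injective)
    have hfs : Submodule.span R (Set.range f) = Subalgebra.toSubmodule (fixB R A Gi i) := by
      rw [show Set.range f = (fixB R A Gi i).val.toLinearMap '' Set.range b from Set.range_comp _ _,
        Submodule.span_image, b.span_eq, Submodule.map_top]
      ext a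
      exact ⟨fun ⟨c, hc⟩ => hc ▸ c.2, fun ha => ⟨⟨a, ha⟩, rfl⟩⟩
    have hfixJ : ∀ g ∈ Gi i, ∀ a ∈ (⨆ j ∈ J, fixB R A Gi j : Subalgebra R A), g • a = a := by
      intro g hg a ha
      have hle : (⨆ j ∈ J, fixB R A Gi j : Subalgebra R A) ≤ FixedPoints.subalgebra R A ↥(Gi i) :=
        iSup₂_le fun j hj a ha g => ha ⟨g, le_compl Gi (ne_of_mem_of_not_mem hj hiJ).symm g.2⟩
      exact hle ha ⟨g, hg⟩
    refine ⟨κ × Module.Free.ChooseBasisIndex R (fixB R A Gi i), inferInstance, fun tk => e tk.1 * f tk.2, ?_, ?_⟩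
    · refine Fintype.linearIndependent_iff.mpr fun c hc => ?_
      have h0 : ∑ k, (∑ t, c (t, k) • e t) * f k = 0 := by
        rw [← hc, Fintype.sum_prod_type_right]
        exact Finset.sum_congr rfl fun k _ => by
          rw [Finset.sum_mul]
          exact Finset.sum_congr rfl fun t _ => smul_mul_assoc _ _ _
      have h1 := indep_over_fixed hfix (compl Gi i) (Gi i) hcomm (hdisj i) (compl_sup Gi hsup i) f hf
        (fun k hk t => (b t).2 ⟨k, hk⟩) (fun k => ∑ t, c (t, k) • e t) (fun g hg k => hfixJ g hg _ (by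
          rw [← Subalgebra.mem_toSubmodule, ← hes]
          exact Submodule.sum_mem _ fun t _ => Submodule.smul_mem _ _ (Submodule.subset_span ⟨t, rfl⟩))) h0
      intro tk
      exact Fintype.linearIndependent_iff.mp he (fun t => c (t, tk.2)) (h1 tk.2) tk.1
    · rw [Finset.iSup_insert, ← Subalgebra.mul_toSubmodule, ← hes, ← hfs, Submodule.span_mul_span]
      congr 1
      ext a
      simp only [Set.mem_range, Set.mem_mul, Prod.exists]
      constructor
      · rintro ⟨t, k, rfl⟩; exact ⟨_, ⟨k, rfl⟩, _, ⟨t, rfl⟩, mul_comm _ _⟩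
      · rintro ⟨_, ⟨k, rfl⟩, _, ⟨t, rfl⟩, rfl⟩; exact ⟨t, k, mul_comm _ _⟩

theorem exists_smul_mem [IsNoetherianRing R] [Nontrivial R]
    (hin : ∀ P : Ideal A, P.IsPrime → P.height ≤ 1 → P.inertia H = ⊥ ∨ ∃ i, P.inertia H ≤ Gi i)
    (q : Ideal R) [q.IsPrime] (hq : q.height ≤ 1) :
    ∃ s ∉ q, ∀ a : A, s • a ∈ ⨆ i, fixB R A Gi i := by
  classical
  haveI : Algebra.IsInvariant R A H := ⟨hfix⟩
  haveI : Algebra.IsIntegral R A := Algebra.IsIntegral.of_finite R A
  have hht : ∀ Qt : Ideal A, Qt.IsPrime → Qt.comap (algebraMap R A) = q → Qt.height ≤ 1 := fun Qt hQt hQq => by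
    refine le_trans ?_ hq
    have hmono : StrictMono (PrimeSpectrum.comap (algebraMap R A)) := fun P P' h =>
      Ideal.IsIntegral.comap_lt_comap (R := R) (A := A) h
    have h1 := Order.height_le_height_apply_of_strictMono _ hmono (⟨Qt, hQt⟩ : PrimeSpectrum A)
    rw [← PrimeSpectrum.height_eq_orderHeight, ← PrimeSpectrum.height_eq_orderHeight] at h1
    subst hQq
    exact h1
  obtain ⟨Q₁, -, hQ₁, hQ₁q⟩ := Ideal.exists_ideal_over_prime_of_isIntegral q (⊥ : Ideal A)
    (by rw [← RingHom.ker_eq_comap_bot, (RingHom.injective_iff_ker_eq_bot _).mp hinj]; exact bot_le)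
  have hconj : ∀ Qt : Ideal A, Qt.IsPrime → Qt.comap (algebraMap R A) = q → Qt.inertia H ≤ Q₁.inertia H := by
    intro Qt hQt hQq g hg a
    obtain ⟨h, hh⟩ := Algebra.IsInvariant.exists_smul_of_under_eq R A H Q₁ Qt
      (show Q₁.comap (algebraMap R A) = Qt.comap (algebraMap R A) by rw [hQq, hQ₁q])
    have h1 : g • (h • a) - h • a ∈ h • Q₁ := hh ▸ hg (h • a)
    rwa [smul_smul, hcomm, mul_smul, ← smul_sub, Ideal.smul_mem_pointwise_smul_iff] at h1
  obtain ⟨J₀, hJ₀card, hJ₀⟩ : ∃ J₀ : Finset ι, J₀.card ≤ 1 ∧ ∀ j ∉ J₀, Q₁.inertia H ≤ compl Gi j := by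
    rcases hin Q₁ hQ₁ (hht Q₁ hQ₁ hQ₁q) with h | ⟨i, hi⟩
    · exact ⟨∅, by simp, fun j _ => h ▸ bot_le⟩
    · exact ⟨{i}, by simp, fun j hj => hi.trans (le_compl Gi fun h => hj (Finset.mem_singleton.mpr h.symm))⟩
  suffices key : ∀ T : Finset ι, ∃ s ∉ q, ∀ a : A, (∀ l, l ∉ J₀ → l ∉ T → ∀ g ∈ Gi l, g • a = a) →
      s • a ∈ ⨆ i, fixB R A Gi i by
    obtain ⟨s, hs, h⟩ := key Finset.univ
    exact ⟨s, hs, fun a => h a fun l _ hl => absurd (Finset.mem_univ l) hl⟩
  intro T
  induction T using Finset.induction_on with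
  | empty =>
    refine ⟨1, fun h => (‹q.IsPrime›).ne_top (q.eq_top_of_isUnit_mem h isUnit_one), fun a ha => ?_⟩
    rw [one_smul]
    rcases Finset.eq_empty_or_nonempty J₀ with h | ⟨i, hi⟩
    · obtain ⟨r, rfl⟩ := hfix a fun g => by
        have hle : (⨆ l, Gi l) ≤ MulAction.stabilizer H a := iSup_le fun l g hg => ha l (by simp [h]) (by simp) g hg
        exact hle (hsup ▸ Subgroup.mem_top g)
      exact Subalgebra.algebraMap_mem _ r
    · refine le_iSup (fixB R A Gi) i ((mem_fixB Gi).mpr fun l hl => ha l (fun h => hl ?_) (by simp))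
      exact Finset.card_le_one.mp hJ₀card l h i hi
  | @insert j T hjT ih =>
    obtain ⟨s₀, hs₀, hih⟩ := ih
    by_cases hj : j ∈ J₀
    · exact ⟨s₀, hs₀, fun a ha => hih a fun l h1 h2 =>
        ha l h1 (fun h => by rcases Finset.mem_insert.mp h with h | h; exacts [h1 (h ▸ hj), h2 h])⟩
    haveI : Fintype (Gi j) := Fintype.ofFinite _
    let B := fixB R A Gi j
    letI : MulSemiringAction (Gi j) B := subAct hcomm (compl Gi j) (Gi j)
    haveI : SMulCommClass (Gi j) R B := ⟨fun g r b => Subtype.ext (smul_comm (g : H) r (b : A))⟩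
    haveI : SMulCommClass ↥(compl Gi j) B A := ⟨fun k b a => by
      show (k : H) • ((b : A) * a) = (b : A) * ((k : H) • a)
      rw [smul_mul', show (k : H) • (b : A) = b from b.2 k]⟩
    haveI : Algebra.IsInvariant B A ↥(compl Gi j) := ⟨fun a ha => ⟨⟨a, ha⟩, rfl⟩⟩
    haveI : Algebra.IsIntegral B A := Algebra.IsInvariant.isIntegral _ A ↥(compl Gi j)
    obtain ⟨s₁, hs₁, t, x, hx⟩ := exists_frame_base (R := R) (B := B) (Gi j)
      (fun a b h => hinj (congrArg Subtype.val h))
      (fun b hb => by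
        obtain ⟨r, hr⟩ := hfix (b : A) fun g => by
          have hle : compl Gi j ⊔ Gi j ≤ MulAction.stabilizer H (b : A) :=
            sup_le (fun k hk => b.2 ⟨k, hk⟩) fun g hg => congrArg Subtype.val (hb ⟨g, hg⟩)
          exact hle (compl_sup Gi hsup j ▸ Subgroup.mem_top g)
        exact ⟨r, Subtype.ext hr⟩)
      q fun Q hQ hQq => by
        rw [eq_bot_iff]
        intro g hg
        rw [Subgroup.mem_bot]
        haveI := hQ
        obtain ⟨Qt, -, hQt, hQtQ⟩ := Ideal.exists_ideal_over_prime_of_isIntegral Q (⊥ : Ideal A)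
          (by rw [← RingHom.ker_eq_comap_bot,
            (RingHom.injective_iff_ker_eq_bot (algebraMap B A)).mp Subtype.val_injective]; exact bot_le)
        haveI := hQt
        haveI : Qt.LiesOver Q := ⟨hQtQ.symm⟩
        obtain ⟨k, hk⟩ := exists_trivial_mod ↥(compl Gi j) Q Qt (MulSemiringAction.toRingEquiv H A (g : H))
          (fun b => ⟨g • b, rfl, hg b⟩)
          (fun b => ⟨g⁻¹ • b, rfl, inv_mem hg b⟩)
        have hkg : (k : H) * (g : H) ∈ compl Gi j := by
          refine hJ₀ j hj (hconj Qt hQt ?_ fun a => ?_)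
          · rw [IsScalarTower.algebraMap_eq R B A, ← Ideal.comap_comap, hQtQ, hQq]
          · rw [mul_smul]; exact hk a
        exact Subtype.ext (hdisj j g (by simpa using mul_mem (inv_mem k.2) hkg) g.2)
    refine ⟨s₀ * s₁, fun h => (Ideal.IsPrime.mem_or_mem ‹q.IsPrime› h).elim hs₀ hs₁, fun a ha => ?_⟩
    have hcoef : ∀ g : Gi j, ∑ y ∈ t, (x y : A) * ((g : H) • (y : A)) = if g = 1 then algebraMap R A s₁ else 0 := by
      intro g
      have h1 := congrArg (fun b : B => (b : A)) (hx g)
      simp only [AddSubmonoidClass.coe_finset_sum, MulMemClass.coe_mul, apply_ite (fun b : B => (b : A)),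
        ZeroMemClass.coe_zero] at h1
      exact h1
    have key : s₁ • a = ∑ y ∈ t, (x y : A) * ∑ g : Gi j, (g : H) • ((y : A) * a) := by
      have h1 : ∀ g : Gi j, (∑ y ∈ t, (x y : A) * ((g : H) • (y : A))) * ((g : H) • a) =
          if g = 1 then s₁ • a else 0 := fun g => by
        rw [hcoef]
        split_ifs with h
        · subst h; rw [OneMemClass.coe_one, one_smul, Algebra.smul_def]
        · rw [zero_mul]
      have h2 : ∑ g : Gi j, (if g = 1 then s₁ • a else 0) = s₁ • a := by simp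
      rw [← h2, ← Finset.sum_congr rfl fun g _ => h1 g]
      simp only [Finset.sum_mul, Finset.mul_sum]
      rw [Finset.sum_comm]
      exact Finset.sum_congr rfl fun y _ => Finset.sum_congr rfl fun g _ => by rw [smul_mul', mul_assoc]
    rw [mul_smul, key, Finset.smul_sum]
    refine sum_mem fun y _ => ?_
    rw [← mul_smul_comm]
    refine mul_mem (le_iSup (fixB R A Gi) j (x y).2) (hih _ fun l hl hlT g hg => ?_)
    by_cases hlj : l = j
    · subst hlj
      rw [Finset.smul_sum]
      exact Fintype.sum_equiv (Equiv.mulLeft (⟨g, hg⟩ : Gi l)) _ _ fun z => (mul_smul g (z : H) _).symm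
    · rw [Finset.smul_sum]
      refine Finset.sum_congr rfl fun z _ => ?_
      rw [smul_smul, hcomm, mul_smul, smul_mul' g (y : A), (mem_fixB Gi).mp y.2 l hlj g hg,
        ha l hl (fun h => (Finset.mem_insert.mp h).elim hlj hlT) g hg]

theorem iSup_fixB_eq_top [IsDomain R] [IsNoetherianRing R] [IsIntegrallyClosed R]
    [∀ i, Module.Free R (fixB R A Gi i)]
    (hin : ∀ P : Ideal A, P.IsPrime → P.height ≤ 1 → P.inertia H = ⊥ ∨ ∃ i, P.inertia H ≤ Gi i) :
    (⨆ i, fixB R A Gi i) = ⊤ := by
  classical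
  obtain ⟨κ, _, e, he, hes⟩ := exists_monomial_basis Gi hcomm hfix hsup hdisj hinj Finset.univ
  have hu : (⨆ j ∈ (Finset.univ : Finset ι), fixB R A Gi j) = ⨆ i, fixB R A Gi i := by simp
  rw [hu] at hes
  have hcoord : ∀ (q : Ideal R), q.IsPrime → q.height ≤ 1 → ∀ a : A, ∃ s ∉ q, ∃ d : κ → R, ∑ t, d t • e t = s • a := by
    intro q hq hqh a
    obtain ⟨s, hs, h⟩ := exists_smul_mem Gi hcomm hfix hsup hdisj hinj hin q hqh
    have h1 : s • a ∈ Submodule.span R (Set.range e) := hes ▸ (h a : s • a ∈ Subalgebra.toSubmodule _)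
    exact ⟨s, hs, (Submodule.mem_span_range_iff_exists_fun R).mp h1⟩
  rw [eq_top_iff]
  intro a _
  obtain ⟨s₀, hs₀, c, hc⟩ := hcoord ⊥ Ideal.isPrime_bot (by simp) a
  have hs₀' : s₀ ≠ 0 := fun h => hs₀ (h ▸ zero_mem _)
  let K := FractionRing R
  have hdiv : ∀ t, ∃ d : R, c t = s₀ * d := fun t => by
    have hK : algebraMap R K s₀ ≠ 0 := fun h => hs₀' (IsFractionRing.injective R K (h.trans (map_zero _).symm))
    obtain ⟨d, hd⟩ := H1CAlg.mem_range_of_height_le_one (algebraMap R K (c t) / algebraMap R K s₀) fun q _ hqh => by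
      obtain ⟨s, hs, d, hd⟩ := hcoord q ‹_› hqh.le a
      refine ⟨s, hs, d t, ?_⟩
      have h1 : ∑ u, (s * c u - s₀ * d u) • e u = 0 := by
        simp only [sub_smul, mul_smul, Finset.sum_sub_distrib, ← Finset.smul_sum, hc, hd]
        rw [smul_comm, sub_self]
      have h2 := sub_eq_zero.mp (Fintype.linearIndependent_iff.mp he _ h1 t)
      rw [mul_div_assoc', div_eq_iff hK, ← map_mul, ← map_mul, h2, mul_comm]
    refine ⟨d, IsFractionRing.injective R K ?_⟩
    rw [map_mul, hd, mul_div_cancel₀ _ hK]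
  choose d hd using hdiv
  have h1 : s₀ • a = s₀ • ∑ t, d t • e t := by
    rw [← hc, Finset.smul_sum]
    exact Finset.sum_congr rfl fun t _ => by rw [hd, mul_smul]
  rw [Algebra.smul_def, Algebra.smul_def] at h1
  have h2 := mul_left_cancel₀ (fun h => hs₀' (hinj (h.trans (map_zero _).symm))) h1
  rw [← Subalgebra.mem_toSubmodule, ← hes, h2]
  exact Submodule.sum_mem _ fun t _ => Submodule.smul_mem _ _ (Submodule.subset_span ⟨t, rfl⟩)

end Groth.Agent.H23Wild.Generate
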