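import Groth.Agent.H23Wild.Minor
import Mathlib.RingTheory.UniqueFactorizationDomain.Basic
import Mathlib.RingTheory.Ideal.Quotient.Operations

/-! # Invariants of the hyperplane subgroups -/

set_option autoImplicit false

universe u

open MvPolynomial

namespace Groth.Agent.H23Wild

variable {R : Type u} [CommRing R]

theorem sys_split [IsDomain R] {ι : Type} [Fintype ι] [DecidableEq ι] (f : ι → Polynomial R) (hf : ∀ i, (f i).Monic)
    (hd : ∀ i, 1 ≤ (f i).natDegree) (j : ι) :
    ∃ φ : Sys (fun i : {i // i ≠ j} => f i.1) →ₐ[R] Sys f, (∀ i, φ (gen _ i) = gen f i.1) ∧ Function.Injective φ ∧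
      Module.Free R (Sys fun i : {i // i ≠ j} => f i.1) ∧ Module.Finite R (Sys fun i : {i // i ≠ j} => f i.1) ∧
      Nontrivial (Sys fun i : {i // i ≠ j} => f i.1) ∧
      (∀ y : Sys f, ∃ P : Polynomial (Sys fun i : {i // i ≠ j} => f i.1), P.natDegree < (f j).natDegree ∧
        y = P.eval₂ φ.toRingHom (gen f j)) ∧
      ∀ P : Polynomial (Sys fun i : {i // i ≠ j} => f i.1), P.natDegree < (f j).natDegree →
        P.eval₂ φ.toRingHom (gen f j) = 0 → P = 0 := by
  have key : ∀ {κ : Type} [Fintype κ] (g : κ → Polynomial R), (∀ i, (g i).Monic) → (∀ i, 1 ≤ (g i).natDegree) →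
      Module.Free R (Sys g) ∧ Module.Finite R (Sys g) ∧ Module.finrank R (Sys g) = ∏ i, (g i).natDegree := by
    intro κ _ g hg hg'
    let e := (Fintype.equivFin κ).symm
    obtain ⟨E, -⟩ := sys_reindex g e
    obtain ⟨h1, h2, h3⟩ := free_finite_finrank (fun i => g (e i)) (fun i => hg _) (fun i => hg' _)
    exact ⟨Module.Free.of_equiv E.toLinearEquiv, Module.Finite.equiv E.toLinearEquiv,
      E.toLinearEquiv.finrank_eq.symm.trans (h3.trans (Fintype.prod_equiv e _ _ fun _ => rfl))⟩
  obtain ⟨h1, h2, h3⟩ := key f hf hd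
  obtain ⟨k1, k2, k3⟩ := key (fun i : {i // i ≠ j} => f i.1) (fun i => hf _) (fun i => hd _)
  let B := Sys fun i : {i // i ≠ j} => f i.1
  have hBn : Nontrivial B := Module.nontrivial_of_finrank_pos (R := R)
    (by rw [k3]; exact Finset.prod_pos fun i _ => hd _)
  obtain ⟨φ, hφ⟩ := exists_lift (fun i : {i // i ≠ j} => f i.1) (fun i => gen f i.1) fun i => aeval_gen f i.1
  let g : Polynomial B := (f j).map (algebraMap R B)
  have hgd : g.natDegree = (f j).natDegree := (hf j).natDegree_map _
  have hprod : ∏ i, (f i).natDegree = (∏ i : {i // i ≠ j}, (f i.1).natDegree) * (f j).natDegree := by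
    rw [← Finset.prod_erase_mul _ _ (Finset.mem_univ j)]
    congr 1
    exact Finset.prod_subtype _ (fun i => by simp) _
  obtain ⟨hco, huniq⟩ := adjoin_root_coords φ (gen f j) ((hf j).map _) (g := g) (by rw [hgd]; exact hd j)
    (by rw [Polynomial.eval₂_map, AlgHom.comp_algebraMap, ← Polynomial.aeval_def, aeval_gen])
    (by rw [h3, k3, hgd, hprod]) 1 one_ne_zero (gen f) (adjoin_gen f) fun i => by
      by_cases h : i = j
      · subst h; exact ⟨0, 1, by rw [map_one, one_mul, map_zero, zero_add, map_one, one_mul]⟩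
      · exact ⟨gen _ ⟨i, h⟩, 0, by rw [map_one, one_mul, map_zero, zero_mul, add_zero, hφ]⟩
  rw [hgd] at hco huniq
  refine ⟨φ, hφ, (injective_iff_map_eq_zero φ).mpr fun b hb => Polynomial.C_eq_zero.mp
    (huniq _ (by rw [Polynomial.natDegree_C]; exact hd j) ((Polynomial.eval₂_C _ _).trans hb)), k1, k2, hBn,
    fun y => ?_, huniq⟩
  obtain ⟨N, P, hP, h⟩ := hco y
  exact ⟨P, hP, by rwa [map_one, one_pow, one_mul] at h⟩

theorem aeval_gen_eq_zero [IsDomain R] {ι : Type} [Fintype ι] [DecidableEq ι] (f : ι → Polynomial R)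
    (hf : ∀ i, (f i).Monic) (hd : ∀ i, 1 ≤ (f i).natDegree) (j : ι) {Q : Polynomial R}
    (hQ : Q.natDegree < (f j).natDegree) (h : Polynomial.aeval (gen f j) Q = 0) : Q = 0 := by
  obtain ⟨φ, -, -, hfree, -, hnt, -, huniq⟩ := sys_split f hf hd j
  have hi : Function.Injective (algebraMap R (Sys fun i : {i // i ≠ j} => f i.1)) :=
    FaithfulSMul.algebraMap_injective R _
  refine Polynomial.map_injective _ hi ?_
  rw [Polynomial.map_zero]
  refine huniq _ (Polynomial.natDegree_map_le.trans_lt hQ) ?_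
  rw [Polynomial.eval₂_map]
  rw [Polynomial.aeval_def] at h
  rw [show φ.toRingHom.comp (algebraMap R _) = algebraMap R (Sys f) from φ.comp_algebraMap]
  exact h

variable (p : ℕ) [hp : Fact p.Prime]

theorem mem_adjoin_of_translations [IsDomain R] [CharP R p] : ∀ (m : ℕ) {ι : Type} [Fintype ι] [DecidableEq ι]
    (f : ι → Polynomial R), (∀ i, (f i).Monic) → (∀ i, (f i).natDegree = p) → ∀ (v : ι → R) (J : Finset ι),
    J.card = m → (∀ i ∈ J, v i ≠ 0) → ∀ (T : ι → (Sys f →ₐ[R] Sys f)),
    (∀ j ∈ J, ∀ i, T j (gen f i) = gen f i + (if i = j then algebraMap R _ (v j) else 0)) →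
    ∀ w, (∀ j ∈ J, T j w = w) → w ∈ Algebra.adjoin R (gen f '' (↑J)ᶜ) := by
  intro m
  induction m with
  | zero =>
    intro ι _ _ f _ _ v J hJ _ T _ w _
    rw [Finset.card_eq_zero.mp hJ, Finset.coe_empty, Set.compl_empty, Set.image_univ]
    exact adjoin_gen f w
  | succ m ih =>
    intro ι _ _ f hf hfd v J hJ hv T hT w hw
    obtain ⟨j, hj⟩ : ∃ j, j ∈ J := Finset.card_pos.mp (by omega)
    have hd : ∀ i, 1 ≤ (f i).natDegree := fun i => by rw [hfd]; exact hp.out.one_le
    obtain ⟨φ, hφ, hφi, hfree, -, hnt, hco, huniq⟩ := sys_split f hf hd j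
    let B := Sys fun i : {i // i ≠ j} => f i.1
    haveI : CharP B p := charP_of_injective_algebraMap (FaithfulSMul.algebraMap_injective R B) p
    obtain ⟨P, hP, rfl⟩ := hco w
    rw [hfd] at hP huniq
    have hTφ : (T j).comp φ = φ := algHom_ext _ fun i => by
      rw [AlgHom.comp_apply, hφ, hT j hj, if_neg i.2, add_zero]
    have hinv : P.comp (Polynomial.X + Polynomial.C (algebraMap R B (v j))) = P := by
      refine sub_eq_zero.mp (huniq _ ?_ ?_)
      · refine (Polynomial.natDegree_sub_le _ _).trans_lt (max_lt ?_ hP)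
        refine lt_of_le_of_lt Polynomial.natDegree_comp_le ?_
        rwa [Polynomial.natDegree_X_add_C, mul_one]
      · rw [Polynomial.eval₂_sub, Polynomial.eval₂_comp, Polynomial.eval₂_add, Polynomial.eval₂_X,
          Polynomial.eval₂_C, sub_eq_zero]
        conv_rhs => rw [← hw j hj]
        show _ = (T j).toRingHom (Polynomial.eval₂ φ.toRingHom _ P)
        rw [Polynomial.hom_eval₂, show (T j).toRingHom.comp φ.toRingHom = φ.toRingHom from
          congrArg AlgHom.toRingHom hTφ]
        congr 1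
        refine (Eq.trans ?_ (hT j hj j).symm)
        rw [if_pos rfl]
        exact congrArg (gen f j + ·) (φ.commutes _)
    have hdeg := poly_invariant p (fun s hs => by
        rw [← Algebra.smul_def] at hs
        exact (smul_eq_zero.mp hs).resolve_left (hv j hj))
      (fun d h1 h2 => by
        have hu : IsUnit (d : ZMod p) := isUnit_iff_ne_zero.mpr fun hd => by
          rw [ZMod.natCast_eq_zero_iff] at hd
          exact absurd (Nat.le_of_dvd h1 hd) (by omega)
        simpa using hu.map (ZMod.castHom (dvd_refl p) B)) hP hinv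
    obtain ⟨b, rfl⟩ := Polynomial.natDegree_eq_zero.mp hdeg
    rw [Polynomial.eval₂_C] at hw ⊢
    have hT' : ∀ i : {i // i ≠ j}, ∃ T' : B →ₐ[R] B, i.1 ∈ J →
        ∀ l, T' (gen _ l) = gen _ l + (if l = i then algebraMap R B (v i.1) else 0) := by
      intro i
      by_cases hi : i.1 ∈ J
      · obtain ⟨T', hT'⟩ := exists_lift (fun l : {l // l ≠ j} => f l.1)
          (fun l => gen (fun l : {l // l ≠ j} => f l.1) l + (if l = i then algebraMap R B (v i.1) else 0)) fun l => by
            refine hφi ?_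
            rw [← Polynomial.aeval_algHom_apply, map_add, hφ, apply_ite φ, AlgHom.commutes, map_zero,
              show (if l = i then algebraMap R (Sys f) (v i.1) else 0) =
                if l.1 = i.1 then algebraMap R (Sys f) (v i.1) else 0 by simp only [Subtype.coe_inj],
              ← hT i.1 hi, Polynomial.aeval_algHom_apply, aeval_gen, map_zero]
        exact ⟨T', fun _ => hT'⟩
      · exact ⟨AlgHom.id R _, fun h => absurd h hi⟩
    choose T' hT' using hT'
    let J' : Finset {i // i ≠ j} := Finset.univ.filter fun i => i.1 ∈ J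
    have hJ' : J'.card = m := by
      have h : J'.map (Function.Embedding.subtype _) = J.erase j := by
        ext i; simp [J', and_comm]
      have h' := congrArg Finset.card h
      rw [Finset.card_map, Finset.card_erase_of_mem hj, hJ] at h'
      omega
    have hb := ih (fun i : {i // i ≠ j} => f i.1) (fun i => hf _) (fun i => hfd _) (fun i => v i.1) J' hJ'
      (fun i hi => hv _ (Finset.mem_filter.mp hi).2) T' (fun i hi => hT' i (Finset.mem_filter.mp hi).2) b fun i hi => by
        have hiJ := (Finset.mem_filter.mp hi).2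
        refine hφi ?_
        have h : φ.comp (T' i) = (T i.1).comp φ := algHom_ext _ fun l => by
          rw [AlgHom.comp_apply, AlgHom.comp_apply, hT' i hiJ, map_add, hφ, hT i.1 hiJ, apply_ite φ,
            AlgHom.commutes, map_zero]
          simp only [Subtype.coe_inj]
        exact (AlgHom.congr_fun h b).trans (hw i.1 hiJ)
    have hmap : φ b ∈ (Algebra.adjoin R (gen (fun i : {i // i ≠ j} => f i.1) '' (↑J')ᶜ)).map φ := ⟨b, hb, rfl⟩
    rw [AlgHom.map_adjoin, Set.image_image] at hmap
    refine Algebra.adjoin_mono ?_ hmap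
    rintro _ ⟨i, hi, rfl⟩
    exact ⟨i.1, fun h => hi (Finset.mem_filter.mpr ⟨Finset.mem_univ _, h⟩), (hφ i).symm⟩

section Hs

variable {n : ℕ} (a x : Fin n → R) (μ : R) (s : Fin n → ZMod p) [CharP R p]

/-- The support of `s`. -/
abbrev hsS : Finset (Fin n) := Finset.univ.filter fun i => s i ≠ 0

/-- The coefficients of `z`. -/
noncomputable abbrev hsα (i : Fin n) : R :=
  ZMod.castHom (dvd_refl p) R (s i) * ∏ j ∈ (hsS p s).erase i, a j

/-- The invariant element. -/
noncomputable abbrev hsz : asA p (fun i => μ * a i) x :=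
  ∑ i ∈ hsS p s, algebraMap R _ (hsα p a s i) * au p (fun i => μ * a i) x i

/-- Its equation. -/
noncomputable abbrev hsf : Polynomial R :=
  Polynomial.X ^ p - Polynomial.C ((μ * ∏ i ∈ hsS p s, a i) ^ (p - 1)) * Polynomial.X -
    Polynomial.C (∑ i ∈ hsS p s, ZMod.castHom (dvd_refl p) R (s i) * (∏ j ∈ (hsS p s).erase i, a j) ^ p * x i)

theorem aeval_hsz [Nontrivial R] : Polynomial.aeval (hsz p a x μ s) (hsf p a x μ s) = 0 := by
  haveI := charP_asA p (fun i => μ * a i) x
  simp only [hsf, map_sub, map_pow, map_mul, Polynomial.aeval_X, Polynomial.aeval_C]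
  rw [hsz, sum_pow_char, Finset.mul_sum, map_sum, ← Finset.sum_sub_distrib, ← Finset.sum_sub_distrib]
  refine Finset.sum_eq_zero fun i hi => ?_
  have h := aeval_gen (asF p (fun i => (μ * a i) ^ (p - 1)) x) i
  rw [aeval_asF] at h
  rw [← Finset.mul_prod_erase _ _ hi, hsα]
  simp only [map_mul, map_pow, mul_pow] at h ⊢
  rw [show algebraMap R (asA p (fun i => μ * a i) x) (ZMod.castHom (dvd_refl p) R (s i)) ^ p =
    algebraMap R _ (ZMod.castHom (dvd_refl p) R (s i)) by rw [← map_pow, cast_pow]]
  generalize algebraMap R (asA p (fun i => μ * a i) x) (∏ j ∈ (hsS p s).erase i, a j) = E at h ⊢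
  have hE : E ^ p = E ^ (p - 1) * E := by rw [← pow_succ, Nat.sub_add_cancel hp.out.one_le]
  rw [hE]
  linear_combination (algebraMap R (asA p (fun i => μ * a i) x) (ZMod.castHom (dvd_refl p) R (s i)) *
    (E ^ (p - 1) * E)) * h

omit hp in
theorem prod_translation {A : Type*} [CommRing A] [Algebra R A] (u : Fin n → A) (g : Fin n → (A ≃ₐ[R] A))
    (w : Fin n → R) (hg : ∀ i j, g i (u j) = u j + (if i = j then algebraMap R A (w i) else 0)) (j : Fin n) :
    (List.ofFn g).prod (u j) = u j + algebraMap R A (w j) := by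
  have key : ∀ L : List (Fin n), (L.map g).prod (u j) =
      u j + (L.map fun i => if i = j then algebraMap R A (w i) else 0).sum := by
    intro L
    induction L with
    | nil => simp
    | cons i L ih =>
      rw [List.map_cons, List.prod_cons, AlgEquiv.mul_apply, ih, map_add, hg, List.map_cons, List.sum_cons,
        map_list_sum, List.map_map, add_assoc]
      congr 3
      refine List.map_congr_left fun l _ => ?_
      simp only [Function.comp_apply, apply_ite (g i), AlgEquiv.commutes, map_zero]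
  rw [List.ofFn_eq_map, key, ← List.ofFn_eq_map, List.sum_ofFn, Finset.sum_ite_eq' Finset.univ j,
    if_pos (Finset.mem_univ j)]

theorem prod_pow_translation {A : Type*} [CommRing A] [Algebra R A] (u : Fin n → A) (σ : Fin n → (A ≃ₐ[R] A))
    (w : Fin n → R) (hσ : ∀ i j, σ i (u j) = u j + (if i = j then algebraMap R A (w i) else 0))
    (ν : Fin n → ZMod p) (j : Fin n) :
    (List.ofFn fun i => σ i ^ (ν i).val).prod (u j) =
      u j + algebraMap R A (ZMod.castHom (dvd_refl p) R (ν j) * w j) := by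
  refine prod_translation u _ (fun i => ZMod.castHom (dvd_refl p) R (ν i) * w i) (fun i l => ?_) j
  have key : ∀ m : ℕ, (σ i ^ m) (u l) = u l + (if i = l then algebraMap R A ((m : R) * w i) else 0) := by
    intro m
    induction m with
    | zero => simp
    | succ m ih =>
      rw [pow_succ', AlgEquiv.mul_apply, ih, map_add, hσ, apply_ite (σ i), AlgEquiv.commutes, map_zero]
      split_ifs <;> simp [add_mul]; ring
  rw [key, show ((ν i).val : R) = ZMod.castHom (dvd_refl p) R (ν i) by
    rw [← map_natCast (ZMod.castHom (dvd_refl p) R), ZMod.natCast_val, ZMod.cast_id]]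

theorem prod_fix_hsz (σ : Fin n → (asA p (fun i => μ * a i) x ≃ₐ[R] asA p (fun i => μ * a i) x))
    (hσ : ∀ i j, σ i (au p (fun i => μ * a i) x j) =
      au p (fun i => μ * a i) x j + (if i = j then algebraMap R _ (μ * a i) else 0))
    (ν : Fin n → ZMod p) (hν : ∑ i, ν i * s i = 0) :
    (List.ofFn fun i => σ i ^ (ν i).val).prod (hsz p a x μ s) = hsz p a x μ s := by
  rw [hsz, map_sum]
  simp only [map_mul (List.ofFn fun i => σ i ^ (ν i).val).prod, AlgEquiv.commutes,
    prod_pow_translation p _ σ (fun i => μ * a i) hσ ν, mul_add, Finset.sum_add_distrib, ← map_mul, ← map_sum]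
  rw [add_eq_left, show (∑ i ∈ hsS p s, hsα p a s i * (ZMod.castHom (dvd_refl p) R (ν i) * (μ * a i))) =
    ZMod.castHom (dvd_refl p) R (∑ i ∈ hsS p s, ν i * s i) * (μ * ∏ i ∈ hsS p s, a i) by
      rw [map_sum, Finset.sum_mul]
      refine Finset.sum_congr rfl fun i hi => ?_
      rw [← Finset.mul_prod_erase _ _ hi, hsα, map_mul]; ring,
    show ∑ i ∈ hsS p s, ν i * s i = ∑ i, ν i * s i from
      Finset.sum_filter_of_ne fun i _ h h0 => h (by rw [h0, mul_zero]), hν, map_zero, zero_mul, map_zero]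

variable [IsDomain R] [UniqueFactorizationMonoid R]

theorem exists_big (i₁ : Fin n) (h₁ : s i₁ ≠ 0) (ha : ∀ i, a i ≠ 0) :
    ∃ (c' x' : Fin n → R) (Φ : Sys (asF p c' x') →ₐ[R] asA p (fun i => μ * a i) x),
      Φ (gen _ i₁) = hsz p a x μ s ∧ (∀ i, i ≠ i₁ → Φ (gen _ i) = au p (fun i => μ * a i) x i) ∧
      Function.Injective Φ ∧ ∀ y, ∃ N : ℕ, algebraMap R _ (hsα p a s i₁) ^ N * y ∈ Set.range Φ := by
  obtain ⟨Φ, hΦ⟩ := exists_lift (asF p (fun i => (if i = i₁ then μ * ∏ l ∈ hsS p s, a l else μ * a i) ^ (p - 1))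
    (fun i => if i = i₁ then
      ∑ l ∈ hsS p s, ZMod.castHom (dvd_refl p) R (s l) * (∏ j ∈ (hsS p s).erase l, a j) ^ p * x l
    else x i)) (fun i => if i = i₁ then hsz p a x μ s else au p (fun i => μ * a i) x i) fun i => by
      by_cases h : i = i₁
      · rw [if_pos h]
        have := aeval_hsz p a x μ s
        simp only [asF, if_pos h]
        exact this
      · rw [if_neg h, aeval_asF]
        simp only [if_neg h]
        exact (aeval_asF p _ _ i _).symm.trans (aeval_gen (asF p (fun i => (μ * a i) ^ (p - 1)) x) i)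
  have hc : hsα p a s i₁ ≠ 0 := mul_ne_zero
    (fun h => h₁ ((ZMod.castHom (dvd_refl p) R).injective (h.trans (map_zero _).symm)))
    (Finset.prod_ne_zero_iff.mpr fun j _ => ha j)
  have hz : Φ (gen _ i₁) = hsz p a x μ s := by rw [hΦ, if_pos rfl]
  have hu : ∀ i, i ≠ i₁ → Φ (gen _ i) = au p (fun i => μ * a i) x i := fun i hi => by rw [hΦ, if_neg hi]
  have hrange : ∀ y, ∃ N : ℕ, algebraMap R _ (hsα p a s i₁) ^ N * y ∈ Set.range Φ := by
    intro y
    induction adjoin_gen _ y using Algebra.adjoin_induction with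
    | mem y hy =>
      obtain ⟨i, rfl⟩ := hy
      by_cases hi : i = i₁
      · subst hi
        refine ⟨1, gen _ i - ∑ l ∈ (hsS p s).erase i, algebraMap R _ (hsα p a s l) * gen _ l, ?_⟩
        have hmem : i ∈ hsS p s := Finset.mem_filter.mpr ⟨Finset.mem_univ i, h₁⟩
        rw [map_sub, map_sum, hz, pow_one, Finset.sum_congr rfl (fun l hl => by
          rw [map_mul, AlgHom.commutes, hu l (Finset.ne_of_mem_erase hl)]), hsz, ← Finset.add_sum_erase _ _ hmem,
          add_sub_cancel_right]
      · exact ⟨0, gen _ i, by rw [hu i hi, pow_zero, one_mul]⟩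
    | algebraMap r => exact ⟨0, algebraMap R _ r, by rw [AlgHom.commutes, pow_zero, one_mul]⟩
    | add q q' _ _ hq hq' =>
      obtain ⟨N, t, ht⟩ := hq; obtain ⟨N', t', ht'⟩ := hq'
      exact ⟨N + N', algebraMap R _ (hsα p a s i₁) ^ N' * t + algebraMap R _ (hsα p a s i₁) ^ N * t', by
        simp only [map_add, map_mul, map_pow, AlgHom.commutes, ht, ht', pow_add]; ring⟩
    | mul q q' _ _ hq hq' =>
      obtain ⟨N, t, ht⟩ := hq; obtain ⟨N', t', ht'⟩ := hq'
      exact ⟨N + N', t * t', by simp only [map_mul, ht, ht', pow_add]; ring⟩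
  refine ⟨_, _, Φ, hz, hu, ?_, hrange⟩
  obtain ⟨b1, b2, b3⟩ := free_as p (fun i => (if i = i₁ then μ * ∏ l ∈ hsS p s, a l else μ * a i) ^ (p - 1))
    (fun i => if i = i₁ then
      ∑ l ∈ hsS p s, ZMod.castHom (dvd_refl p) R (s l) * (∏ j ∈ (hsS p s).erase l, a j) ^ p * x l
    else x i)
  obtain ⟨a1, a2, a3⟩ := free_as p (fun i => (μ * a i) ^ (p - 1)) x
  refine injective_of_almost_surjective (R := R) (b3.trans a3.symm) Φ.toLinearMap fun y => ?_
  obtain ⟨N, w, hw⟩ := hrange y
  refine ⟨hsα p a s i₁ ^ N, pow_ne_zero _ hc, w, hw.trans ?_⟩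
  rw [← map_pow, ← smul_eq_mul, algebraMap_smul]

theorem dvd_coeff_of_dvd (hcop : ∀ i j, i ≠ j → IsRelPrime (a i) (a j)) {q : R} (hq : Prime q) {m : Fin n}
    (hm : s m ≠ 0) (hqm : q ∣ a m) (P : Polynomial R) (hP : P.natDegree < p) (t : asA p (fun i => μ * a i) x)
    (h : Polynomial.aeval (hsz p a x μ s) P = q • t) : ∀ k, q ∣ P.coeff k := by
  haveI : (Ideal.span {q}).IsPrime := (Ideal.span_singleton_prime hq.ne_zero).mpr hq
  let R' := R ⧸ Ideal.span {q}
  have hsurj : Function.Surjective (algebraMap R R') := Ideal.Quotient.mk_surjective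
  have hker : ∀ r : R, algebraMap R R' r = 0 ↔ q ∣ r := fun r =>
    Ideal.Quotient.eq_zero_iff_mem.trans Ideal.mem_span_singleton
  haveI : CharP R' p := (CharP.charP_iff_prime_eq_zero hp.out).mpr (by
    rw [← map_natCast (algebraMap R R'), CharP.cast_eq_zero, map_zero])
  let F := asF p (fun i => algebraMap R R' ((μ * a i) ^ (p - 1))) (fun i => algebraMap R R' (x i))
  have hmap : ∀ r : R, algebraMap R (Sys F) r = algebraMap R' (Sys F) (algebraMap R R' r) :=
    IsScalarTower.algebraMap_apply R R' (Sys F)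
  obtain ⟨π, hπ⟩ := exists_lift (asF p (fun i => (μ * a i) ^ (p - 1)) x) (gen F) fun i => by
    have := aeval_gen F i
    rw [aeval_asF] at this ⊢
    exact this
  have hz : π (hsz p a x μ s) = algebraMap R' (Sys F) (algebraMap R R' (hsα p a s m)) * gen F m := by
    rw [hsz, map_sum, Finset.sum_eq_single m]
    · rw [map_mul, AlgHom.commutes, hmap, hπ]
    · intro i _ hi
      rw [map_mul, AlgHom.commutes, hmap, (hker _).mpr, map_zero, zero_mul]
      exact Dvd.dvd.mul_left (hqm.trans (Finset.dvd_prod_of_mem _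
        (Finset.mem_erase.mpr ⟨Ne.symm hi, Finset.mem_filter.mpr ⟨Finset.mem_univ m, hm⟩⟩))) _
    · exact fun hn => absurd (Finset.mem_filter.mpr ⟨Finset.mem_univ m, hm⟩) hn
  have hγ : algebraMap R R' (hsα p a s m) ≠ 0 := fun h0 => by
    rcases hq.dvd_or_dvd ((hker _).mp h0) with h1 | h1
    · exact hq.not_unit (isUnit_of_dvd_unit h1 ((isUnit_iff_ne_zero.mpr hm).map (ZMod.castHom (dvd_refl p) R)))
    · obtain ⟨l, hl, hql⟩ := hq.exists_mem_finset_dvd h1
      exact hq.not_unit (hcop m l (Finset.ne_of_mem_erase hl).symm hqm hql)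
  generalize algebraMap R R' (hsα p a s m) = γ at hz hγ
  let Q : Polynomial R' := (P.map (algebraMap R R')).comp (Polynomial.C γ * Polynomial.X)
  have hev : Polynomial.aeval (gen F m) Q = 0 := by
    have h1 := congrArg π h
    rw [← Polynomial.aeval_algHom_apply, hz, map_smul, ← algebraMap_smul (Sys F) q, smul_eq_mul, hmap, (hker q).mpr dvd_rfl, map_zero,
      zero_mul] at h1
    rw [Polynomial.aeval_comp, map_mul, Polynomial.aeval_C, Polynomial.aeval_X, Polynomial.aeval_def,
      Polynomial.eval₂_map]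
    exact h1
  have hQ : Q = 0 := by
    refine aeval_gen_eq_zero F (fun i => (monic_asF p _ _ i).1)
      (fun i => by rw [(monic_asF p _ _ i).2]; exact hp.out.one_le) m ?_ hev
    rw [(monic_asF p _ _ m).2, Polynomial.natDegree_comp, Polynomial.natDegree_C_mul_X γ hγ, mul_one]
    exact Polynomial.natDegree_map_le.trans_lt hP
  intro k
  have := congrArg (fun Q => Polynomial.coeff Q k) hQ
  simp only [Q, Polynomial.comp_C_mul_X_coeff, Polynomial.coeff_map, Polynomial.coeff_zero] at this
  exact (hker _).mp ((mul_eq_zero.mp this).resolve_right (pow_ne_zero k hγ))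

theorem monic_hsf : (hsf p a x μ s).Monic ∧ (hsf p a x μ s).natDegree = p := by
  refine monic_asF p (fun _ : Fin 1 => (μ * ∏ i ∈ hsS p s, a i) ^ (p - 1))
    (fun _ : Fin 1 => ∑ i ∈ hsS p s, ZMod.castHom (dvd_refl p) R (s i) * (∏ j ∈ (hsS p s).erase i, a j) ^ p * x i) 0

theorem exists_small {w : asA p (fun i => μ * a i) x}
    (hw : w ∈ (Polynomial.aeval (hsz p a x μ s) : Polynomial R →ₐ[R] _).range) :
    ∃ P : Polynomial R, P.natDegree < p ∧ Polynomial.aeval (hsz p a x μ s) P = w := by
  obtain ⟨P, rfl⟩ := hw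
  obtain ⟨hm, hd⟩ := monic_hsf p a x μ s
  refine ⟨P %ₘ hsf p a x μ s, ?_, ?_⟩
  · exact (Polynomial.natDegree_modByMonic_lt P hm fun h => by
      rw [h, Polynomial.natDegree_one] at hd; exact hp.out.ne_zero hd.symm).trans_eq hd
  · conv_rhs => rw [← Polynomial.modByMonic_add_div P (hsf p a x μ s)]
    exact ((congrArg (fun y => _ + y) ((map_mul _ _ _).trans (by rw [aeval_hsz, zero_mul]))).trans (add_zero _)).symm.trans
      (map_add _ _ _).symm

theorem hs_invariants (hcop : ∀ i j, i ≠ j → IsRelPrime (a i) (a j)) (ha : ∀ i, a i ≠ 0) (hμ : μ ≠ 0) (hs : s ≠ 0)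
    (σ : Fin n → (asA p (fun i => μ * a i) x ≃ₐ[R] asA p (fun i => μ * a i) x))
    (hσ : ∀ i j, σ i (au p (fun i => μ * a i) x j) =
      au p (fun i => μ * a i) x j + (if i = j then algebraMap R _ (μ * a i) else 0)) :
    (∀ t, (∀ ν : Fin n → ZMod p, ∑ i, ν i * s i = 0 → (List.ofFn fun i => σ i ^ (ν i).val).prod t = t) ↔
        t ∈ (Polynomial.aeval (hsz p a x μ s) : Polynomial R →ₐ[R] _).range) ∧
      RingHom.ker (Polynomial.aeval (hsz p a x μ s) : Polynomial R →ₐ[R] _) = Ideal.span {hsf p a x μ s} := by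
  obtain ⟨i₁, h₁⟩ := Function.ne_iff.mp hs
  obtain ⟨c', x', Φ, hz, hu, hinj, hrange⟩ := exists_big p a x μ s i₁ h₁ ha
  obtain ⟨hfm, hfd⟩ := monic_hsf p a x μ s
  let F := asF p c' x'
  have hFm : ∀ i, (F i).Monic ∧ (F i).natDegree = p := fun i => monic_asF p _ _ i
  have hsmall : ∀ P : Polynomial R, P.natDegree < p → Polynomial.aeval (hsz p a x μ s) P = 0 → P = 0 :=
    fun P hP h => by
    rw [← hz, Polynomial.aeval_algHom_apply, map_eq_zero_iff Φ hinj] at h
    exact aeval_gen_eq_zero F (fun i => (hFm i).1) (fun i => by rw [(hFm i).2]; exact hp.out.one_le) i₁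
      (by rwa [(hFm i₁).2]) h
  refine ⟨fun t => ⟨fun ht => ?_, ?_⟩, ?_⟩
  · obtain ⟨N, w, hw⟩ := hrange t
    -- the translations
    have htr : ∀ j, ∃ T : Sys F →ₐ[R] Sys F, j ≠ i₁ →
        (∀ i, T (gen F i) = gen F i + (if i = j then algebraMap R _ (μ * a j) else 0)) ∧ T w = w := by
      intro j
      by_cases hj : j = i₁
      · exact ⟨AlgHom.id R _, fun h => absurd hj h⟩
      let ν : Fin n → ZMod p := Pi.single j 1 - Pi.single i₁ (s j / s i₁)
      have hν : ∑ i, ν i * s i = 0 := by
        simp [ν, sub_mul, Pi.single_apply, Finset.sum_sub_distrib, div_mul_cancel₀ _ h₁]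
      obtain ⟨T, hT⟩ := exists_lift F (fun i => gen F i + (if i = j then algebraMap R _ (μ * a j) else 0)) fun i => by
        refine hinj ?_
        by_cases hij : i = j
        · subst hij
          rw [← Polynomial.aeval_algHom_apply, if_pos rfl, map_add, hu i hj, AlgHom.commutes, map_zero]
          have h1 := congrArg (σ i) (congrArg Φ (aeval_gen F i))
          rw [map_zero, map_zero, ← Polynomial.aeval_algHom_apply, ← Polynomial.aeval_algHom_apply, hu i hj, hσ,
            if_pos rfl] at h1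
          exact h1
        · rw [if_neg hij, add_zero, aeval_gen]
      refine ⟨T, fun _ => ⟨hT, hinj ?_⟩⟩
      have hcomm : ((List.ofFn fun i => σ i ^ (ν i).val).prod).toAlgHom.comp Φ = Φ.comp T := algHom_ext F fun i => by
        rw [AlgHom.comp_apply, AlgHom.comp_apply, hT, map_add]
        by_cases hi : i = i₁
        · subst hi
          rw [hz, if_neg (Ne.symm hj), map_zero, add_zero]
          exact prod_fix_hsz p a x μ s σ hσ ν hν
        · rw [hu i hi]
          refine (prod_pow_translation p _ σ (fun i => μ * a i) hσ ν i).trans ?_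
          congr 1
          simp only [ν, Pi.sub_apply, Pi.single_apply, if_neg hi, sub_zero]
          split_ifs with hij
          · subst hij; rw [map_one, one_mul, AlgHom.commutes]
          · rw [map_zero, zero_mul, map_zero, map_zero]
      refine (AlgHom.congr_fun hcomm w).symm.trans ?_
      show (List.ofFn fun i => σ i ^ (ν i).val).prod (Φ w) = Φ w
      rw [hw, map_mul, map_pow, AlgEquiv.commutes, ht ν hν]
    choose T hT using htr
    have hmem := mem_adjoin_of_translations p _ F (fun i => (hFm i).1) (fun i => (hFm i).2) (fun j => μ * a j)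
      (Finset.univ.erase i₁) rfl (fun j _ => mul_ne_zero hμ (ha j)) T
      (fun j hj => (hT j (Finset.ne_of_mem_erase hj)).1) w (fun j hj => (hT j (Finset.ne_of_mem_erase hj)).2)
    have hw' : algebraMap R _ (hsα p a s i₁ ^ N) * t ∈
        (Polynomial.aeval (hsz p a x μ s) : Polynomial R →ₐ[R] _).range := by
      rw [← Algebra.adjoin_singleton_eq_range_aeval, map_pow, ← hw, ← hz,
        ← Set.image_singleton (f := Φ), ← AlgHom.map_adjoin]
      refine ⟨w, Algebra.adjoin_mono ?_ hmem, rfl⟩
      rintro _ ⟨i, hi, rfl⟩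
      simp only [Finset.coe_erase, Finset.coe_univ, Set.mem_compl_iff, Set.mem_sdiff, Set.mem_univ,
        Set.mem_singleton_iff, true_and, not_not] at hi
      rw [hi]; rfl
    clear hw hmem hT
    -- strip the denominator
    have hαi : hsα p a s i₁ ≠ 0 := mul_ne_zero
      (fun h => h₁ ((ZMod.castHom (dvd_refl p) R).injective (h.trans (map_zero _).symm)))
      (Finset.prod_ne_zero_iff.mpr fun j _ => ha j)
    haveI := (free_as p (fun i => (μ * a i) ^ (p - 1)) x).1
    have key : ∀ D : R, D ≠ 0 → (∀ q, Prime q → q ∣ D → q ∣ hsα p a s i₁) → ∀ y : asA p (fun i => μ * a i) x,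
        algebraMap R _ D * y ∈ (Polynomial.aeval (hsz p a x μ s) : Polynomial R →ₐ[R] _).range →
        y ∈ (Polynomial.aeval (hsz p a x μ s) : Polynomial R →ₐ[R] _).range := by
      intro D
      induction D using UniqueFactorizationMonoid.induction_on_prime with
      | h₁ => exact fun h => absurd rfl h
      | h₂ u hu' =>
        intro _ _ y hy
        have := mul_mem (Subalgebra.algebraMap_mem
          (Polynomial.aeval (hsz p a x μ s) : Polynomial R →ₐ[R] _).range (↑hu'.unit⁻¹ : R)) hy
        rwa [← mul_assoc, ← map_mul, hu'.val_inv_mul, map_one, one_mul] at this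
      | h₃ D q hD hq ih =>
        intro _ hdiv y hy
        refine ih hD (fun r hr hrD => hdiv r hr (dvd_mul_of_dvd_right hrD q)) y ?_
        rw [map_mul, mul_assoc, ← Algebra.smul_def] at hy
        obtain ⟨P, hP, hPy⟩ := exists_small p a x μ s hy
        obtain ⟨m, hm, hqm⟩ : ∃ m, s m ≠ 0 ∧ q ∣ a m := by
          rcases hq.dvd_or_dvd (hdiv q hq (dvd_mul_right q D)) with h1 | h1
          · exact absurd (isUnit_of_dvd_unit h1 ((isUnit_iff_ne_zero.mpr h₁).map (ZMod.castHom (dvd_refl p) R))) hq.not_unit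
          · obtain ⟨l, hl, hql⟩ := hq.exists_mem_finset_dvd h1
            exact ⟨l, (Finset.mem_filter.mp (Finset.mem_of_mem_erase hl)).2, hql⟩
        choose c hc using dvd_coeff_of_dvd p a x μ s hcop hq hm hqm P hP _ hPy
        refine ⟨∑ k ∈ Finset.range p, Polynomial.monomial k (c k), smul_right_injective _ hq.ne_zero ?_⟩
        show q • Polynomial.aeval (hsz p a x μ s) (∑ k ∈ Finset.range p, Polynomial.monomial k (c k)) = q • (algebraMap R _ D * y)
        rw [← hPy, ← map_smul]
        congr 1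
        conv_rhs => rw [P.as_sum_range' p hP]
        simp only [Finset.smul_sum, Polynomial.smul_monomial, smul_eq_mul, ← hc]
    exact key (hsα p a s i₁ ^ N) (pow_ne_zero _ hαi) (fun q hq h => hq.dvd_of_dvd_pow h) t hw'
  · rintro ⟨P, rfl⟩ ν hν
    show (List.ofFn fun i => σ i ^ (ν i).val).prod (Polynomial.aeval _ P) = Polynomial.aeval _ P
    rw [← Polynomial.aeval_algHom_apply, prod_fix_hsz p a x μ s σ hσ ν hν]
  · refine le_antisymm (fun P hP => ?_) ((Ideal.span_singleton_le_iff_mem _).mpr (aeval_hsz p a x μ s))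
    rw [Ideal.mem_span_singleton, ← Polynomial.modByMonic_eq_zero_iff_dvd hfm]
    refine hsmall _ ((Polynomial.natDegree_modByMonic_lt P hfm fun h => by
      rw [h, Polynomial.natDegree_one] at hfd; exact hp.out.ne_zero hfd.symm).trans_eq hfd) ?_
    rw [RingHom.mem_ker, ← Polynomial.modByMonic_add_div P (hsf p a x μ s), map_add, map_mul, aeval_hsz, zero_mul,
      add_zero] at hP
    exact hP

end Hs

end Groth.Agent.H23Wild
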