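import Groth.Agent.H23Wild.Length
import Groth.Agent.H8Props.MiracleFlat

/-! # Complete regular rings over their parameter subrings -/

set_option autoImplicit false

universe u

namespace Groth.Agent.H23Wild

open IsLocalRing

theorem exists_finset_span_mod_pow {k A : Type u} [Field k] [CommRing A] [IsLocalRing A] [IsNoetherianRing A]
    (C : k →+* A) (hres : ∀ a : A, ∃ c, a - C c ∈ maximalIdeal A) (N : ℕ) :
    ∃ s : Finset A, ∀ a : A, ∃ c : A → k, a - ∑ t ∈ s, C (c t) * t ∈ maximalIdeal A ^ N := by
  classical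
  induction N with
  | zero => exact ⟨∅, fun a => ⟨0, by simp⟩⟩
  | succ N ih =>
    obtain ⟨s, hs⟩ := ih
    obtain ⟨T, hT⟩ := IsNoetherian.noetherian (maximalIdeal A ^ N)
    refine ⟨s ∪ T, fun a => ?_⟩
    obtain ⟨c, hc⟩ := hs a
    rw [← hT, Submodule.mem_span_finset] at hc
    obtain ⟨d, -, hd⟩ := hc
    choose e he using fun t => hres (d t)
    refine ⟨fun t => (if t ∈ s then c t else 0) + (if t ∈ T then e t else 0), ?_⟩
    have h1 : ∀ (U V : Finset A) (g : A → k), U ⊆ V →
        ∑ t ∈ V, C (if t ∈ U then g t else 0) * t = ∑ t ∈ U, C (g t) * t := by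
      intro U V g hUV
      rw [← Finset.sum_subset hUV (fun t _ ht => by simp [ht])]
      exact Finset.sum_congr rfl fun t ht => by simp [ht]
    simp only [map_add, add_mul, Finset.sum_add_distrib]
    rw [h1 s (s ∪ T) c Finset.subset_union_left, h1 T (s ∪ T) e Finset.subset_union_right, ← sub_sub, ← hd,
      ← Finset.sum_sub_distrib]
    refine Submodule.sum_mem _ fun t ht => ?_
    rw [smul_eq_mul, ← sub_mul, pow_succ']
    exact Ideal.mul_mem_mul (he t) (hT ▸ Submodule.subset_span ht)

theorem exists_param_basis {k A : Type u} [Field k] [CommRing A] [IsRegularLocalRing A]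
    [IsAdicComplete (maximalIdeal A) A] (n : ℕ) (hn : ringKrullDim A = n)
    (φ : MvPowerSeries (Fin n) k →+* A) (hres : ∀ a : A, ∃ c, a - φ (MvPowerSeries.C c) ∈ maximalIdeal A)
    (hrad : (Ideal.span (Set.range fun i => φ (MvPowerSeries.X i))).radical = maximalIdeal A) :
    ∃ (d : ℕ) (b : Fin d → A), (d : ℕ∞) = Module.length A (A ⧸ Ideal.span (Set.range fun i => φ (MvPowerSeries.X i))) ∧
      Function.Bijective (fun r : Fin d → MvPowerSeries (Fin n) k => ∑ i, φ (r i) * b i) := by
  classical
  let P := MvPowerSeries (Fin n) k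
  letI : Algebra P A := φ.toAlgebra
  haveI := H02CA.PS.isRegularLocalRing_fin (k := k) n
  have hm : maximalIdeal P = Ideal.span (Set.range MvPowerSeries.X) := H02CA.PS.maximalIdeal_eq_vars
  set x : Fin n → A := fun i => φ (MvPowerSeries.X i) with hx
  set J : Ideal A := Ideal.span (Set.range x) with hJ
  have hmap : (maximalIdeal P).map (algebraMap P A) = J := by
    rw [hm, Ideal.map_span, ← Set.range_comp]; rfl
  have hJm : J ≤ maximalIdeal A := hrad ▸ Ideal.le_radical
  haveI : IsLocalHom (algebraMap P A) := ⟨fun r hr => by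
    by_contra h
    exact (hJm (hmap.le (Ideal.mem_map_of_mem _ h))) hr⟩
  haveI : IsPrecomplete (maximalIdeal P) P := by
    rw [hm]
    exact (inferInstance : IsAdicComplete (Ideal.span (Set.range MvPowerSeries.X) : Ideal (MvPowerSeries (Fin n) k)) _).toIsPrecomplete
  haveI : IsHausdorff (maximalIdeal P) A := ⟨fun a ha => IsHausdorff.haus (I := maximalIdeal A) inferInstance a fun N => by
    have h := SModEq.zero.mp (ha N)
    rw [SModEq.zero, smul_eq_mul, Ideal.mul_top]
    rw [Ideal.smul_top_eq_map, Submodule.restrictScalars_mem, Ideal.map_pow, hmap] at h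
    exact Ideal.pow_right_mono hJm N h⟩
  obtain ⟨N, hN⟩ := Ideal.exists_radical_pow_le_of_fg J (IsNoetherian.noetherian _)
  rw [hrad] at hN
  obtain ⟨s, hs⟩ := exists_finset_span_mod_pow (φ.comp (MvPowerSeries.C : k →+* P)) hres N
  haveI : Module.Finite P (A ⧸ (maximalIdeal P • ⊤ : Submodule P A)) := by
    refine ⟨⟨s.image (Submodule.mkQ _), ?_⟩⟩
    rw [eq_top_iff, Finset.coe_image]
    intro y _
    obtain ⟨a, rfl⟩ := Submodule.mkQ_surjective _ y
    obtain ⟨c, hc⟩ := hs a
    have h0 : Submodule.mkQ (maximalIdeal P • ⊤ : Submodule P A) a =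
        Submodule.mkQ _ (∑ t ∈ s, (MvPowerSeries.C (c t) : P) • t) := by
      rw [← sub_eq_zero, ← map_sub, Submodule.mkQ_apply, Submodule.Quotient.mk_eq_zero, Ideal.smul_top_eq_map,
        Submodule.restrictScalars_mem, hmap]
      exact hN hc
    rw [h0, map_sum]
    refine Submodule.sum_mem _ fun t ht => ?_
    rw [map_smul]
    exact Submodule.smul_mem _ _ (Submodule.subset_span ⟨t, ht, rfl⟩)
  haveI : Module.Finite P A := H24Adic.finite_of_finite_quotient (maximalIdeal P)
  haveI := H4Depth.isCohenMacaulayLocalRing_of_regular A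
  have hw : RingTheory.Sequence.IsWeaklyRegular A (List.ofFn x) := by
    refine H8Props.MiracleFlat.isWeaklyRegular_of_supportDim (List.ofFn x) A ?_
      (‹LocCoh.IsCohenMacaulayLocalRing A›).supportDim_eq_depth ?_
    · intro r hr
      obtain ⟨i, rfl⟩ := List.mem_ofFn.mp hr
      exact hJm (Ideal.subset_span ⟨i, rfl⟩)
    · have hl : Ideal.ofList (List.ofFn x) = J := by
        unfold Ideal.ofList
        rw [hJ]
        congr 1
        ext a
        simp [List.mem_ofFn]
      rw [Module.supportDim_eq_of_equiv (Submodule.quotEquivOfEq _ J (by rw [smul_eq_mul, Ideal.mul_top, hl])),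
        Module.supportDim_quotient_eq_ringKrullDim, Module.supportDim_self_eq_ringKrullDim, hn, List.length_ofFn]
      have h0 : ringKrullDim (A ⧸ J) ≤ (0 : WithBot ℕ∞) := by
        refine (Ring.krullDimLE_iff (n := 0)).mp (Ring.KrullDimLE.mk₀ fun Q hQ => ?_)
        have hQ' := Ideal.comap_isPrime (Ideal.Quotient.mk J) Q
        have hle : maximalIdeal A ≤ Q.comap (Ideal.Quotient.mk J) := by
          rw [← hrad]
          refine (Ideal.radical_mono ?_).trans hQ'.radical.le
          conv_lhs => rw [← Ideal.mk_ker (I := J)]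
          exact Ideal.comap_mono bot_le
        have hM : (Q.comap (Ideal.Quotient.mk J)).IsMaximal :=
          (maximalIdeal.isMaximal A).eq_of_le hQ'.ne_top hle ▸ maximalIdeal.isMaximal A
        rw [← Ideal.map_comap_of_surjective _ Ideal.Quotient.mk_surjective Q]
        exact Ideal.IsMaximal.map_of_surjective_of_ker_le Ideal.Quotient.mk_surjective (by
          conv_lhs => rw [RingHom.ker_eq_comap_bot]
          exact Ideal.comap_mono bot_le)
      refine (add_le_add_left h0 _).trans ?_
      rw [zero_add]
  have hwP : RingTheory.Sequence.IsWeaklyRegular A (List.ofFn (MvPowerSeries.X : Fin n → P)) := by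
    refine (RingTheory.Sequence.isWeaklyRegular_map_algebraMap_iff A A (List.ofFn MvPowerSeries.X)).mp ?_
    rw [List.map_ofFn]
    exact hw
  haveI : Module.Flat P A := by
    refine H7Flat.flat_of_injective (S := A) (M := A) ?_
    have h1 : Ideal.ofList (List.ofFn (MvPowerSeries.X : Fin n → P)) = maximalIdeal P := by
      rw [hm]
      unfold Ideal.ofList
      congr 1
      ext a
      simp [List.mem_ofFn]
    rw [← h1]
    exact H05EGA4.lTensor_ofList_injective _ hwP
  haveI : Module.Free P A := Module.free_of_flat_of_isLocalRing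
  let b := Module.finBasis P A
  refine ⟨Module.finrank P A, b, ?_, ?_⟩
  · have hres' : Function.Surjective (residue A ∘ algebraMap P A) := fun z => by
      obtain ⟨a, rfl⟩ := residue_surjective z
      obtain ⟨c, hc⟩ := hres a
      exact ⟨MvPowerSeries.C c, (Ideal.Quotient.eq.mpr hc).symm⟩
    have h := length_quotient_map P A hres' (maximalIdeal P)
    haveI : IsSimpleModule P (P ⧸ maximalIdeal P) :=
      isSimpleModule_iff_quot_maximal.mpr ⟨_, inferInstance, ⟨LinearEquiv.refl _ _⟩⟩
    rw [hmap, Module.length_eq_one P (P ⧸ maximalIdeal P), mul_one] at h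
    exact h.symm
  · have hb : (fun r : Fin (Module.finrank P A) → P => ∑ i, φ (r i) * b i) = fun r => b.equivFun.symm r := by
      funext r
      rw [Module.Basis.equivFun_symm_apply]
      rfl
    rw [hb]
    exact b.equivFun.symm.bijective

end Groth.Agent.H23Wild
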