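import Groth.Agent.H23Wild.EtaleLocus
import Groth.Agent.S15801
import Mathlib.RingTheory.MvPowerSeries.Expand

/-! # The invariant ring is not purely inseparable over the norm subring -/

set_option autoImplicit false

universe u v w

open IsLocalRing MvPowerSeries

namespace Groth.Agent.H23Wild.Insep

section PowerSeries

variable {n : ℕ} {k : Type v} [Field k]

theorem mem_span_pow_iff {i j : Fin n} {L : ℕ} {f : MvPowerSeries (Fin n) k} :
    f ∈ Ideal.span {(X i : MvPowerSeries (Fin n) k) ^ L, X j ^ L} ↔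
      ∀ m : Fin n →₀ ℕ, m i < L → m j < L → coeff m f = 0 := by
  classical
  constructor
  · intro h m hi hj
    obtain ⟨a, b, rfl⟩ := Ideal.mem_span_pair.mp h
    rw [map_add, X_pow_dvd_iff.mp (dvd_mul_left _ a) m hi, X_pow_dvd_iff.mp (dvd_mul_left _ b) m hj, add_zero]
  · intro h
    let f1 : MvPowerSeries (Fin n) k := fun m => if m i < L then 0 else coeff m f
    have hf1 : ∀ m, coeff m f1 = if m i < L then 0 else coeff m f := fun _ => rfl
    have h1 : (X i : MvPowerSeries (Fin n) k) ^ L ∣ f1 := X_pow_dvd_iff.mpr fun m hm => by rw [hf1, if_pos hm]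
    have h2 : (X j : MvPowerSeries (Fin n) k) ^ L ∣ f - f1 := X_pow_dvd_iff.mpr fun m hm => by
      rw [map_sub, hf1]
      split_ifs with hi
      · rw [h m hi hm, sub_zero]
      · rw [sub_self]
    obtain ⟨a, ha⟩ := h1
    obtain ⟨b, hb⟩ := h2
    exact Ideal.mem_span_pair.mpr ⟨a, b, by linear_combination (-1 : MvPowerSeries (Fin n) k) * ha - hb⟩

theorem coeff_smul_pow (p : ℕ) [Fact p.Prime] [CharP k p] (f : MvPowerSeries (Fin n) k) (m : Fin n →₀ ℕ) :
    coeff (p • m) (f ^ p) = coeff m f ^ p := by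
  rw [← map_frobenius_expand p (Fact.out : p.Prime).ne_zero, coeff_map, coeff_expand_smul, frobenius_def]

theorem mem_span_of_frobenius (p : ℕ) [Fact p.Prime] [CharP k p] {i j : Fin n} (hij : i ≠ j) {L : ℕ}
    {f : MvPowerSeries (Fin n) k}
    (h : f ^ p - (X i * X j) ^ (L * (p - 1)) * f ∈
      Ideal.span {(X i : MvPowerSeries (Fin n) k) ^ (L * p), X j ^ (L * p)}) :
    f ∈ Ideal.span {(X i : MvPowerSeries (Fin n) k) ^ L, X j ^ L} := by
  classical
  have hp := (Fact.out : p.Prime)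
  rw [mem_span_pow_iff] at h ⊢
  have key : ∀ N : ℕ, ∀ m : Fin n →₀ ℕ, m i = N → m i < L → m j < L → coeff m f = 0 := by
    intro N
    induction N using Nat.strong_induction_on with
    | _ N ih =>
      intro m hN hi hj
      have h0 := h (p • m) (by rw [Finsupp.smul_apply, smul_eq_mul, mul_comm L]; exact Nat.mul_lt_mul_of_pos_left hi hp.pos)
        (by rw [Finsupp.smul_apply, smul_eq_mul, mul_comm L]; exact Nat.mul_lt_mul_of_pos_left hj hp.pos)
      rw [map_sub, coeff_smul_pow, mul_pow, X_pow_eq, X_pow_eq, monomial_mul_monomial, one_mul, coeff_monomial_mul,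
        one_mul] at h0
      have hzero : (if Finsupp.single i (L * (p - 1)) + Finsupp.single j (L * (p - 1)) ≤ p • m then
          coeff (p • m - (Finsupp.single i (L * (p - 1)) + Finsupp.single j (L * (p - 1)))) f else 0) = 0 := by
        split_ifs with hle
        · obtain ⟨q, hq⟩ := Nat.exists_eq_add_of_le hp.one_le
          have hle_i := hle i
          have hle_j := hle j
          simp only [Finsupp.add_apply, Finsupp.single_eq_same, Finsupp.single_eq_of_ne hij,
            Finsupp.single_eq_of_ne hij.symm, add_zero, zero_add, Finsupp.smul_apply, smul_eq_mul] at hle_i hle_j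
          have hq' : p - 1 = q := by omega
          have hmi : q * m i < q * L := Nat.mul_lt_mul_of_pos_left hi (by have := hp.two_le; omega)
          have hmj : q * m j < q * L := Nat.mul_lt_mul_of_pos_left hj (by have := hp.two_le; omega)
          have e1 : p * m i = q * m i + m i := by rw [hq]; ring
          have e2 : p * m j = q * m j + m j := by rw [hq]; ring
          have e3 : L * (p - 1) = q * L := by rw [hq', mul_comm]
          refine ih _ ?_ _ rfl ?_ ?_ <;>
            simp only [Finsupp.tsub_apply, Finsupp.add_apply, Finsupp.single_eq_same, Finsupp.single_eq_of_ne hij,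
              Finsupp.single_eq_of_ne hij.symm, add_zero, zero_add, Finsupp.smul_apply, smul_eq_mul, e1, e2, e3] <;> omega
        · rfl
      rw [hzero, sub_zero] at h0
      exact pow_eq_zero_iff hp.ne_zero |>.mp h0
  exact fun m hi hj => key (m i) m rfl hi hj

theorem pow_dvd_of_mul_eq {i j : Fin n} (hij : i ≠ j) {L : ℕ} {r s : MvPowerSeries (Fin n) k}
    (h : r * X j ^ L = s * X i ^ L) : (X i : MvPowerSeries (Fin n) k) ^ L ∣ r := by
  classical
  refine X_pow_dvd_iff.mpr fun m hm => ?_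
  have h1 := X_pow_dvd_iff.mp (dvd_mul_left (X i ^ L) s) (Finsupp.single j L + m)
    (by rw [Finsupp.add_apply, Finsupp.single_eq_of_ne hij, zero_add]; exact hm)
  rw [← h, mul_comm, X_pow_eq, coeff_add_monomial_mul, one_mul] at h1
  exact h1

end PowerSeries

section Group

variable {A : Type u} [CommRing A] {G : Type w} [Group G] [MulSemiringAction G A]

theorem smul_sum_mul (σ : G) (a : A) (m : ℕ) :
    σ • (∑ j ∈ Finset.range m, (j : A) * (σ ^ j • a)) - ∑ j ∈ Finset.range m, (j : A) * (σ ^ j • a) =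
      (m : A) * (σ ^ m • a) - ∑ j ∈ Finset.range m, σ ^ (j + 1) • a := by
  induction m with
  | zero => simp
  | succ m ih =>
    rw [Finset.sum_range_succ, Finset.sum_range_succ, smul_add, smul_mul', ← mul_smul, ← pow_succ',
      show σ • (m : A) = (m : A) from map_natCast (MulSemiringAction.toRingHom G A σ) m, Nat.cast_succ]
    linear_combination ih

theorem exists_translate_of_trace [Fintype G] (p : ℕ) [Fact p.Prime] [CharP A p] (hcard : Fintype.card G = p)
    {σ : G} (hσ : σ ≠ 1) (a : A) : ∃ α : A, σ • α - α = ∑ g : G, g • a := by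
  classical
  refine ⟨-∑ j ∈ Finset.range p, (j : A) * (σ ^ j • a), ?_⟩
  have hgen : ∀ g : G, g ∈ Subgroup.zpowers σ := fun g => mem_zpowers_of_prime_card (by rw [Nat.card_eq_fintype_card, hcard]) hσ
  have hord : orderOf σ = p := by rw [orderOf_eq_card_of_forall_mem_zpowers hgen, Nat.card_eq_fintype_card, hcard]
  have hsum : ∑ g : G, g • a = ∑ j ∈ Finset.range p, σ ^ (j + 1) • a := by
    symm
    refine Finset.sum_bij (fun j _ => σ ^ (j + 1)) (fun _ _ => Finset.mem_univ _) (fun j hj j' hj' h => ?_) (fun g _ => ?_)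
      (fun _ _ => rfl)
    · rw [Finset.mem_range] at hj hj'
      have h' : σ ^ j = σ ^ j' := mul_right_cancel (by rwa [pow_succ, pow_succ] at h)
      exact pow_injOn_Iio_orderOf (Set.mem_Iio.mpr (by rwa [hord])) (Set.mem_Iio.mpr (by rwa [hord])) h'
    · obtain ⟨j, hj, hjg⟩ := (mem_powers_iff_mem_zpowers.mpr (hgen (g * σ⁻¹))).imp fun j hj => And.intro trivial hj
      refine ⟨j % p, Finset.mem_range.mpr (Nat.mod_lt _ (Fact.out : p.Prime).pos), ?_⟩
      rw [pow_succ, ← hord, pow_mod_orderOf]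
      exact (congrArg (· * σ) hjg).trans (inv_mul_cancel_right g σ)
  rw [smul_neg, hsum]
  have h := smul_sum_mul σ a p
  rw [CharP.cast_eq_zero, zero_mul, zero_sub] at h
  linear_combination -h

end Group

variable {A : Type u} [CommRing A] [IsRegularLocalRing A] [IsAdicComplete (maximalIdeal A) A]
  {G : Type w} [Group G] [Fintype G] [MulSemiringAction G A] {k : Type v} [Field k] [Algebra k A]

theorem exists_trace_eq_pow (hk : Function.Surjective (residue A ∘ algebraMap k A))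
    (hGk : ∀ (σ : G) (c : k), σ • algebraMap k A c = algebraMap k A c)
    (hram : ∀ P : Ideal A, P.IsPrime → P ≠ maximalIdeal A → P.inertia G = ⊥)
    {x : A} (hx : ∀ g : G, g • x = x) (hxm : x ∈ maximalIdeal A) :
    ∃ (N : ℕ) (a : A), ∑ g : G, g • a = x ^ N := by
  obtain ⟨hN, hF, -⟩ := Invariants.finite_invariants G k hk hGk
  haveI := Invariants.isLocalRing_subring (A := A) G
  have hmem : (⟨x, hx⟩ : FixedPoints.subring A G) ∈ Ideal.radical (R := FixedPoints.subring A G) (LinearMap.range (Invariants.tr (A := A) G)) := by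
    rw [Ideal.radical_eq_sInf, Ideal.mem_sInf]
    rintro P ⟨hTP, hP⟩
    by_contra hxP
    haveI := hP
    obtain ⟨b, hbP, s, c, hb⟩ := Invariants.exists_trace_frame G P fun Q hQ hQP => hram Q hQ fun hQm => hxP (by
      rw [← hQP, Ideal.mem_comap, hQm]; exact hxm)
    obtain ⟨Q, -, hQ, hQP⟩ := Ideal.exists_ideal_over_prime_of_isIntegral P (⊥ : Ideal A)
      (by rw [← RingHom.ker_eq_comap_bot, (RingHom.injective_iff_ker_eq_bot _).mp Subtype.val_injective]; exact bot_le)
    have h1 := hb 1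
    rw [mul_one] at h1
    refine hbP (hQP ▸ (?_ : (b : A) ∈ Q))
    rw [h1]
    refine Ideal.sum_mem _ fun y _ => Ideal.mul_mem_left _ _ ?_
    have : Invariants.tr (A := A) G (y * 1) ∈ P := hTP ⟨_, rfl⟩
    rw [← hQP] at this
    exact this
  obtain ⟨N, a, ha⟩ := hmem
  exact ⟨N, a, congrArg Subtype.val ha⟩

theorem exists_fixed_pow_notMem (p : ℕ) [Fact p.Prime] [CharP A p] (n : ℕ) (hn : ringKrullDim A = n) (h2 : 2 ≤ n)
    (hk : Function.Surjective (residue A ∘ algebraMap k A)) (hcard : Fintype.card G = p)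
    (hGk : ∀ (σ : G) (c : k), σ • algebraMap k A c = algebraMap k A c)
    (hram : ∀ P : Ideal A, P.IsPrime → P ≠ maximalIdeal A → P.inertia G = ⊥)
    (u : Fin n → A) (hu : ∀ τ : Fin n → G, Ideal.span (Set.range fun i => τ i • u i) = maximalIdeal A)
    (φ : MvPowerSeries (Fin n) k →ₐ[k] A) (hφ : ∀ i, φ (MvPowerSeries.X i) = ∏ σ : G, σ • u i) :
    ∃ y : A, (∀ σ : G, σ • y = y) ∧ ∀ e : ℕ, y ^ p ^ e ∉ Set.range φ := by
  classical
  by_contra hcon
  push Not at hcon
  have hp := (Fact.out : p.Prime)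
  haveI : CharP k p := RingHom.charP (algebraMap k A) (algebraMap k A).injective p
  -- the parameters
  let x : Fin n → A := fun i => φ (MvPowerSeries.X i)
  have hxfix : ∀ i (g : G), g • x i = x i := fun i g => by
    show g • φ _ = φ _
    rw [hφ, Finset.smul_prod']
    exact Fintype.prod_equiv (Equiv.mulLeft g) _ _ fun τ => (mul_smul g τ (u i)).symm
  have hum : ∀ i, u i ∈ maximalIdeal A := fun i => by
    rw [← hu fun _ => 1]
    exact Ideal.subset_span ⟨i, one_smul G (u i)⟩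
  have hxm : ∀ i, x i ∈ maximalIdeal A := fun i => by
    show φ _ ∈ _
    rw [hφ]
    exact Ideal.prod_mem _ (Finset.mem_univ 1) (by rw [one_smul]; exact hum i)
  have hrad : (Ideal.span (Set.range x)).radical = maximalIdeal A := by
    refine le_antisymm ((Ideal.IsPrime.radical_le_iff inferInstance).mpr
      (Ideal.span_le.mpr (Set.range_subset_iff.mpr hxm))) ?_
    rw [Ideal.radical_eq_sInf]
    refine le_sInf fun Q ⟨hQx, hQ⟩ => ?_
    have hex : ∀ i, ∃ τ : G, τ • u i ∈ Q := fun i => by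
      have : φ (MvPowerSeries.X i) ∈ Q := hQx (Ideal.subset_span ⟨i, rfl⟩)
      rw [hφ, hQ.prod_mem_iff] at this
      obtain ⟨τ, -, hτ⟩ := this
      exact ⟨τ, hτ⟩
    choose τ hτ using hex
    rw [← hu τ, Ideal.span_le]
    exact Set.range_subset_iff.mpr hτ
  obtain ⟨d, b, -, hb⟩ := S15801.result A n hn k hk x hrad φ (fun _ => rfl)
  -- two translated elements
  let i₀ : Fin n := ⟨0, by omega⟩
  let i₁ : Fin n := ⟨1, by omega⟩
  have hij : i₀ ≠ i₁ := by simp [i₀, i₁]
  obtain ⟨σ, hσ⟩ : ∃ σ : G, σ ≠ 1 := by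
    haveI : Nontrivial G := Fintype.one_lt_card_iff_nontrivial.mp (hcard ▸ hp.one_lt)
    exact exists_ne 1
  obtain ⟨N₀, b₀, hb₀⟩ := exists_trace_eq_pow hk hGk hram (hxfix i₀) (hxm i₀)
  obtain ⟨N₁, b₁, hb₁⟩ := exists_trace_eq_pow hk hGk hram (hxfix i₁) (hxm i₁)
  obtain ⟨α₀, hα₀⟩ := exists_translate_of_trace p hcard hσ b₀
  obtain ⟨α₁, hα₁⟩ := exists_translate_of_trace p hcard hσ b₁
  rw [hb₀] at hα₀
  rw [hb₁] at hα₁
  let N := N₀ + N₁
  obtain ⟨a₀, ha₀⟩ : ∃ a₀, σ • a₀ = a₀ + x i₀ ^ N := ⟨x i₀ ^ N₁ * α₀, by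
    show σ • (x i₀ ^ N₁ * α₀) = x i₀ ^ N₁ * α₀ + x i₀ ^ (N₀ + N₁)
    rw [smul_mul', smul_pow', hxfix, pow_add]
    linear_combination (x i₀ ^ N₁) * hα₀⟩
  obtain ⟨a₁, ha₁⟩ : ∃ a₁, σ • a₁ = a₁ + x i₁ ^ N := ⟨x i₁ ^ N₀ * α₁, by
    show σ • (x i₁ ^ N₀ * α₁) = x i₁ ^ N₀ * α₁ + x i₁ ^ (N₀ + N₁)
    rw [smul_mul', smul_pow', hxfix, pow_add]
    linear_combination (x i₁ ^ N₀) * hα₁⟩
  have hgen : ∀ {y : A}, σ • y = y → ∀ g : G, g • y = y := fun {y} hy g => by
    obtain ⟨m, rfl⟩ := mem_powers_iff_mem_zpowers.mpr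
      (mem_zpowers_of_prime_card (p := p) (g' := g) (by rw [Nat.card_eq_fintype_card, hcard]) hσ)
    induction m with
    | zero => simp
    | succ m ih => show σ ^ (m + 1) • y = y; rw [pow_succ, mul_smul, hy]; exact ih
  have hAS : ∀ {a c : A}, σ • a = a + c → σ • c = c → σ • (a ^ p - c ^ (p - 1) * a) = a ^ p - c ^ (p - 1) * a := by
    intro a c ha hc
    rw [smul_sub, smul_pow', smul_mul', smul_pow', ha, hc, add_pow_char]
    have : c ^ p = c ^ (p - 1) * c := by rw [← pow_succ, Nat.sub_add_cancel hp.one_le]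
    linear_combination this
  have hpowfix : ∀ i (M : ℕ), σ • x i ^ M = x i ^ M := fun i M => by rw [smul_pow', hxfix]
  obtain ⟨e₁, he₁⟩ := hcon (a₀ * x i₁ ^ N - a₁ * x i₀ ^ N) (hgen (by
    rw [smul_sub, smul_mul', smul_mul', ha₀, ha₁, hpowfix, hpowfix]; ring))
  obtain ⟨e₂, he₂⟩ := hcon (a₀ ^ p - (x i₀ ^ N) ^ (p - 1) * a₀) (hgen (hAS ha₀ (hpowfix _ _)))
  obtain ⟨e₃, he₃⟩ := hcon (a₁ ^ p - (x i₁ ^ N) ^ (p - 1) * a₁) (hgen (hAS ha₁ (hpowfix _ _)))
  have hup : ∀ {y : A} {e : ℕ} (e' : ℕ), e ≤ e' → y ^ p ^ e ∈ Set.range φ → y ^ p ^ e' ∈ Set.range φ := by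
    intro y e e' hle ⟨r, hr⟩
    exact ⟨r ^ p ^ (e' - e), by rw [map_pow, hr, ← pow_mul, ← pow_add, Nat.add_sub_cancel' hle]⟩
  let E := e₁ + e₂ + e₃
  obtain ⟨f, hf⟩ := hup E (by omega) he₁
  obtain ⟨g₀, hg₀⟩ := hup E (by omega) he₂
  obtain ⟨g₁, hg₁⟩ := hup E (by omega) he₃
  let L := N * p ^ E
  rw [sub_pow_char_pow, mul_pow, mul_pow, ← pow_mul (x i₁) N, ← pow_mul (x i₀) N] at hf
  rw [sub_pow_char_pow, mul_pow, ← pow_mul a₀ p, mul_comm p, pow_mul, ← pow_mul (x i₀ ^ N) (p - 1),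
    mul_comm (p - 1), pow_mul, ← pow_mul (x i₀) N] at hg₀
  rw [sub_pow_char_pow, mul_pow, ← pow_mul a₁ p, mul_comm p, pow_mul, ← pow_mul (x i₁ ^ N) (p - 1),
    mul_comm (p - 1), pow_mul, ← pow_mul (x i₁) N] at hg₁
  have ha₀' : σ • a₀ ^ p ^ E = a₀ ^ p ^ E + x i₀ ^ L := by rw [smul_pow', ha₀, add_pow_char_pow, ← pow_mul]
  generalize a₀ ^ p ^ E = c₀ at hf hg₀ ha₀'
  generalize a₁ ^ p ^ E = c₁ at hf hg₁
  have hinj : Function.Injective φ := by
    intro r r' h
    have hd : 0 < d := Nat.pos_of_ne_zero fun h0 => by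
      obtain ⟨z, hz⟩ := hb.2 1
      subst h0
      simp at hz
    have := hb.1 (a₁ := Function.const _ r) (a₂ := Function.const _ r')
      (Finset.sum_congr rfl fun i _ => congrArg (· * b i) h)
    exact congrFun this ⟨0, hd⟩
  have hR : f ^ p - (X i₀ * X i₁) ^ (L * (p - 1)) * f ∈
      Ideal.span {(X i₀ : MvPowerSeries (Fin n) k) ^ (L * p), X i₁ ^ (L * p)} := by
    refine Ideal.mem_span_pair.mpr ⟨-g₁, g₀, hinj ?_⟩
    simp only [map_add, map_sub, map_mul, map_pow, map_neg, hf, hg₀, hg₁]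
    rw [sub_pow_char, mul_pow, mul_pow, ← pow_mul, ← pow_mul, pow_mul _ L (p), pow_mul _ L (p), pow_mul _ L (p - 1),
      pow_mul _ L (p - 1)]
    have hpow : ∀ X : A, X ^ p = X ^ (p - 1) * X := fun X => by rw [← pow_succ, Nat.sub_add_cancel hp.one_le]
    rw [hpow (x i₀ ^ L), hpow (x i₁ ^ L)]
    ring
  obtain ⟨v, w, hvw⟩ := Ideal.mem_span_pair.mp (mem_span_of_frobenius p hij hR)
  have hrel : (c₀ - φ w) * x i₁ ^ L = (c₁ + φ v) * x i₀ ^ L := by
    have := congrArg φ hvw
    rw [map_add, map_mul, map_mul, map_pow, map_pow, hf] at this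
    linear_combination -this
  obtain ⟨r, hr⟩ := hb.2 (c₀ - φ w)
  obtain ⟨r', hr'⟩ := hb.2 (c₁ + φ v)
  rw [← hr, ← hr', Finset.sum_mul, Finset.sum_mul] at hrel
  have hcoord : (fun t => r t * X i₁ ^ L) = fun t => r' t * X i₀ ^ L := hb.1 (by
    calc ∑ t, φ (r t * X i₁ ^ L) * b t = ∑ t, φ (r t) * b t * x i₁ ^ L :=
          Finset.sum_congr rfl fun t _ => by rw [map_mul, map_pow]; ring
      _ = ∑ t, φ (r' t) * b t * x i₀ ^ L := hrel
      _ = ∑ t, φ (r' t * X i₀ ^ L) * b t := Finset.sum_congr rfl fun t _ => by rw [map_mul, map_pow]; ring)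
  choose s hs using fun t => pow_dvd_of_mul_eq hij (congrFun hcoord t)
  let β : A := ∑ t, φ (s t) * b t
  have hβ : c₀ - φ w = x i₀ ^ L * β := by
    rw [← hr, Finset.mul_sum]
    exact Finset.sum_congr rfl fun t _ => by rw [hs t, map_mul, map_pow]; ring
  -- the contradiction
  have hres : ∀ z : A, σ • z - z ∈ maximalIdeal A := fun z => by
    obtain ⟨c, hc⟩ := hk (residue A z)
    have hm : z - algebraMap k A c ∈ maximalIdeal A := Ideal.Quotient.eq.mp hc.symm
    have := sub_mem (Invariants.smul_mem_max G σ hm) hm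
    rwa [smul_sub, hGk, sub_sub_sub_cancel_right] at this
  have hφfix : σ • φ w = φ w := by
    let σA : A →ₐ[k] A := { toRingHom := MulSemiringAction.toRingHom G A σ, commutes' := fun c => hGk σ c }
    have h : σA.comp φ = φ := H02CA.PS.algHom_ext (maximalIdeal A)
      (fun i => show σ • x i ∈ maximalIdeal A by rw [hxfix]; exact hxm i) fun i => hxfix i σ
    exact AlgHom.congr_fun h w
  have hone : x i₀ ^ L * (σ • β - β) = x i₀ ^ L := by
    have h1 := congrArg (σ • ·) hβ
    simp only [smul_sub, smul_mul', hφfix, ha₀', hpowfix] at h1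
    linear_combination hβ - h1
  haveI : IsDomain A := H4Depth.isDomain_of_isRegularLocalRing _
  have hx0 : x i₀ ^ L ≠ 0 := pow_ne_zero _ fun h0 => by
    have h' : (X i₀ : MvPowerSeries (Fin n) k) = 0 := hinj (h0.trans (map_zero φ).symm)
    simpa using congrArg (coeff (Finsupp.single i₀ 1)) h'
  have h1 : σ • β - β = 1 := mul_left_cancel₀ hx0 (by rw [hone, mul_one])
  exact (maximalIdeal A).ne_top_iff_one.mp (maximalIdeal.isMaximal A).ne_top (h1 ▸ hres β)

end Groth.Agent.H23Wild.Insep
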