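import Groth.Agent.H23Wild.Param
import Groth.Agent.H23Wild.DimTwo
import Groth.Agent.H24Adic.Rig
import Mathlib.RingTheory.Invariant.Basic

/-! # Invariant rings of complete regular local rings -/

set_option autoImplicit false

universe u v w

open IsLocalRing Polynomial

namespace Groth.Agent.H23Wild.Invariants

theorem finite_of_rad {k A : Type u} [Field k] [CommRing A] [IsLocalRing A] [IsNoetherianRing A]
    [IsAdicComplete (maximalIdeal A) A] {N : ℕ} (φ : MvPowerSeries (Fin N) k →+* A)
    (hres : ∀ a : A, ∃ c, a - φ (MvPowerSeries.C c) ∈ maximalIdeal A)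
    (hrad : (Ideal.span (Set.range fun i => φ (MvPowerSeries.X i))).radical = maximalIdeal A) : φ.Finite := by
  classical
  let P := MvPowerSeries (Fin N) k
  letI : Algebra P A := φ.toAlgebra
  haveI := H02CA.PS.isRegularLocalRing_fin (k := k) N
  have hm : maximalIdeal P = Ideal.span (Set.range MvPowerSeries.X) := H02CA.PS.maximalIdeal_eq_vars
  set J : Ideal A := Ideal.span (Set.range fun i => φ (MvPowerSeries.X i)) with hJ
  have hmap : (maximalIdeal P).map (algebraMap P A) = J := by
    rw [hm, Ideal.map_span, ← Set.range_comp]; rfl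
  have hJm : J ≤ maximalIdeal A := hrad ▸ Ideal.le_radical
  haveI : IsPrecomplete (maximalIdeal P) P := by
    rw [hm]
    exact (inferInstance : IsAdicComplete (Ideal.span (Set.range MvPowerSeries.X) : Ideal (MvPowerSeries (Fin N) k)) _).toIsPrecomplete
  haveI : IsHausdorff (maximalIdeal P) A := ⟨fun a ha => IsHausdorff.haus (I := maximalIdeal A) inferInstance a fun M => by
    have h := SModEq.zero.mp (ha M)
    rw [SModEq.zero, smul_eq_mul, Ideal.mul_top]
    rw [Ideal.smul_top_eq_map, Submodule.restrictScalars_mem, Ideal.map_pow, hmap] at h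
    exact Ideal.pow_right_mono hJm M h⟩
  obtain ⟨M, hM⟩ := Ideal.exists_radical_pow_le_of_fg J (IsNoetherian.noetherian _)
  rw [hrad] at hM
  obtain ⟨s, hs⟩ := exists_finset_span_mod_pow (φ.comp (MvPowerSeries.C : k →+* P)) hres M
  haveI : Module.Finite P (A ⧸ (maximalIdeal P • ⊤ : Submodule P A)) := by
    refine ⟨⟨s.image (Submodule.mkQ _), ?_⟩⟩
    rw [eq_top_iff, Finset.coe_image]
    intro y _
    obtain ⟨a, rfl⟩ := Submodule.mkQ_surjective _ y
    obtain ⟨c, hc⟩ := hs a
    have h0 : Submodule.mkQ (maximalIdeal P • ⊤ : Submodule P A) a =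
        Submodule.mkQ _ (∑ t ∈ s, (MvPowerSeries.C (c t) : P) • t) := by
      rw [← sub_eq_zero, ← map_sub, Submodule.mkQ_apply, Submodule.Quotient.mk_eq_zero, Ideal.smul_top_eq_map,
        Submodule.restrictScalars_mem, hmap]
      exact hM hc
    rw [h0, map_sum]
    refine Submodule.sum_mem _ fun t ht => ?_
    rw [map_smul]
    exact Submodule.smul_mem _ _ (Submodule.subset_span ⟨t, ht, rfl⟩)
  exact H24Adic.finite_of_finite_quotient (maximalIdeal P)

variable {A : Type u} [CommRing A] (G : Type w) [Group G] [MulSemiringAction G A]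

theorem smul_mem_max [IsLocalRing A] (g : G) {a : A} (ha : a ∈ maximalIdeal A) : g • a ∈ maximalIdeal A := fun hu =>
  ha (by simpa using hu.map (MulSemiringAction.toRingHom G A g⁻¹))

theorem isLocalHom_subtype : IsLocalHom (FixedPoints.subring A G).subtype := ⟨fun b hb => by
  obtain ⟨c, hc⟩ := hb.exists_right_inv
  refine isUnit_iff_exists_inv.mpr ⟨⟨c, fun g => ?_⟩, Subtype.ext hc⟩
  have h1 : (b : A) * (g • c) = 1 := by
    calc (b : A) * (g • c) = g • ((b : A) * c) := by rw [smul_mul', b.2 g]
      _ = 1 := by rw [show (b : A) * c = 1 from hc, smul_one]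
  calc g • c = (FixedPoints.subring A G).subtype b * c * (g • c) := by rw [hc, one_mul]
    _ = c * ((b : A) * (g • c)) := by show (b : A) * c * _ = _; ring
    _ = c := by rw [h1, mul_one]⟩

theorem isLocalRing_subring [IsLocalRing A] : IsLocalRing (FixedPoints.subring A G) :=
  haveI := isLocalHom_subtype (A := A) G
  RingHom.domain_isLocalRing (FixedPoints.subring A G).subtype

theorem comap_maximalIdeal [IsLocalRing A] [IsLocalRing (FixedPoints.subring A G)] :
    Ideal.comap (FixedPoints.subring A G).subtype (maximalIdeal A) = maximalIdeal (FixedPoints.subring A G) := by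
  haveI := isLocalHom_subtype (A := A) G
  ext b
  exact ⟨fun h hu => h (hu.map _), fun h hu => h (IsLocalHom.map_nonunit b hu)⟩

theorem isIntegrallyClosed_subring [IsDomain A] [IsIntegrallyClosed A] :
    IsIntegrallyClosed (FixedPoints.subring A G) := by
  let B := FixedPoints.subring A G
  let K := FractionRing B
  refine (isIntegrallyClosed_iff K).mpr fun {x} hx => ?_
  obtain ⟨b, s, hs, hxb⟩ := IsFractionRing.div_surjective B x
  let j : K →+* FractionRing A := IsFractionRing.lift (g := (algebraMap A (FractionRing A)).comp B.subtype)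
    ((IsFractionRing.injective A (FractionRing A)).comp Subtype.val_injective)
  have hj : ∀ b : B, j (algebraMap B K b) = algebraMap A (FractionRing A) (b : A) := fun b =>
    IsFractionRing.lift_algebraMap _ b
  have hint : IsIntegral A (j x) := by
    obtain ⟨P, hP, hPx⟩ := hx
    refine ⟨P.map B.subtype, hP.map _, ?_⟩
    rw [Polynomial.eval₂_map, show (algebraMap A (FractionRing A)).comp B.subtype = j.comp (algebraMap B K) from
      RingHom.ext fun b => (hj b).symm, ← Polynomial.hom_eval₂]
    exact (congrArg j hPx).trans (map_zero j)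
  obtain ⟨y, hy⟩ := IsIntegrallyClosed.isIntegral_iff.mp hint
  have hsK : algebraMap B K s ≠ 0 := IsFractionRing.to_map_ne_zero_of_mem_nonZeroDivisors hs
  have h : (s : A) * y = (b : A) := by
    apply IsFractionRing.injective A (FractionRing A)
    rw [map_mul, hy, ← hj, ← hj, ← map_mul]
    congr 1
    rw [← hxb, mul_div_cancel₀ _ hsK]
  refine ⟨⟨y, fun g => ?_⟩, ?_⟩
  · have hs0 : (s : A) ≠ 0 := fun h => nonZeroDivisors.ne_zero hs (Subtype.ext h)
    refine mul_left_cancel₀ hs0 ?_
    calc (s : A) * (g • y) = g • ((s : A) * y) := by rw [smul_mul', s.2 g]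
      _ = (s : A) * y := by rw [h, b.2 g]
  · rw [← hxb, eq_div_iff hsK, ← map_mul, mul_comm]
    exact congrArg _ (Subtype.ext h)

variable [IsRegularLocalRing A] [IsAdicComplete (maximalIdeal A) A] [Finite G]
  (k : Type v) [Field k] [Algebra k A]

theorem finite_invariants (hk : Function.Surjective (residue A ∘ algebraMap k A))
    (hGk : ∀ (σ : G) (c : k), σ • algebraMap k A c = algebraMap k A c) :
    IsNoetherianRing (FixedPoints.subring A G) ∧ Module.Finite (FixedPoints.subring A G) A ∧
      IsAdicComplete (Ideal.comap (FixedPoints.subring A G).subtype (maximalIdeal A)) (FixedPoints.subring A G) := by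
  classical
  haveI : Fintype G := Fintype.ofFinite G
  -- the image of `k`, in the universe of `A`
  let k₀ := (algebraMap k A).range
  haveI : IsLocalHom (algebraMap k A) := inferInstance
  have hkinj : Function.Injective (algebraMap k A) := (algebraMap k A).injective
  let e : k ≃+* k₀ := RingEquiv.ofBijective (algebraMap k A).rangeRestrict
    ⟨fun a b h => hkinj (congrArg Subtype.val h), (algebraMap k A).rangeRestrict_surjective⟩
  letI : Field k₀ := (MulEquiv.isField (Field.toIsField k) e.symm.toMulEquiv).toField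
  have hk₀ : ∀ (σ : G) (c : k₀), σ • (c : A) = (c : A) := fun σ ⟨_, c, hc⟩ => hc ▸ hGk σ c
  obtain ⟨r, b, hb⟩ := Submodule.fg_iff_exists_fin_generating_family.mp (IsNoetherian.noetherian (maximalIdeal A))
  have hbm : ∀ i, b i ∈ maximalIdeal A := fun i => hb ▸ Submodule.subset_span ⟨i, rfl⟩
  let N := Fintype.card (Fin r × Fin (Fintype.card G))
  let e' : Fin N ≃ Fin r × Fin (Fintype.card G) := (Fintype.equivFin _).symm
  let x : Fin N → A := fun t => (MulSemiringAction.charpoly G (b (e' t).1)).coeff (e' t).2
  have hdeg : ∀ i, (MulSemiringAction.charpoly G (b i)).natDegree = Fintype.card G := fun i => by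
    rw [MulSemiringAction.charpoly_eq, Polynomial.natDegree_finsetProd_X_sub_C_eq_card, Finset.card_univ]
  have hxm : ∀ t, x t ∈ maximalIdeal A := fun t => by
    have h : (MulSemiringAction.charpoly G (b (e' t).1)).map (residue A) = Polynomial.X ^ Fintype.card G := by
      rw [MulSemiringAction.charpoly_eq, Polynomial.map_prod]
      have : ∀ g : G, (Polynomial.X - Polynomial.C (g • b (e' t).1)).map (residue A) = Polynomial.X := fun g => by
        rw [Polynomial.map_sub, Polynomial.map_X, Polynomial.map_C,
          (residue_eq_zero_iff _).mpr (smul_mem_max G g (hbm _)), map_zero, sub_zero]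
      simp only [this, Finset.prod_const, Finset.card_univ]
    have h' := congrArg (fun P => Polynomial.coeff P (e' t).2.val) h
    simp only [Polynomial.coeff_map, Polynomial.coeff_X_pow, (e' t).2.isLt.ne, if_false] at h'
    exact (residue_eq_zero_iff _).mp h'
  obtain ⟨ψ, hψ⟩ := H02CA.PS.exists_algHom (R := k₀) (σ := Fin N) (maximalIdeal A) x hxm
  have hfixψ : ∀ f (σ : G), σ • ψ f = ψ f := fun f σ => by
    let σA : A →ₐ[k₀] A :=
      { toRingHom := MulSemiringAction.toRingHom G A σ, commutes' := fun c => hk₀ σ c }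
    have h : σA.comp ψ = ψ := by
      refine H02CA.PS.algHom_ext (maximalIdeal A) (fun i => ?_) fun i => ?_
      · show σ • ψ _ ∈ _
        rw [hψ]; exact smul_mem_max G σ (hxm i)
      · show σ • ψ _ = ψ _
        rw [hψ]; exact MulSemiringAction.smul_coeff_charpoly _ _ _
    exact AlgHom.congr_fun h f
  have hres : ∀ a : A, ∃ c, a - ψ.toRingHom (MvPowerSeries.C c) ∈ maximalIdeal A := fun a => by
    obtain ⟨c, hc⟩ := hk (residue A a)
    refine ⟨e c, Ideal.Quotient.eq.mp (hc.symm.trans ?_)⟩
    exact congrArg (residue A) ((ψ.commutes (e c)).symm)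
  have hrad : (Ideal.span (Set.range fun i => ψ.toRingHom (MvPowerSeries.X i))).radical = maximalIdeal A := by
    rw [show (fun i => ψ.toRingHom (MvPowerSeries.X i)) = x from funext hψ]
    refine le_antisymm ((Ideal.IsPrime.radical_le_iff inferInstance).mpr
      (Ideal.span_le.mpr (Set.range_subset_iff.mpr hxm))) ?_
    rw [← hb]
    refine Submodule.span_le.mpr ?_
    rintro _ ⟨i, rfl⟩
    refine ⟨Fintype.card G, ?_⟩
    have h := MulSemiringAction.eval_charpoly G (b i)
    rw [Polynomial.eval_eq_sum_range, hdeg, Finset.sum_range_succ,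
      show (MulSemiringAction.charpoly G (b i)).coeff (Fintype.card G) = 1 by
        rw [← hdeg i]; exact MulSemiringAction.monic_charpoly G (b i), one_mul, add_eq_zero_iff_neg_eq] at h
    rw [← h]
    refine neg_mem (Ideal.sum_mem _ fun j hj => Ideal.mul_mem_right _ _ (Ideal.subset_span ?_))
    refine ⟨e'.symm (i, ⟨j, Finset.mem_range.mp hj⟩), ?_⟩
    simp [x]
  haveI := H02CA.PS.isRegularLocalRing_fin (k := k₀) N
  have hfin := finite_of_rad ψ.toRingHom hres hrad
  let P := MvPowerSeries (Fin N) k₀
  let ψB : P →+* FixedPoints.subring A G := ψ.toRingHom.codRestrict (FixedPoints.subring A G) fun f => hfixψ f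
  letI : Algebra P A := ψ.toRingHom.toAlgebra
  letI : Algebra P (FixedPoints.subring A G) := ψB.toAlgebra
  haveI : IsScalarTower P (FixedPoints.subring A G) A := IsScalarTower.of_algebraMap_eq fun _ => rfl
  haveI : Module.Finite P A := hfin
  haveI : Module.Finite P (FixedPoints.subring A G) :=
    Module.Finite.of_injective ((IsScalarTower.toAlgHom P (FixedPoints.subring A G) A).toLinearMap) Subtype.val_injective
  haveI := isLocalRing_subring (A := A) G
  haveI hnoeth : IsNoetherianRing (FixedPoints.subring A G) := IsNoetherianRing.of_finite P _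
  refine ⟨hnoeth, Module.Finite.of_restrictScalars_finite P _ A, ?_⟩
  rw [comap_maximalIdeal]
  haveI : IsAdicComplete (maximalIdeal P) P := by
    rw [H02CA.PS.maximalIdeal_eq_vars]; infer_instance
  haveI : IsAdicComplete (maximalIdeal P) (FixedPoints.subring A G) := H24Adic.isAdicComplete_of_finite _
  haveI : IsAdicComplete ((maximalIdeal P).map (algebraMap P (FixedPoints.subring A G))) (FixedPoints.subring A G) :=
    (IsAdicComplete.map_algebraMap_iff _ _).mpr inferInstance
  haveI : IsLocalHom (algebraMap P (FixedPoints.subring A G)) := ⟨fun f hf => by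
    by_contra h
    have hmem : ψ f ∈ maximalIdeal A := by
      have h1 : (maximalIdeal P).map ψ.toRingHom ≤ maximalIdeal A := by
        rw [H02CA.PS.maximalIdeal_eq_vars, Ideal.map_span, Ideal.span_le]
        rintro _ ⟨_, ⟨i, rfl⟩, rfl⟩
        show ψ _ ∈ _
        rw [hψ]; exact hxm i
      exact h1 (Ideal.mem_map_of_mem _ h)
    exact hmem (hf.map (FixedPoints.subring A G).subtype)⟩
  have hle : (maximalIdeal P).map (algebraMap P (FixedPoints.subring A G)) ≤
      maximalIdeal (FixedPoints.subring A G) := map_maximalIdeal_le _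
  obtain ⟨M, hM⟩ := Ideal.exists_pow_le_of_le_radical_of_fg
    (I := maximalIdeal (FixedPoints.subring A G)) (J := (maximalIdeal P).map (algebraMap P (FixedPoints.subring A G)))
    (by
      rw [Ideal.radical_eq_sInf]
      refine le_sInf fun Q ⟨hQ, hQp⟩ => le_of_eq ?_
      haveI := hQp
      refine (IsLocalRing.eq_maximalIdeal (Ideal.isMaximal_of_isIntegral_of_isMaximal_comap (R := P) Q ?_)).symm
      rw [← (maximalIdeal.isMaximal P).eq_of_le (Ideal.comap_isPrime (algebraMap P _) Q).ne_top
        (Ideal.map_le_iff_le_comap.mp hQ)]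
      exact maximalIdeal.isMaximal P)
    (IsNoetherian.noetherian _)
  refine H24Adic.isAdicComplete_of_pow_le (a := M) (b := 1)
    (I := (maximalIdeal P).map (algebraMap P (FixedPoints.subring A G))) hM ?_ _
  rwa [pow_one]

theorem not_flat (p : ℕ) [Fact p.Prime] (hdim : 2 ≤ ringKrullDim A)
    (hk : Function.Surjective (residue A ∘ algebraMap k A))
    (hcard : Nat.card G = p) (hGk : ∀ (σ : G) (c : k), σ • algebraMap k A c = algebraMap k A c)
    (hram : ∀ P : Ideal A, P.IsPrime → P ≠ maximalIdeal A → P.inertia G = ⊥) :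
    ¬ Module.Flat (FixedPoints.subring A G) A := by
  intro hflat
  haveI : IsDomain A := H4Depth.isDomain_of_isRegularLocalRing _
  obtain ⟨hN, hF, -⟩ := finite_invariants G k hk hGk
  haveI := isLocalRing_subring (A := A) G
  haveI : Module.Free (FixedPoints.subring A G) A := Module.free_of_flat_of_isLocalRing
  have hne : ∀ P : Ideal A, P.height ≤ 1 → P ≠ maximalIdeal A := fun P hP h => by
    have h3 := IsLocalRing.maximalIdeal_height_eq_ringKrullDim (R := A)
    rw [← h] at h3
    rw [← h3] at hdim
    have h2 : (2 : WithBot ℕ∞) ≤ ((1 : ℕ∞) : WithBot ℕ∞) := hdim.trans (WithBot.coe_le_coe.mpr hP)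
    exact absurd h2 (by decide)
  haveI : FaithfulSMul G A := ⟨fun {g g'} h => by
    have hbot : (⊥ : Ideal A).inertia G = ⊥ := hram ⊥ Ideal.isPrime_bot (hne ⊥ (by simp))
    have : g'⁻¹ * g ∈ (⊥ : Ideal A).inertia G := fun a => by
      show (g'⁻¹ * g) • a - a ∈ (⊥ : Ideal A)
      rw [mul_smul, h, inv_smul_smul, sub_self]
      exact zero_mem _
    rw [hbot, Subgroup.mem_bot, inv_mul_eq_one] at this
    exact this.symm⟩
  haveI : SMulCommClass G (FixedPoints.subring A G) A := ⟨fun g b a => by
    show g • ((b : A) * a) = (b : A) * (g • a)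
    rw [smul_mul', b.2 g]⟩
  have h1 : ∀ g : G, g = 1 := DimTwo.eq_one_of_trivial_inertia (FixedPoints.subring A G) A Subtype.val_injective
    (fun z => by
      obtain ⟨c, hc⟩ := hk z
      exact ⟨⟨algebraMap k A c, fun g => hGk g c⟩, hc⟩)
    hdim G (fun a ha => ⟨⟨a, ha⟩, rfl⟩)
    (fun P hP hh => hram P hP (hne P hh.le))
  haveI : Subsingleton G := ⟨fun g h => (h1 g).trans (h1 h).symm⟩
  have h2 := Nat.card_of_subsingleton (1 : G)
  rw [hcard] at h2
  exact (Fact.out : p.Prime).ne_one h2

theorem not_regular (p : ℕ) [Fact p.Prime] (hdim : 2 ≤ ringKrullDim A)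
    (hk : Function.Surjective (residue A ∘ algebraMap k A))
    (hcard : Nat.card G = p) (hGk : ∀ (σ : G) (c : k), σ • algebraMap k A c = algebraMap k A c)
    (hram : ∀ P : Ideal A, P.IsPrime → P ≠ maximalIdeal A → P.inertia G = ⊥) :
    ringKrullDim (FixedPoints.subring A G) = ringKrullDim A ∧
      ¬ IsRegularLocalRing (FixedPoints.subring A G) := by
  haveI : IsDomain A := H4Depth.isDomain_of_isRegularLocalRing _
  obtain ⟨hN, hF, -⟩ := finite_invariants G k hk hGk
  haveI := isLocalRing_subring (A := A) G
  have hinj : Function.Injective (algebraMap (FixedPoints.subring A G) A) := Subtype.val_injective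
  haveI : FaithfulSMul (FixedPoints.subring A G) A := (faithfulSMul_iff_algebraMap_injective _ A).mpr hinj
  have hd : ringKrullDim (FixedPoints.subring A G) = ringKrullDim A :=
    le_antisymm (H29Curve.ringKrullDim_le_of_isIntegral (algebraMap (FixedPoints.subring A G) A)
      (algebraMap_isIntegral_iff.mpr inferInstance) hinj)
      (H26Grass.ringKrullDim_le_of_integral (R := FixedPoints.subring A G) (S := A))
  refine ⟨hd, fun hreg => not_flat G k p hdim hk hcard hGk hram ?_⟩
  haveI := H4Depth.isCohenMacaulayLocalRing_of_regular A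
  haveI : IsLocalHom (algebraMap (FixedPoints.subring A G) A) := isLocalHom_subtype (A := A) G
  refine H8Props.MiracleFlat.flat_of_regular_of_cohenMacaulay _ _ ?_
  set J := (maximalIdeal (FixedPoints.subring A G)).map (algebraMap (FixedPoints.subring A G) A) with hJ
  have h0 : ringKrullDim (A ⧸ J) ≤ 0 := by
    refine Ring.krullDimLE_iff.mp (Ring.krullDimLE_zero_iff.mpr fun I hI => ?_)
    have hQJ : J ≤ I.comap (Ideal.Quotient.mk J) := fun z hz => by
      show Ideal.Quotient.mk J z ∈ I
      rw [Ideal.Quotient.eq_zero_iff_mem.mpr hz]; exact I.zero_mem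
    haveI := Ideal.comap_isPrime (Ideal.Quotient.mk J) I
    have hM : (I.comap (Ideal.Quotient.mk J)).IsMaximal := by
      refine Ideal.isMaximal_of_isIntegral_of_isMaximal_comap (R := FixedPoints.subring A G) _ ?_
      rw [← (maximalIdeal.isMaximal _).eq_of_le (Ideal.comap_isPrime (algebraMap (FixedPoints.subring A G) A) _).ne_top
        (Ideal.map_le_iff_le_comap.mp hQJ)]
      exact maximalIdeal.isMaximal _
    rw [← Ideal.map_comap_of_surjective _ Ideal.Quotient.mk_surjective I]
    exact Ideal.IsMaximal.map_of_surjective_of_ker_le Ideal.Quotient.mk_surjective (by rwa [Ideal.mk_ker])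
  calc ringKrullDim (FixedPoints.subring A G) + ringKrullDim (A ⧸ J)
      ≤ ringKrullDim (FixedPoints.subring A G) + 0 := add_le_add le_rfl h0
    _ = ringKrullDim A := by rw [add_zero, hd]

end Groth.Agent.H23Wild.Invariants
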