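import Groth.Agent.H23Wild.Aut
import Mathlib.RingTheory.LocalRing.Length
import Mathlib.RingTheory.TensorProduct.Quotient

/-! # Lengths over free local algebras -/

set_option autoImplicit false

universe u v

namespace Groth.Agent.H23Wild

open IsLocalRing in
theorem length_quotient_map (R : Type u) (A : Type v) [CommRing R] [CommRing A] [IsLocalRing R] [IsLocalRing A]
    [Algebra R A] [IsLocalHom (algebraMap R A)] [Module.Finite R A] [Module.Free R A]
    (hres : Function.Surjective (residue A ∘ algebraMap R A)) (a : Ideal R) :
    Module.length A (A ⧸ a.map (algebraMap R A)) = (Module.finrank R A : ℕ∞) * Module.length R (R ⧸ a) := by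
  have hsurj : Function.Surjective (algebraMap (ResidueField R) (ResidueField A)) := fun z => by
    obtain ⟨r, rfl⟩ := hres z
    exact ⟨residue R r, rfl⟩
  have hk : Module.length (ResidueField R) (ResidueField A) = 1 := by
    rw [← ((LinearEquiv.ofBijective (Algebra.linearMap (ResidueField R) (ResidueField A))
      ⟨(algebraMap (ResidueField R) (ResidueField A)).injective, hsurj⟩).length_eq)]
    exact Module.length_eq_one _ _
  have h1 := IsLocalRing.length_restrictScalars R A (A ⧸ (maximalIdeal R).map (algebraMap R A))
  rw [hk, mul_one] at h1
  have e := (Algebra.TensorProduct.quotIdealMapEquivTensorQuot A (maximalIdeal R)).toLinearEquiv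
  have h2 : Module.length R (A ⧸ (maximalIdeal R).map (algebraMap R A)) = (Module.finrank R A : ℕ∞) := by
    rw [(e.restrictScalars R).length_eq, (TensorProduct.comm R A (R ⧸ maximalIdeal R)).length_eq]
    change Module.length R (TensorProduct R (ResidueField R) A) = _
    rw [Module.length_eq_of_surjective (R := ResidueField R) (S := R) (M := TensorProduct R (ResidueField R) A)
      residue_surjective, Module.length_eq_rank, ← Module.finrank_eq_rank, Module.finrank_baseChange, Cardinal.toENat_nat]
  have h3 := IsLocalRing.length_baseChange R A (R ⧸ a)
  rw [← h1, h2] at h3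
  rw [(Algebra.TensorProduct.quotIdealMapEquivTensorQuot A a).toLinearEquiv.length_eq, h3, mul_comm]

end Groth.Agent.H23Wild
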