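import Groth.Agent.H23Wild.Aut
import Mathlib.LinearAlgebra.Determinant
import Mathlib.Logic.Equiv.Fin.Basic

/-! # Complete intersection rings of minor elements -/

set_option autoImplicit false

universe u

open MvPolynomial

namespace Groth.Agent.H23Wild

variable {R : Type u} [CommRing R]

theorem injective_of_almost_surjective [IsDomain R] {M N : Type*} [AddCommGroup M] [AddCommGroup N] [Module R M]
    [Module R N] [Module.Free R M] [Module.Finite R M] [Module.Free R N] [Module.Finite R N]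
    (h : Module.finrank R M = Module.finrank R N) (Φ : M →ₗ[R] N)
    (hs : ∀ y, ∃ c : R, c ≠ 0 ∧ c • y ∈ Set.range Φ) : Function.Injective Φ := by
  classical
  let e : N ≃ₗ[R] M := LinearEquiv.ofFinrankEq N M h.symm
  let b := Module.Free.chooseBasis R M
  choose c hc m hm using fun i => hs (e.symm (b i))
  let T : M →ₗ[R] M := e.toLinearMap.comp Φ
  have hT : ∀ i, T (m i) = c i • b i := fun i => by
    show e (Φ (m i)) = _
    rw [hm, map_smul, e.apply_symm_apply]
  have hmat : LinearMap.toMatrix b b T * LinearMap.toMatrix b b (b.constr R m) = Matrix.diagonal c := by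
    rw [← LinearMap.toMatrix_comp]
    ext i j
    rw [LinearMap.toMatrix_apply, LinearMap.comp_apply, Module.Basis.constr_basis, hT, map_smul,
      Module.Basis.repr_self, Finsupp.smul_single, smul_eq_mul, mul_one, Finsupp.single_apply, Matrix.diagonal_apply]
    split_ifs <;> simp_all
  have hdet : (LinearMap.toMatrix b b T).det ≠ 0 := fun h0 => by
    have h1 := congrArg Matrix.det hmat
    rw [Matrix.det_mul, h0, zero_mul, Matrix.det_diagonal, eq_comm, Finset.prod_eq_zero_iff] at h1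
    obtain ⟨i, -, hi⟩ := h1
    exact hc i hi
  refine (injective_iff_map_eq_zero Φ).mpr fun y hy => ?_
  have h2 : Matrix.mulVec (LinearMap.toMatrix b b T) (b.repr y) = 0 := by
    rw [LinearMap.toMatrix_mulVec_repr, show T y = 0 by show e (Φ y) = 0; rw [hy, map_zero], map_zero]; rfl
  exact b.repr.injective ((Finsupp.coe_eq_zero.mp (Matrix.eq_zero_of_mulVec_eq_zero hdet h2)).trans (map_zero _).symm)

theorem sys_reindex {ι ι' : Type} (f : ι → Polynomial R) (e : ι' ≃ ι) :
    ∃ E : Sys (fun i => f (e i)) ≃ₐ[R] Sys f, ∀ i, E (gen (fun i => f (e i)) i) = gen f (e i) := by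
  obtain ⟨φ, hφ⟩ := exists_lift (fun i => f (e i)) (fun i => gen f (e i)) fun i => aeval_gen f (e i)
  obtain ⟨ψ, hψ⟩ := exists_lift f (fun i => gen (fun i => f (e i)) (e.symm i)) fun i => by
    have := aeval_gen (fun i => f (e i)) (e.symm i)
    simpa only [e.apply_symm_apply] using this
  exact ⟨AlgEquiv.ofAlgHom φ ψ
    (algHom_ext _ fun i => by rw [AlgHom.comp_apply, hψ, hφ, e.apply_symm_apply]; rfl)
    (algHom_ext _ fun i => by rw [AlgHom.comp_apply, hφ, hψ, e.symm_apply_apply]; rfl), hφ⟩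

theorem free_finite_finrank_ne [Nontrivial R] {n : ℕ} (f : Fin n → Polynomial R) (i₀ : Fin n) (hf : ∀ i, (f i).Monic)
    (hd : ∀ i, 1 ≤ (f i).natDegree) :
    Module.Free R (Sys fun j : {j : Fin n // j ≠ i₀} => f j.1) ∧
      Module.Finite R (Sys fun j : {j : Fin n // j ≠ i₀} => f j.1) ∧
      Module.finrank R (Sys fun j : {j : Fin n // j ≠ i₀} => f j.1) * (f i₀).natDegree = ∏ i, (f i).natDegree := by
  obtain ⟨m, rfl⟩ : ∃ m, n = m + 1 := ⟨n - 1, by have := i₀.2; omega⟩
  let e := finSuccAboveEquiv i₀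
  obtain ⟨E, -⟩ := sys_reindex (fun j : {j // j ≠ i₀} => f j.1) e
  obtain ⟨h1, h2, h3⟩ := free_finite_finrank (fun i => f (e i).1) (fun i => hf _) (fun i => hd _)
  refine ⟨Module.Free.of_equiv E.toLinearEquiv, Module.Finite.equiv E.toLinearEquiv, ?_⟩
  rw [← E.toLinearEquiv.finrank_eq, h3, Fin.prod_univ_succAbove (fun i => (f i).natDegree) i₀, mul_comm]
  rfl

theorem adjoin_root_coords [IsDomain R] {B A : Type*} [CommRing B] [CommRing A] [Algebra R B] [Algebra R A]
    [Nontrivial B] [Module.Free R B] [Module.Finite R B] [Module.Free R A] [Module.Finite R A] (ι : B →ₐ[R] A)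
    (u : A) {g : Polynomial B} (hg : g.Monic) (hd : 1 ≤ g.natDegree) (h0 : Polynomial.eval₂ (ι : B →+* A) u g = 0)
    (hrk : Module.finrank R A = Module.finrank R B * g.natDegree) (c : R) (hc : c ≠ 0) {κ : Type*} (v : κ → A)
    (hv : ∀ y, y ∈ Algebra.adjoin R (Set.range v))
    (hvc : ∀ i, ∃ b b' : B, algebraMap R A c * v i = ι b + ι b' * u) :
    (∀ y : A, ∃ (N : ℕ) (P : Polynomial B), P.natDegree < g.natDegree ∧
        algebraMap R A c ^ N * y = P.eval₂ ι.toRingHom u) ∧
      ∀ P : Polynomial B, P.natDegree < g.natDegree → P.eval₂ ι.toRingHom u = 0 → P = 0 := by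
  haveI := hg.free_adjoinRoot
  haveI := hg.finite_adjoinRoot
  let T := AdjoinRoot g
  haveI : Module.Free R T := Module.Free.trans (R := R) (S := B) (M := T)
  haveI : Module.Finite R T := Module.Finite.trans B T
  let Ψ : T →ₐ[R] A := AdjoinRoot.liftAlgHom g ι u h0
  have hΨ : ∀ P : Polynomial B, Ψ (AdjoinRoot.mk g P) = P.eval₂ ι.toRingHom u := fun P =>
    AdjoinRoot.liftAlgHom_mk g ι u h0 P
  have hrange : ∀ y : A, ∃ N : ℕ, algebraMap R A c ^ N * y ∈ Set.range Ψ := by
    intro y
    induction hv y using Algebra.adjoin_induction with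
    | mem y hy =>
      obtain ⟨i, rfl⟩ := hy
      obtain ⟨b, b', hb⟩ := hvc i
      exact ⟨1, AdjoinRoot.mk g (Polynomial.C b + Polynomial.C b' * Polynomial.X), by
        rw [hΨ, pow_one, hb, Polynomial.eval₂_add, Polynomial.eval₂_mul, Polynomial.eval₂_C, Polynomial.eval₂_C,
          Polynomial.eval₂_X]; rfl⟩
    | algebraMap r => exact ⟨0, algebraMap R T r, by rw [AlgHom.commutes, pow_zero, one_mul]⟩
    | add q q' _ _ hq hq' =>
      obtain ⟨N, t, ht⟩ := hq; obtain ⟨N', t', ht'⟩ := hq'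
      exact ⟨N + N', algebraMap R T c ^ N' * t + algebraMap R T c ^ N * t', by
        simp only [map_add, map_mul, map_pow, AlgHom.commutes, ht, ht', pow_add]; ring⟩
    | mul q q' _ _ hq hq' =>
      obtain ⟨N, t, ht⟩ := hq; obtain ⟨N', t', ht'⟩ := hq'
      exact ⟨N + N', t * t', by simp only [map_mul, ht, ht', pow_add]; ring⟩
  have hΨinj : Function.Injective Ψ := by
    refine injective_of_almost_surjective (R := R) ?_ Ψ.toLinearMap fun y => ?_
    · rw [hrk, ← Module.finrank_mul_finrank R B T, PowerBasis.finrank (AdjoinRoot.powerBasis' hg),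
        AdjoinRoot.powerBasis'_dim]
    · obtain ⟨N, hN⟩ := hrange y
      exact ⟨c ^ N, pow_ne_zero _ hc, by rw [Algebra.smul_def, map_pow]; exact hN⟩
  refine ⟨fun y => ?_, fun P hP h => ?_⟩
  · obtain ⟨N, t, ht⟩ := hrange y
    obtain ⟨Q, rfl⟩ := AdjoinRoot.mk_surjective t
    refine ⟨N, Q %ₘ g, Polynomial.natDegree_modByMonic_lt Q hg fun h1 => ?_, ?_⟩
    · rw [h1, Polynomial.natDegree_one] at hd; omega
    · rw [← hΨ, ← ht]
      congr 1
      rw [AdjoinRoot.mk_eq_mk]
      exact ⟨Q /ₘ g, by linear_combination (-(1 : Polynomial B)) * Polynomial.modByMonic_add_div Q g⟩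
  · rw [← hΨ, map_eq_zero_iff Ψ hΨinj, AdjoinRoot.mk_eq_zero] at h
    by_contra hne
    exact hg.not_dvd_of_natDegree_lt hne hP h

theorem adjoin_gen {ι : Type} (f : ι → Polynomial R) (y : Sys f) : y ∈ Algebra.adjoin R (Set.range (gen f)) := by
  obtain ⟨P, rfl⟩ := Ideal.Quotient.mk_surjective y
  induction P using MvPolynomial.induction_on with
  | C r => exact Subalgebra.algebraMap_mem _ r
  | add q q' hq hq' => rw [map_add]; exact add_mem hq hq'
  | mul_X q i hq => rw [map_mul]; exact mul_mem hq (Algebra.subset_adjoin ⟨i, rfl⟩)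

theorem isIntegrallyClosed_away_of_retract {B A : Type*} [CommRing B] [IsDomain B] [CommRing A] [IsDomain A]
    [IsIntegrallyClosed A] {F : Type*} [FunLike F B A] [RingHomClass F B A] (ι : F) (hinj : Function.Injective ι)
    (c : B) (hc : c ≠ 0)
    (hret : ∀ (y : A) (s b : B), ι s * y = ι b → ∃ (N : ℕ) (w : B), s * w = c ^ N * b) :
    IsIntegrallyClosed (Localization.Away c) := by
  let L := Localization.Away c
  let K := FractionRing B
  have hle : Submonoid.powers c ≤ nonZeroDivisors B := powers_le_nonZeroDivisors_of_noZeroDivisors hc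
  haveI : IsDomain L := IsLocalization.isDomain_localization hle
  let jL : L →+* K := IsLocalization.Away.lift c (g := algebraMap B K)
    (isUnit_iff_ne_zero.mpr fun h => hc (IsFractionRing.injective B K (h.trans (map_zero _).symm)))
  letI : Algebra L K := jL.toAlgebra
  haveI : IsScalarTower B L K := IsScalarTower.of_algebraMap_eq fun b => (IsLocalization.Away.lift_eq c _ b).symm
  haveI : IsFractionRing L K := IsFractionRing.isFractionRing_of_isDomain_of_isLocalization (Submonoid.powers c) L K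
  refine (isIntegrallyClosed_iff K).mpr fun {x} hx => ?_
  obtain ⟨⟨_, N, rfl⟩, hm⟩ := hx.exists_multiple_integral_of_isLocalization (Submonoid.powers c) x
  obtain ⟨b, s, hs, hxb⟩ := IsFractionRing.div_surjective B x
  let j : K →+* FractionRing A := IsFractionRing.lift (g := (algebraMap A (FractionRing A)).comp (ι : B →+* A))
    ((IsFractionRing.injective A (FractionRing A)).comp hinj)
  have hj : ∀ b : B, j (algebraMap B K b) = algebraMap A (FractionRing A) (ι b) := fun b =>
    IsFractionRing.lift_algebraMap _ b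
  have hint : IsIntegral A (j ((c ^ N : B) • x)) := by
    obtain ⟨P, hP, hPx⟩ := hm
    refine ⟨P.map (ι : B →+* A), hP.map _, ?_⟩
    rw [Polynomial.eval₂_map, show (algebraMap A (FractionRing A)).comp (ι : B →+* A) = j.comp (algebraMap B K) from
      RingHom.ext fun b => (hj b).symm, ← Polynomial.hom_eval₂]
    exact (congrArg j hPx).trans (map_zero j)
  obtain ⟨y, hy⟩ := IsIntegrallyClosed.isIntegral_iff.mp hint
  have hsK : algebraMap B K s ≠ 0 :=
    IsFractionRing.to_map_ne_zero_of_mem_nonZeroDivisors hs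
  have h : ι s * y = ι (c ^ N * b) := by
    apply IsFractionRing.injective A (FractionRing A)
    rw [map_mul, hy, ← hj, ← hj, ← map_mul]
    congr 1
    rw [Algebra.smul_def, ← hxb, map_mul, mul_left_comm, mul_div_cancel₀ _ hsK]
  obtain ⟨M, w, hw⟩ := hret y s (c ^ N * b) h
  refine ⟨IsLocalization.mk' L w (⟨c ^ (M + N), M + N, rfl⟩ : Submonoid.powers c), ?_⟩
  have hcK : algebraMap B K (c ^ (M + N)) ≠ 0 := fun h =>
    pow_ne_zero _ hc (IsFractionRing.injective B K (h.trans (map_zero _).symm))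
  refine mul_right_cancel₀ hcK ?_
  conv_lhs => rw [IsScalarTower.algebraMap_apply B L K (c ^ (M + N)), ← map_mul, IsLocalization.mk'_spec,
    ← IsScalarTower.algebraMap_apply]
  rw [← hxb, div_mul_eq_mul_div, eq_div_iff hsK, ← map_mul, ← map_mul]
  exact congrArg _ (by rw [mul_comm, hw]; ring)

section Minor

variable (p : ℕ) [hp : Fact p.Prime] {n : ℕ} (a : Fin n → R) (μ : R) (x : Fin n → R) (i₀ : Fin n)

/-- The equations of the minor elements. -/
noncomputable abbrev mF : {j : Fin n // j ≠ i₀} → Polynomial R := fun j =>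
  asF p (fun i => (μ * a i₀ * a i) ^ (p - 1)) (fun i => a i₀ ^ p * x i - a i ^ p * x i₀) j.1

/-- The minor elements. -/
noncomputable abbrev mz (j : {j : Fin n // j ≠ i₀}) : asA p (fun i => μ * a i) x :=
  algebraMap R _ (a i₀) * au p (fun i => μ * a i) x j.1 - algebraMap R _ (a j.1) * au p (fun i => μ * a i) x i₀

variable [IsDomain R] [CharP R p]

omit [IsDomain R] in
theorem aeval_mz [Nontrivial R] (j : {j : Fin n // j ≠ i₀}) :
    Polynomial.aeval (mz p a μ x i₀ j) (mF p a μ x i₀ j) = 0 := by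
  haveI := charP_asA p (fun i => μ * a i) x
  have h1 := aeval_gen (asF p (fun i => (μ * a i) ^ (p - 1)) x) j.1
  have h2 := aeval_gen (asF p (fun i => (μ * a i) ^ (p - 1)) x) i₀
  rw [aeval_asF] at h1 h2 ⊢
  simp only [map_pow, map_mul, map_sub, mul_pow] at h1 h2 ⊢
  rw [sub_pow_char, mul_pow, mul_pow]
  have hq : ∀ t : asA p (fun i => μ * a i) x, t ^ p = t ^ (p - 1) * t := fun t => by
    rw [← pow_succ, Nat.sub_add_cancel hp.out.one_le]
  rw [hq (algebraMap R _ (a i₀)), hq (algebraMap R _ (a j.1))]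
  linear_combination (algebraMap R _ (a i₀)) ^ (p - 1) * algebraMap R _ (a i₀) * h1 -
    (algebraMap R _ (a j.1)) ^ (p - 1) * algebraMap R _ (a j.1) * h2

/-- The comparison map. -/
theorem exists_minor (ha0 : a i₀ ≠ 0) :
    ∃ ι : Sys (mF p a μ x i₀) →ₐ[R] asA p (fun i => μ * a i) x,
      (∀ j, ι (gen _ j) = mz p a μ x i₀ j) ∧ Function.Injective ι ∧
      Module.Free R (Sys (mF p a μ x i₀)) ∧ Module.finrank R (Sys (mF p a μ x i₀)) = p ^ (n - 1) ∧
      (∀ y, ∃ (N : ℕ) (P : Polynomial (Sys (mF p a μ x i₀))), P.natDegree < p ∧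
        algebraMap R _ (a i₀) ^ N * y = P.eval₂ ι.toRingHom (au p (fun i => μ * a i) x i₀)) ∧
      ∀ P : Polynomial (Sys (mF p a μ x i₀)), P.natDegree < p →
        P.eval₂ ι.toRingHom (au p (fun i => μ * a i) x i₀) = 0 → P = 0 := by
  let A := asA p (fun i => μ * a i) x
  let B := Sys (mF p a μ x i₀)
  obtain ⟨ι, hι⟩ := exists_lift (mF p a μ x i₀) (mz p a μ x i₀) (aeval_mz p a μ x i₀)
  obtain ⟨hf1, hf2, hf3⟩ := free_finite_finrank_ne (asF p (fun i => (μ * a i₀ * a i) ^ (p - 1))
    (fun i => a i₀ ^ p * x i - a i ^ p * x i₀)) i₀ (fun i => (monic_asF p _ _ i).1)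
    (fun i => by rw [(monic_asF p _ _ i).2]; exact hp.out.one_le)
  have hrk : Module.finrank R B = p ^ (n - 1) := by
    simp only [fun i => (monic_asF p (fun i => (μ * a i₀ * a i) ^ (p - 1))
      (fun i => a i₀ ^ p * x i - a i ^ p * x i₀) i).2, Finset.prod_const, Finset.card_univ, Fintype.card_fin] at hf3
    refine Nat.eq_of_mul_eq_mul_right hp.out.pos (hf3.trans ?_)
    rw [← pow_succ, Nat.sub_add_cancel (by have := i₀.2; omega)]
  haveI : Nontrivial B := Module.nontrivial_of_finrank_pos (R := R) (by rw [hrk]; exact pow_pos hp.out.pos _)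
  let g : Polynomial B := (asF p (fun i => (μ * a i) ^ (p - 1)) x i₀).map (algebraMap R B)
  have hg : g.Monic := (monic_asF p _ x i₀).1.map _
  have hgd : g.natDegree = p := ((monic_asF p _ x i₀).1.natDegree_map _).trans (monic_asF p _ x i₀).2
  obtain ⟨ha1, ha2, ha3⟩ := free_as p (fun i => (μ * a i) ^ (p - 1)) x
  haveI : Module.Finite R B := hf2
  haveI : Module.Free R B := hf1
  have h0 : Polynomial.eval₂ (ι : B →+* A) (au p (fun i => μ * a i) x i₀) g = 0 := by
    rw [Polynomial.eval₂_map, AlgHom.comp_algebraMap, ← Polynomial.aeval_def, aeval_gen]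
  obtain ⟨h1, h2⟩ := adjoin_root_coords ι (au p (fun i => μ * a i) x i₀) hg (by rw [hgd]; exact hp.out.one_le) h0
    (by rw [hgd, hrk, ← pow_succ, Nat.sub_add_cancel (by have := i₀.2; omega)]; exact ha3)
    (a i₀) ha0 (au p (fun i => μ * a i) x) (adjoin_gen _) fun i => by
      by_cases h : i = i₀
      · subst h
        exact ⟨0, algebraMap R B (a i), by rw [map_zero, zero_add, AlgHom.commutes]⟩
      · exact ⟨gen _ ⟨i, h⟩, algebraMap R B (a i), by rw [hι, AlgHom.commutes, sub_add_cancel]⟩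
  rw [hgd] at h1 h2
  exact ⟨ι, hι, (injective_iff_map_eq_zero ι).mpr fun b hb => Polynomial.C_eq_zero.mp
    (h2 _ (by rw [Polynomial.natDegree_C]; exact hp.out.pos) ((Polynomial.eval₂_C _ _).trans hb)), hf1, hrk, h1, h2⟩

omit hp [IsDomain R] [CharP R p] in
theorem sysI_mF : sysI (mF p a μ x i₀) = Ideal.span (Set.range fun j : {j : Fin n // j ≠ i₀} =>
    X j ^ p - C ((μ * a i₀ * a j.1) ^ (p - 1)) * X j - C (a i₀ ^ p * x j.1 - a j.1 ^ p * x i₀)) := by
  rw [sysI]
  congr 2
  funext j
  rw [aeval_asF]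
  rfl

theorem ker_aeval_mz (ha0 : a i₀ ≠ 0) : RingHom.ker (MvPolynomial.aeval (mz p a μ x i₀) :
    MvPolynomial {j : Fin n // j ≠ i₀} R →ₐ[R] asA p (fun i => μ * a i) x) = sysI (mF p a μ x i₀) := by
  obtain ⟨ι, hι, hinj, -⟩ := exists_minor p a μ x i₀ ha0
  have h : MvPolynomial.aeval (mz p a μ x i₀) = ι.comp (Ideal.Quotient.mkₐ R (sysI (mF p a μ x i₀))) :=
    MvPolynomial.algHom_ext fun j => by rw [MvPolynomial.aeval_X]; exact (hι j).symm
  ext P
  rw [RingHom.mem_ker, h, AlgHom.comp_apply, map_eq_zero_iff ι hinj]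
  exact Ideal.Quotient.eq_zero_iff_mem

theorem pow_mul_mem_adjoin_of_fixed (ha0 : a i₀ ≠ 0) (hμ : μ ≠ 0)
    (σ : asA p (fun i => μ * a i) x ≃ₐ[R] asA p (fun i => μ * a i) x)
    (hσ : ∀ i, σ (au p (fun i => μ * a i) x i) = au p (fun i => μ * a i) x i + algebraMap R _ (μ * a i))
    (t : asA p (fun i => μ * a i) x) (ht : σ t = t) :
    ∃ N : ℕ, algebraMap R _ (μ * a i₀) ^ N * t ∈ Algebra.adjoin R (Set.range (mz p a μ x i₀)) := by
  obtain ⟨ι, hι, hinj, hfree, hrk, hco, huniq⟩ := exists_minor p a μ x i₀ ha0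
  haveI : Nontrivial (Sys (mF p a μ x i₀)) :=
    Module.nontrivial_of_finrank_pos (R := R) (by rw [hrk]; exact pow_pos hp.out.pos _)
  haveI : CharP (Sys (mF p a μ x i₀)) p :=
    charP_of_injective_algebraMap (FaithfulSMul.algebraMap_injective R _) p
  have hfix : σ.toAlgHom.comp ι = ι := algHom_ext _ fun j => by
    show σ (ι _) = ι _
    rw [hι, map_sub, map_mul, map_mul, AlgEquiv.commutes, AlgEquiv.commutes, hσ, hσ, map_mul, map_mul]
    ring
  obtain ⟨N, P, hP, hNP⟩ := hco t
  have hinv : P.comp (Polynomial.X + Polynomial.C (algebraMap R _ (μ * a i₀))) = P := by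
    refine sub_eq_zero.mp (huniq _ ?_ ?_)
    · refine (Polynomial.natDegree_sub_le _ _).trans_lt (max_lt ?_ hP)
      refine lt_of_le_of_lt Polynomial.natDegree_comp_le ?_
      rwa [Polynomial.natDegree_X_add_C, mul_one]
    · rw [Polynomial.eval₂_sub, Polynomial.eval₂_comp, Polynomial.eval₂_add, Polynomial.eval₂_X, Polynomial.eval₂_C,
        show ι.toRingHom (algebraMap R _ (μ * a i₀)) = _ from ι.commutes _, ← hσ, sub_eq_zero]
      have h1 := congrArg σ hNP
      rw [map_mul, map_pow, AlgEquiv.commutes, ht, hNP] at h1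
      rw [h1]
      show Polynomial.eval₂ ι.toRingHom _ P = σ.toAlgHom.toRingHom (Polynomial.eval₂ ι.toRingHom _ P)
      rw [Polynomial.hom_eval₂, show σ.toAlgHom.toRingHom.comp ι.toRingHom = ι.toRingHom from
        congrArg AlgHom.toRingHom hfix]
      rfl
  have hd := poly_invariant p (fun s hs => by
      rw [← Algebra.smul_def] at hs
      exact (smul_eq_zero.mp hs).resolve_left (mul_ne_zero hμ ha0))
    (fun d h1 h2 => by
      have hu : IsUnit (d : ZMod p) := isUnit_iff_ne_zero.mpr fun hd => by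
        rw [ZMod.natCast_eq_zero_iff] at hd
        exact absurd (Nat.le_of_dvd h1 hd) (by omega)
      simpa using hu.map (ZMod.castHom (dvd_refl p) (Sys (mF p a μ x i₀)))) hP hinv
  obtain ⟨b, rfl⟩ := Polynomial.natDegree_eq_zero.mp hd
  rw [Polynomial.eval₂_C] at hNP
  refine ⟨N, ?_⟩
  rw [map_mul, mul_pow, mul_assoc, hNP, ← map_pow]
  refine mul_mem (Subalgebra.algebraMap_mem _ _) ?_
  have hmap : ι b ∈ (Algebra.adjoin R (Set.range (gen (mF p a μ x i₀)))).map ι := ⟨b, adjoin_gen _ b, rfl⟩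
  rw [AlgHom.map_adjoin, ← Set.range_comp] at hmap
  rwa [show (ι ∘ gen (mF p a μ x i₀)) = mz p a μ x i₀ from funext hι] at hmap

theorem domain_normal_away (ha0 : a i₀ ≠ 0) (hμ : μ ≠ 0) [IsDomain (asA p (fun i => μ * a i) x)]
    [IsIntegrallyClosed (asA p (fun i => μ * a i) x)] :
    Module.Free R (Sys (mF p a μ x i₀)) ∧ Module.finrank R (Sys (mF p a μ x i₀)) = p ^ (n - 1) ∧
      IsDomain (Sys (mF p a μ x i₀)) ∧
      IsIntegrallyClosed (Localization.Away (algebraMap R (Sys (mF p a μ x i₀)) (μ * a i₀))) := by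
  obtain ⟨ι, hι, hinj, hfree, hrk, hco, huniq⟩ := exists_minor p a μ x i₀ ha0
  haveI hdom : IsDomain (Sys (mF p a μ x i₀)) := hinj.isDomain ι
  refine ⟨hfree, hrk, hdom, isIntegrallyClosed_away_of_retract ι hinj
    (algebraMap R (Sys (mF p a μ x i₀)) (μ * a i₀)) (fun h => mul_ne_zero hμ ha0 ?_) fun y s b h => ?_⟩
  · exact FaithfulSMul.algebraMap_injective R _ (h.trans (map_zero _).symm)
  · obtain ⟨N, P, hP, hNP⟩ := hco y
    refine ⟨N, algebraMap R _ μ ^ N * P.coeff 0, ?_⟩
    have h0 : Polynomial.C s * P - Polynomial.C (b * algebraMap R _ (a i₀) ^ N) = 0 := by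
      refine huniq _ ?_ ?_
      · refine (Polynomial.natDegree_sub_le _ _).trans_lt (max_lt ((Polynomial.natDegree_C_mul_le _ _).trans_lt hP) ?_)
        rw [Polynomial.natDegree_C]; exact hp.out.pos
      · rw [Polynomial.eval₂_sub, Polynomial.eval₂_mul, Polynomial.eval₂_C, Polynomial.eval₂_C, ← hNP, map_mul,
          map_pow, show ι.toRingHom (algebraMap R _ (a i₀)) = _ from ι.commutes _]
        change ι s * _ - ι b * _ = 0
        rw [← h]; ring
    have h1 := congrArg (fun Q => Polynomial.coeff Q 0) h0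
    simp only [Polynomial.coeff_sub, Polynomial.coeff_C_mul, Polynomial.coeff_C_zero, Polynomial.coeff_zero,
      sub_eq_zero] at h1
    rw [map_mul, mul_pow, mul_left_comm, h1]; ring

end Minor

end Groth.Agent.H23Wild
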