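import Groth.Agent.H23Wild.Minor
import Groth.Agent.H05EGA4.CompleteNormalization

/-! # Minor elements over power series rings -/

set_option autoImplicit false

universe u

namespace Groth.Agent.H23Wild

theorem ne_zero_of_coprime {k : Type u} [Field k] {n : ℕ} (hn : 2 ≤ n) (a : Fin n → MvPowerSeries (Fin n) k)
    (ham : ∀ i, MvPowerSeries.constantCoeff (a i) = 0) (hcop : ∀ i j, i ≠ j → IsRelPrime (a i) (a j)) (i : Fin n) :
    a i ≠ 0 := fun h => by
  haveI : Nontrivial (Fin n) := Fin.nontrivial_iff_two_le.mpr hn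
  obtain ⟨j, hj⟩ := exists_ne i
  have h1 := hcop i j hj.symm
  rw [h, isRelPrime_zero_left] at h1
  have h2 := h1.map (MvPowerSeries.constantCoeff (σ := Fin n) (R := k))
  rw [ham j] at h2
  exact not_isUnit_zero h2

theorem charP_mvPowerSeries (p : ℕ) (k : Type u) [Field k] [CharP k p] (n : ℕ) : CharP (MvPowerSeries (Fin n) k) p :=
  charP_of_injective_ringHom (MvPowerSeries.C (σ := Fin n) (R := k)).injective p

theorem isDomain_normal_asA {k : Type u} [Field k] (p : ℕ) [hp : Fact p.Prime] {n : ℕ}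
    (a : Fin n → MvPowerSeries (Fin n) k) (ham : ∀ i, MvPowerSeries.constantCoeff (a i) = 0) :
    IsDomain (asA p a MvPowerSeries.X) ∧ IsIntegrallyClosed (asA p a MvPowerSeries.X) := by
  have hc : ∀ i, MvPowerSeries.constantCoeff (a i ^ (p - 1)) = 0 := fun i => by
    rw [map_pow, ham, zero_pow (Nat.sub_ne_zero_of_lt hp.out.one_lt)]
  haveI := (isRegularLocalRing_as p _ hc).1
  exact ⟨isDomain_as p _ hc, H05EGA4.isIntegrallyClosed_of_isRegularLocalRing _⟩

end Groth.Agent.H23Wild
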