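import Mathlib.RingTheory.Length
import Mathlib.RingTheory.Ideal.Quotient.Operations
import Mathlib.Algebra.BigOperators.Fin
import Mathlib.Tactic.LinearCombination

/-! # Lengths modulo products -/

set_option autoImplicit false

universe u v

namespace Groth.Agent.H23Wild

variable {A : Type u} [CommRing A]

theorem length_mul_decomp (J : Ideal A) (a b : A) :
    Module.length A (A ⧸ (J ⊔ Ideal.span {a * b})) ≤
        Module.length A (A ⧸ (J ⊔ Ideal.span {a})) + Module.length A (A ⧸ (J ⊔ Ideal.span {b})) ∧
      ((∀ z, a * z ∈ J → z ∈ J) → Module.length A (A ⧸ (J ⊔ Ideal.span {a * b})) =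
        Module.length A (A ⧸ (J ⊔ Ideal.span {a})) + Module.length A (A ⧸ (J ⊔ Ideal.span {b}))) := by
  set K := J ⊔ Ideal.span {a * b} with hK
  have h1 : J ⊔ Ideal.span {b} ≤ Submodule.comap (LinearMap.mulLeft A a) K := by
    refine sup_le (fun z hz => Submodule.mem_sup_left (Ideal.mul_mem_left J a hz)) ?_
    rw [Ideal.span_le, Set.singleton_subset_iff]
    exact Submodule.mem_sup_right (Ideal.mem_span_singleton_self _)
  let f : (A ⧸ (J ⊔ Ideal.span {b})) →ₗ[A] A ⧸ K := Submodule.mapQ _ _ (LinearMap.mulLeft A a) h1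
  have h2 : K ≤ J ⊔ Ideal.span {a} := sup_le le_sup_left (by
    rw [Ideal.span_le, Set.singleton_subset_iff]
    exact Submodule.mem_sup_right (Ideal.mem_span_singleton'.mpr ⟨b, mul_comm b a⟩))
  let g : (A ⧸ K) →ₗ[A] A ⧸ (J ⊔ Ideal.span {a}) := Submodule.factor h2
  have hg : Function.Surjective g := Submodule.factor_surjective h2
  have hex : Function.Exact f g := by
    intro y
    obtain ⟨y, rfl⟩ := Submodule.Quotient.mk_surjective _ y
    show Submodule.Quotient.mk y = 0 ↔ _
    rw [Submodule.Quotient.mk_eq_zero]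
    constructor
    · intro hy
      obtain ⟨j, hj, z, hz, rfl⟩ := Submodule.mem_sup.mp hy
      obtain ⟨c, rfl⟩ := Ideal.mem_span_singleton'.mp hz
      refine ⟨Submodule.Quotient.mk c, ?_⟩
      show Submodule.Quotient.mk (a * c) = _
      rw [Submodule.Quotient.eq, show a * c - (j + c * a) = -j by ring]
      exact Submodule.mem_sup_left (neg_mem hj)
    · rintro ⟨z, hz⟩
      obtain ⟨z, rfl⟩ := Submodule.Quotient.mk_surjective _ z
      have hz' : a * z - y ∈ K := (Submodule.Quotient.eq K).mp hz
      have := sub_mem (Submodule.mem_sup_right (Ideal.mem_span_singleton'.mpr ⟨z, mul_comm z a⟩) :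
        a * z ∈ J ⊔ Ideal.span {a}) (h2 hz')
      rwa [sub_sub_cancel] at this
  have hr : Function.Exact (LinearMap.range f).subtype g := by
    rw [LinearMap.exact_iff, Submodule.range_subtype, ← LinearMap.exact_iff]; exact hex
  have hlen := Module.length_eq_add_of_exact (LinearMap.range f).subtype g Subtype.val_injective hg hr
  have hle : Module.length A (LinearMap.range f) ≤ Module.length A (A ⧸ (J ⊔ Ideal.span {b})) :=
    Module.length_le_of_surjective f.rangeRestrict f.surjective_rangeRestrict
  refine ⟨by rw [hlen, add_comm]; exact add_le_add_right hle _, fun hreg => ?_⟩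
  have hinj : Function.Injective f := by
    rw [← LinearMap.ker_eq_bot, eq_bot_iff]
    intro z hz
    obtain ⟨z, rfl⟩ := Submodule.Quotient.mk_surjective _ z
    have hz' : a * z ∈ K := (Submodule.Quotient.mk_eq_zero K).mp hz
    obtain ⟨j, hj, w, hw, hjw⟩ := Submodule.mem_sup.mp hz'
    obtain ⟨c, rfl⟩ := Ideal.mem_span_singleton'.mp hw
    rw [Submodule.mem_bot, Submodule.Quotient.mk_eq_zero,
      show z = (z - c * b) + c * b by ring]
    refine Submodule.add_mem_sup (hreg _ ?_) (Ideal.mem_span_singleton'.mpr ⟨c, rfl⟩)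
    rw [show a * (z - c * b) = j by linear_combination -hjw]
    exact hj
  rw [hlen, add_comm, (LinearEquiv.ofInjective f hinj).length_eq]

theorem length_prod_le (J : Ideal A) {ι : Type*} (s : Finset ι) (y : ι → A) :
    Module.length A (A ⧸ (J ⊔ Ideal.span {∏ i ∈ s, y i})) ≤
      ∑ i ∈ s, Module.length A (A ⧸ (J ⊔ Ideal.span {y i})) := by
  classical
  induction s using Finset.induction_on with
  | empty =>
    haveI : Subsingleton (A ⧸ (J ⊔ Ideal.span {∏ i ∈ (∅ : Finset ι), y i})) :=
      Submodule.Quotient.subsingleton_iff.mpr (by simp)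
    rw [Module.length_eq_zero]; exact zero_le
  | insert i s hi ih =>
    rw [Finset.prod_insert hi, Finset.sum_insert hi]
    exact (length_mul_decomp J _ _).1.trans (add_le_add_right ih _)

theorem le_length_prod (J : Ideal A) {ι : Type*} (s : Finset ι) (y : ι → A)
    (hreg : ∀ i ∈ s, ∀ z, y i * z ∈ J → z ∈ J) :
    ∑ i ∈ s, Module.length A (A ⧸ (J ⊔ Ideal.span {y i})) ≤
      Module.length A (A ⧸ (J ⊔ Ideal.span {∏ i ∈ s, y i})) := by
  classical
  induction s using Finset.induction_on with
  | empty => simp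
  | insert i s hi ih =>
    rw [Finset.prod_insert hi, Finset.sum_insert hi,
      (length_mul_decomp J _ _).2 (hreg i (Finset.mem_insert_self _ _))]
    exact add_le_add_right (ih fun j hj => hreg j (Finset.mem_insert_of_mem hj)) _

/-- Removing one index from a generating family. -/
theorem span_update_eq {ι : Type*} [DecidableEq ι] [Fintype ι] (z : ι → A) (i : ι) (w : A) :
    Ideal.span (Set.range (Function.update z i w)) = Ideal.span (z '' {j | j ≠ i}) ⊔ Ideal.span {w} := by
  refine le_antisymm (Ideal.span_le.mpr ?_) (sup_le (Ideal.span_le.mpr ?_) ?_)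
  · rintro _ ⟨j, rfl⟩
    by_cases hj : j = i
    · subst hj; rw [Function.update_self]; exact Submodule.mem_sup_right (Ideal.mem_span_singleton_self _)
    · rw [Function.update_of_ne hj]; exact Submodule.mem_sup_left (Ideal.subset_span ⟨j, hj, rfl⟩)
  · rintro _ ⟨j, hj, rfl⟩
    exact Ideal.subset_span ⟨j, Function.update_of_ne hj _ _⟩
  · rw [Ideal.span_le, Set.singleton_subset_iff]
    exact Ideal.subset_span ⟨i, Function.update_self _ _ _⟩

end Groth.Agent.H23Wild
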